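import Cfsg.Agent.Lib.A8ThreeLocal.Setup

/-!
First consequences of the local data.
-/

set_option autoImplicit false

namespace CfsgLib.A8ThreeLocal

open Equiv Equiv.Perm

universe u

variable {G : Type u} [Group G]

theorem sign_of_pow_three {n : ℕ} {r : Perm (Fin n)} (hr : r ^ 3 = 1) : sign r = 1 := by
  have h := congrArg (sign : Perm (Fin n) → ℤˣ) hr
  rw [map_pow, map_one] at h
  rcases Int.units_eq_one_or (sign r) with e | e
  · exact e
  · rw [e] at h; exact absurd h (by decide)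

/-- A three-cycle in the second factor. -/
def r5 (r : Perm (Fin 5)) (hr : r ^ 3 = 1) : M35 := el 1 r (by rw [map_one, sign_of_pow_three hr])

theorem sq_ne_one_of_sign {m : M35} (h2 : m * m = 1) (hp : sign m.1.1 = 1) : m.1.1 = 1 :=
  even_three_invol _ hp (congrArg (fun w : M35 => w.1.1) h2)

namespace Loc

variable (L : Loc G)

/-- The distinguished element of order three. -/
abbrev z : G := L.ι zM

/-- An involution of the second factor. -/
abbrev a : G := L.ι aM

theorem z_ne_one : L.z ≠ 1 := fun e => by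
  have : zM = 1 := L.inj (e.trans (map_one _).symm)
  exact absurd this (by decide +kernel)

theorem z_pow : L.z ^ 3 = 1 := by rw [← map_pow, zu_pow.1, map_one]

theorem a_sq : L.a * L.a = 1 := by rw [← map_mul, ← map_one L.ι]; exact congrArg L.ι (by decide +kernel)

theorem a_ne_one : L.a ≠ 1 := fun e => by
  have : aM = 1 := L.inj (e.trans (map_one _).symm)
  exact absurd this (by decide +kernel)

/-- The centraliser of `z` consists of pairs of even permutations. -/
theorem mem_cz {g : G} (h : Commute g L.z) : ∃ m : M35, L.ι m = g ∧ sign m.1.1 = 1 ∧ sign m.1.2 = 1 := by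
  obtain ⟨m, rfl⟩ := L.cover g (Or.inl (by rw [h.eq, mul_inv_cancel_right]))
  have hm : m.1.1 * c3 = c3 * m.1.1 :=
    congrArg (fun w : M35 => w.1.1) (L.inj (by rw [map_mul, map_mul]; exact h.eq) : m * zM = zM * m)
  exact ⟨m, rfl, (cent_c3 _ hm).1, by rw [← M35.sign_eq]; exact (cent_c3 _ hm).1⟩

theorem commute_z {m : M35} (h : sign m.1.1 = 1) : Commute (L.ι m) L.z := by
  refine Commute.map (Subtype.ext (Prod.ext ?_ (by show m.1.2 * 1 = 1 * m.1.2; simp))) L.ι
  show m.1.1 * c3 = c3 * m.1.1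
  rcases even_three _ h with e | e | e <;> rw [e] <;> decide

theorem conj_r {r : Perm (Fin 5)} (hr : r ^ 3 = 1) (hr1 : r ≠ 1) :
    ∃ g : G, g * L.z * g⁻¹ = L.ι (r5 r hr) := by
  obtain ⟨g, hg⟩ := L.conjU
  obtain ⟨h, hhs, hh⟩ := three_conj r hr hr1
  refine ⟨L.ι (el 1 h (by rw [hhs, map_one])) * g, ?_⟩
  calc _ = L.ι (el 1 h (by rw [hhs, map_one])) * (g * L.z * g⁻¹) * (L.ι (el 1 h (by rw [hhs, map_one])))⁻¹ := by group
    _ = _ := by
      rw [hg, ← map_inv, ← map_mul, ← map_mul]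
      refine congrArg L.ι (Subtype.ext (Prod.ext (by show 1 * 1 * 1⁻¹ = (1 : Perm (Fin 3)); simp) ?_))
      show h * c034 * h⁻¹ = r
      rw [hh, mul_inv_cancel_right]

theorem card18' {r : Perm (Fin 5)} (hr : r ^ 3 = 1) (hr1 : r ≠ 1) :
    Nat.card (Subgroup.centralizer ({L.z * L.ι (r5 r hr)} : Set G)) = 18 := by
  obtain ⟨h, hhs, hh⟩ := three_conj r hr hr1
  have e : L.ι (el 1 h (by rw [hhs, map_one])) * (L.z * L.ι uM) * (L.ι (el 1 h (by rw [hhs, map_one])))⁻¹ =
      L.z * L.ι (r5 r hr) := by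
    rw [← map_inv, ← map_mul, ← map_mul, ← map_mul, ← map_mul]
    refine congrArg L.ι (Subtype.ext (Prod.ext (by show 1 * (c3 * 1) * 1⁻¹ = c3 * 1; simp) ?_))
    show h * (1 * c034) * h⁻¹ = 1 * r
    rw [one_mul, one_mul, hh, mul_inv_cancel_right]
  rw [← e, card_cent_conj]
  exact L.card18

/-- An even involution of the second factor is conjugate to the distinguished one. -/
theorem conj_a_of_even {m : M35} (h2 : m * m = 1) (h1 : m ≠ 1) (hp : sign m.1.1 = 1) :
    ∃ g : G, g * L.a * g⁻¹ = L.ι m := by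
  have hp1 := sq_ne_one_of_sign h2 hp
  have hq : sign m.1.2 = 1 := by rw [← M35.sign_eq, hp]
  have hq1 : m.1.2 ≠ 1 := fun e => h1 (Subtype.ext (Prod.ext hp1 e))
  obtain ⟨h, hhs, hh⟩ := invol_conj _ hq (congrArg (fun w : M35 => w.1.2) h2) hq1
  refine ⟨L.ι (el 1 h (by rw [hhs, map_one])), ?_⟩
  rw [← map_inv, ← map_mul, ← map_mul]
  refine congrArg L.ι (Subtype.ext (Prod.ext ?_ ?_))
  · show 1 * 1 * 1⁻¹ = m.1.1
    simp [hp1]
  · show h * a5 * h⁻¹ = m.1.2
    rw [hh, mul_inv_cancel_right]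

/-- An involution centralising an element of order three of the second factor is conjugate to the
distinguished one. -/
theorem conj_a {x : G} (hx : x * x = 1) (hx1 : x ≠ 1) {r : Perm (Fin 5)} (hr : r ^ 3 = 1) (hr1 : r ≠ 1)
    (hc : Commute x (L.ι (r5 r hr))) : ∃ g : G, g * L.a * g⁻¹ = x := by
  obtain ⟨g, hg⟩ := L.conj_r hr hr1
  have hc' : Commute (g⁻¹ * x * g) L.z := by
    have := hc.map (MulAut.conj g⁻¹).toMonoidHom
    simp only [MulEquiv.coe_toMonoidHom, MulAut.conj_apply, inv_inv] at this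
    rwa [← hg, show g⁻¹ * (g * L.z * g⁻¹) * g = L.z by group] at this
  obtain ⟨m, hm, hp, -⟩ := L.mem_cz hc'
  have hm2 : m * m = 1 := L.inj (by
    rw [map_mul, hm, map_one, show g⁻¹ * x * g * (g⁻¹ * x * g) = g⁻¹ * (x * x) * g by group, hx]; group)
  have hm1 : m ≠ 1 := fun e => hx1 (by
    rw [e, map_one] at hm
    calc x = g * (g⁻¹ * x * g) * g⁻¹ := by group
      _ = 1 := by rw [← hm]; group)
  obtain ⟨k, hk⟩ := L.conj_a_of_even hm2 hm1 hp
  refine ⟨g * k, ?_⟩
  calc g * k * L.a * (g * k)⁻¹ = g * (k * L.a * k⁻¹) * g⁻¹ := by group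
    _ = x := by rw [hk, hm]; group

variable [Finite G]

include L

/-- The order of the centraliser of an involution is not divisible by nine. -/
theorem not_nine {x : G} (hx : x * x = 1) (hx1 : x ≠ 1) :
    ¬ 9 ∣ Nat.card (Subgroup.centralizer ({x} : Set G)) := by
  haveI := Fact.mk Nat.prime_three
  intro h
  obtain ⟨Q, hQ⟩ := Sylow.exists_subgroup_card_pow_prime 3 (n := 2) (show 3 ^ 2 ∣ _ from h)
  set Q' := Q.map (Subgroup.centralizer ({x} : Set G)).subtype with hQ'
  have hQ'card : Nat.card Q' = 9 := by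
    rw [hQ', Subgroup.card_map_of_injective (Subgroup.subtype_injective _), hQ]; norm_num
  have hsyl : ∀ R : Subgroup G, Nat.card R = 9 → ∃ P : Sylow 3 G, (P : Subgroup G) = R := by
    intro R hR
    obtain ⟨P, hP⟩ := (IsPGroup.of_card (p := 3) (n := 2) (G := R) (by rw [hR]; norm_num)).exists_le_sylow
    refine ⟨P, (Subgroup.eq_of_le_of_card_ge hP ?_).symm⟩
    obtain ⟨k, hk⟩ := IsPGroup.iff_card.1 P.2
    rw [hk, hR]
    have hk2 : k ≤ 2 := by
      by_contra hk'
      exact L.notdvd ((dvd_trans (by norm_num) (pow_dvd_pow 3 (show 3 ≤ k by omega))).trans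
        (hk ▸ Subgroup.card_subgroup_dvd_card _))
    calc 3 ^ k ≤ 3 ^ 2 := Nat.pow_le_pow_right (by norm_num) hk2
      _ = 9 := by norm_num
  obtain ⟨P, hP⟩ := hsyl Q' hQ'card
  obtain ⟨P', hP'⟩ := hsyl L.D L.cardD
  obtain ⟨g, hg⟩ := MulAction.exists_smul_eq G P' P
  have hcomm : ∀ d ∈ L.D, Commute (g⁻¹ * x * g) d := by
    intro d hd
    have h1 : g * d * g⁻¹ ∈ Q' := by
      rw [← hP, ← hg, Sylow.coe_subgroup_smul, Subgroup.mem_smul_pointwise_iff_exists]
      exact ⟨d, hP'.symm ▸ hd, by simp [MulAut.conj_apply]⟩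
    have h2 : g * d * g⁻¹ ∈ Subgroup.centralizer ({x} : Set G) := by
      obtain ⟨w, -, hw⟩ := h1
      rw [← hw]; exact w.2
    have h3 := Subgroup.mem_centralizer_singleton_iff.1 h2
    calc g⁻¹ * x * g * d = g⁻¹ * (x * (g * d * g⁻¹)) * g := by group
      _ = g⁻¹ * (g * d * g⁻¹ * x) * g := by rw [h3]
      _ = d * (g⁻¹ * x * g) := by group
  have hmem : g⁻¹ * x * g ∈ L.D := by
    rw [← L.cd, Subgroup.mem_centralizer_iff]
    exact fun d hd => (hcomm d hd).symm.eq
  have h2 : orderOf (⟨_, hmem⟩ : L.D) = 2 := orderOf_eq_prime (Subtype.ext (by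
    rw [SubmonoidClass.coe_pow, pow_two]
    show g⁻¹ * x * g * (g⁻¹ * x * g) = 1
    calc _ = g⁻¹ * (x * x) * g := by group
      _ = 1 := by rw [hx]; group)) (fun e => hx1 (by
    have e' : g⁻¹ * x * g = 1 := congrArg Subtype.val e
    calc x = g * (g⁻¹ * x * g) * g⁻¹ := by group
      _ = 1 := by rw [e']; group))
  have h9 := orderOf_dvd_natCard (⟨_, hmem⟩ : L.D)
  rw [h2, L.cardD] at h9
  norm_num at h9

/-- An involution centralising an element whose centraliser has order eighteen is not conjugate to the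
distinguished one. -/
theorem sep {x w : G} (hw : w ^ 3 = 1) (hw18 : Nat.card (Subgroup.centralizer ({w} : Set G)) = 18)
    (hc : Commute x w) (g : G) : g * L.a * g⁻¹ ≠ x := by
  haveI := Fact.mk Nat.prime_three
  intro hg
  set C := Subgroup.centralizer ({x} : Set G) with hC
  have hx : x * x = 1 := by
    rw [← hg, show g * L.a * g⁻¹ * (g * L.a * g⁻¹) = g * (L.a * L.a) * g⁻¹ by group, L.a_sq]; group
  have hx1 : x ≠ 1 := fun e => L.a_ne_one (conj_eq_one_iff.1 (hg.trans e))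
  set z' := g * L.z * g⁻¹ with hz'
  have hz'C : z' ∈ C := by
    rw [hC, Subgroup.mem_centralizer_singleton_iff, ← hg, hz']
    have h1 : Commute L.a L.z := L.commute_z (by decide +kernel)
    calc g * L.z * g⁻¹ * (g * L.a * g⁻¹) = g * (L.z * L.a) * g⁻¹ := by group
      _ = g * (L.a * L.z) * g⁻¹ := by rw [h1.eq]
      _ = g * L.a * g⁻¹ * (g * L.z * g⁻¹) := by group
  have hwC : w ∈ C := Subgroup.mem_centralizer_singleton_iff.2 hc.symm.eq
  have hw1 : w ≠ 1 := fun e => by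
    rw [e, show Subgroup.centralizer ({(1 : G)} : Set G) = ⊤ from
      eq_top_iff.2 fun v _ => Subgroup.mem_centralizer_singleton_iff.2 (by simp), Subgroup.card_top] at hw18
    have := L.card180 ▸ Subgroup.card_le_card_group (Subgroup.centralizer ({L.z} : Set G))
    omega
  have hz'3 : z' ^ 3 = 1 := by rw [hz', conj_pow, L.z_pow]; group
  have hz'1 : z' ≠ 1 := fun e => L.z_ne_one (conj_eq_one_iff.1 e)
  have hsyl : ∀ v : C, (v : G) ^ 3 = 1 → (v : G) ≠ 1 → ∃ P : Sylow 3 C, (P : Subgroup C) = Subgroup.zpowers v := by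
    intro v h3 h1
    have ho : orderOf v = 3 := orderOf_eq_prime (Subtype.ext (by rw [SubmonoidClass.coe_pow]; exact h3))
      (fun e => h1 (congrArg Subtype.val e))
    obtain ⟨P, hP⟩ := (IsPGroup.of_card (p := 3) (n := 1) (G := Subgroup.zpowers v)
      (by rw [Nat.card_zpowers, ho]; norm_num)).exists_le_sylow
    refine ⟨P, (Subgroup.eq_of_le_of_card_ge hP ?_).symm⟩
    obtain ⟨k, hk⟩ := IsPGroup.iff_card.1 P.2
    rw [hk, Nat.card_zpowers, ho]
    have hk1 : k ≤ 1 := by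
      by_contra hk'
      exact L.not_nine hx hx1 ((dvd_trans (by norm_num) (pow_dvd_pow 3 (show 2 ≤ k by omega))).trans
        (hk ▸ Subgroup.card_subgroup_dvd_card _))
    calc 3 ^ k ≤ 3 ^ 1 := Nat.pow_le_pow_right (by norm_num) hk1
      _ = 3 := by norm_num
  obtain ⟨P, hP⟩ := hsyl ⟨w, hwC⟩ hw hw1
  obtain ⟨P', hP'⟩ := hsyl ⟨z', hz'C⟩ hz'3 hz'1
  obtain ⟨c, hc'⟩ := MulAction.exists_smul_eq C P P'
  have hmem : c * (⟨w, hwC⟩ : C) * c⁻¹ ∈ (P' : Subgroup C) := by
    rw [← hc', Sylow.coe_subgroup_smul, Subgroup.mem_smul_pointwise_iff_exists]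
    exact ⟨⟨w, hwC⟩, hP.symm ▸ Subgroup.mem_zpowers _, by simp [MulAut.conj_apply]⟩
  rw [hP', Subgroup.mem_zpowers_iff] at hmem
  obtain ⟨k, hk⟩ := hmem
  have hk' : z' ^ (k % 3) = (c : G) * w * (c : G)⁻¹ := by
    have h' : z' ^ k = (c : G) * w * (c : G)⁻¹ := by simpa using congrArg Subtype.val hk
    rwa [← Int.emod_add_mul_ediv k 3, zpow_add, zpow_mul,
      show z' ^ (3 : ℤ) = 1 from by rw [show (3 : ℤ) = ((3 : ℕ) : ℤ) from rfl, zpow_natCast, hz'3],
      one_zpow, mul_one] at h'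
  have h180 : Nat.card (Subgroup.centralizer ({z'} : Set G)) = 180 := by rw [hz', card_cent_conj, L.card180]
  have hw' : Nat.card (Subgroup.centralizer ({z' ^ (k % 3)} : Set G)) = 18 := by rw [hk', card_cent_conj, hw18]
  obtain h | h | h : k % 3 = 0 ∨ k % 3 = 1 ∨ k % 3 = 2 := by omega
  · rw [h, zpow_zero] at hk'
    exact hw1 (conj_eq_one_iff.1 hk'.symm)
  · rw [h, zpow_one, h180] at hw'; omega
  · rw [h, show z' ^ (2 : ℤ) = z'⁻¹ by
      rw [eq_inv_iff_mul_eq_one, show (2 : ℤ) = ((2 : ℕ) : ℤ) from rfl, zpow_natCast, ← pow_succ, hz'3],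
      card_cent_inv, h180] at hw'
    omega

end Loc

end CfsgLib.A8ThreeLocal
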