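import Cfsg.Agent.Lib.A8ThreeLocal.Eight
import Cfsg.Agent.Lib.A8ThreeLocal.Basic

/-!
Further finite checks in the alternating group of degree eight.
-/

set_option autoImplicit false
set_option maxRecDepth 8000

namespace CfsgLib.A8ThreeLocal

open Equiv Equiv.Perm

theorem y8_eq : emb (zM * r5 c123 (by decide)) = ⟨y8, Equiv.Perm.mem_alternatingGroup.2 (by decide +kernel)⟩ :=
  Subtype.ext (by show emb8 (zM * r5 c123 (by decide)).1 = y8; decide +kernel)

theorem s8_even : sign s8 = 1 := by decide +kernel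

theorem s8_y8 : s8 * y8 = y8 * s8 := by decide +kernel

theorem h8_spec : h8 * a8 * h8⁻¹ = (emb tM : Perm (Fin 8)) ∧ h8 * h8 = 1 := by
  show h8 * a8 * h8⁻¹ = emb8 tM.1 ∧ h8 * h8 = 1
  decide +kernel

theorem pow_twelve : ∀ p q : Perm (Fin 4), sign p * sign q = 1 → split8 (p, q) * a8 = a8 * split8 (p, q) →
    split8 (p, q) ^ 12 = 1 := by decide +kernel

theorem cube_moved : ∀ p q : Perm (Fin 4), sign p * sign q = 1 → split8 (p, q) * a8 = a8 * split8 (p, q) →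
    split8 (p, q) ^ 3 = 1 → split8 (p, q) ≠ 1 →
    ∃ c : Perm (Fin 4), sign c = 1 ∧ split8 (c, 1) * a8 = a8 * split8 (c, 1) ∧
      split8 (c, 1) * split8 (p, q) * (split8 (c, 1))⁻¹ * (split8 (p, q))⁻¹ ≠ 1 ∧
      (split8 (c, 1) * split8 (p, q) * (split8 (c, 1))⁻¹ * (split8 (p, q))⁻¹) ^ 2 = 1 := by decide +kernel

theorem sign_split8 (p q : Perm (Fin 4)) : sign (split8 (p, q)) = sign p * sign q := by
  show sign (finSumFinEquiv.permCongr (Perm.sumCongr p q)) = _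
  rw [sign_permCongr, sign_sumCongr]

/-- A fixed-point-free involutory automorphism of a finite group inverts every element. -/
theorem inverts_fpf {G : Type*} [Group G] [Finite G] {O : Subgroup G} {u : G} (hu : u * u = 1)
    (hn : ∀ o ∈ O, u * o * u⁻¹ ∈ O) (hfix : ∀ o ∈ O, u * o * u⁻¹ = o → o = 1) :
    ∀ o ∈ O, u * o * u⁻¹ = o⁻¹ := by
  have hi : u⁻¹ = u := inv_eq_of_mul_eq_one_left hu
  let f : O → O := fun o => ⟨(o : G)⁻¹ * (u * o * u⁻¹), mul_mem (inv_mem o.2) (hn _ o.2)⟩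
  have hf : Function.Injective f := by
    intro a b e
    have e' : (a : G)⁻¹ * (u * a * u⁻¹) = (b : G)⁻¹ * (u * b * u⁻¹) := congrArg Subtype.val e
    have : u * ((b : G) * (a : G)⁻¹) * u⁻¹ = (b : G) * (a : G)⁻¹ := by
      calc u * ((b : G) * (a : G)⁻¹) * u⁻¹
          = (b : G) * ((b : G)⁻¹ * (u * b * u⁻¹)) * (u * a * u⁻¹)⁻¹ := by group
        _ = (b : G) * ((a : G)⁻¹ * (u * a * u⁻¹)) * (u * a * u⁻¹)⁻¹ := by rw [e']
        _ = (b : G) * (a : G)⁻¹ := by group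
    exact (Subtype.ext (mul_inv_eq_one.1 (hfix _ (mul_mem b.2 (inv_mem a.2)) this))).symm
  intro o ho
  obtain ⟨w, hw⟩ := (Finite.injective_iff_surjective.1 hf) ⟨o, ho⟩
  have hw' : (w : G)⁻¹ * (u * w * u⁻¹) = o := congrArg Subtype.val hw
  rw [← hw', hi, mul_inv_rev, mul_inv_rev, mul_inv_rev, inv_inv, hi]
  calc u * ((w : G)⁻¹ * (u * w * u)) * u = u * (w : G)⁻¹ * u * w * (u * u) := by group
    _ = _ := by rw [hu]; group

end CfsgLib.A8ThreeLocal
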