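import Cfsg.Agent.Lib.A8ThreeLocal.Hom
import Cfsg.Agent.Lib.ZStar.Main
import Cfsg.Agent.Lib.A8ThreeLocal.EightChecks
import Cfsg.Agent.Lib.Comp.PComp

/-!
The centraliser of the first class of involutions lies in the alternating subgroup.
-/

set_option autoImplicit false
set_option maxRecDepth 8000

namespace CfsgLib.A8ThreeLocal

open Equiv Equiv.Perm

universe u

variable {G : Type u} [Group G] [Finite G]

namespace Loc

variable {L : Loc G} (H : L.HData)

/-- The first class of involutions. -/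
theorem emb_a : H.φ (emb aM) = L.a := H.agree aM

theorem emb_b : H.φ (emb bM) = L.ι bM := H.agree bM

/-- Involutions with fixed points map into the class of the distinguished one. -/
theorem HData.fix_conj {x : alternatingGroup (Fin 8)} (hx : x * x = 1) (hf : FixInvol x.1) :
    ∃ g : alternatingGroup (Fin 8), H.φ g * L.a * (H.φ g)⁻¹ = H.φ x := by
  have hx1 : x ≠ 1 := fun e => hf.2.1 (congrArg Subtype.val e)
  rcases invol_cases x hx hx1 with ⟨-, g, hg⟩ | ⟨g, hg⟩
  · refine ⟨g, ?_⟩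
    rw [← emb_a H, ← map_inv, ← map_mul, ← map_mul]
    exact congrArg H.φ (Subtype.ext (by
      show g.1 * (emb aM).1 * g.1⁻¹ = x.1
      rw [emb_aM]; exact hg))
  · exfalso
    obtain ⟨i, hi⟩ := hf.2.2
    rw [← hg] at hi
    have h2 : s8 (g.1⁻¹ i) = g.1⁻¹ i := by
      have := congrArg (g.1⁻¹ : Perm (Fin 8)) hi
      simpa using this
    exact (by decide +kernel : ∀ j, s8 j ≠ j) _ h2

/-- The other involutions are not conjugate to it. -/
theorem HData.conj_fix {x : alternatingGroup (Fin 8)} (hx : x * x = 1) (g : G)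
    (h : g * L.a * g⁻¹ = H.φ x) : FixInvol x.1 := by
  have hx1 : x ≠ 1 := fun e => L.a_ne_one (conj_eq_one_iff.1 (h.trans (by rw [e, map_one])))
  rcases invol_cases x hx hx1 with ⟨hf, -⟩ | ⟨k, hk⟩
  · exact hf
  exfalso
  set s : alternatingGroup (Fin 8) := ⟨s8, Equiv.Perm.mem_alternatingGroup.2 s8_even⟩
  have hxk : x = k * s * k⁻¹ := Subtype.ext hk.symm
  set y : G := L.z * L.ι (r5 c123 (by decide)) with hy
  have hy' : y = H.φ (emb (zM * r5 c123 (by decide))) := by rw [H.agree, map_mul]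
  have hc : Commute (H.φ s) y := by
    rw [hy']
    refine Commute.map ?_ H.φ
    rw [y8_eq]
    exact Subtype.ext s8_y8
  refine L.sep (x := H.φ s) (w := y) ?_ (L.card18' (r := c123) (by decide) (by decide)) hc ((H.φ k)⁻¹ * g) ?_
  · rw [hy, ← map_mul, ← map_pow, show (zM * r5 c123 (by decide)) ^ 3 = 1 by decide +kernel, map_one]
  · calc (H.φ k)⁻¹ * g * L.a * ((H.φ k)⁻¹ * g)⁻¹ = (H.φ k)⁻¹ * (g * L.a * g⁻¹) * H.φ k := by group
      _ = H.φ s := by rw [h, hxk, map_mul, map_mul, map_inv]; group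

/-- Elements centralising `a` and normalising the four-group lie in the subgroup. -/
theorem HData.norm_V {g : G} (ha : Commute g L.a)
    (hb : g * L.ι bM * g⁻¹ = L.ι bM ∨ g * L.ι bM * g⁻¹ = L.a * L.ι bM) : ∃ x, H.φ x = g := by
  rcases hb with hb | hb
  · exact H.centV g ha (mul_inv_eq_iff_eq_mul.1 hb)
  · have h1 : L.ι tM * g * L.ι bM * (L.ι tM * g)⁻¹ = L.ι bM := by
      calc L.ι tM * g * L.ι bM * (L.ι tM * g)⁻¹ = L.ι tM * (g * L.ι bM * g⁻¹) * (L.ι tM)⁻¹ := by group
        _ = L.ι bM := by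
          rw [hb, ← map_mul, ← map_mul, ← map_inv, ← map_mul]
          exact congrArg L.ι (by decide +kernel)
    have h2 : Commute (L.ι tM * g) L.a :=
      (Commute.map (by rw [commute_iff_eq]; decide +kernel : Commute tM aM) L.ι).mul_left ha
    obtain ⟨x, hx⟩ := H.centV _ h2 (mul_inv_eq_iff_eq_mul.1 h1)
    exact ⟨(emb tM)⁻¹ * x, by rw [map_mul, map_inv, hx, H.agree]; group⟩

theorem HData.cent_a (H : L.HData) {g₀ : G} (hg₀ : Commute g₀ L.a) : ∃ x, H.φ x = g₀ := by
  classical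
  haveI := Fact.mk Nat.prime_two
  set C := Subgroup.centralizer ({L.a} : Set G) with hC
  have memC : ∀ g, g ∈ C ↔ Commute g L.a := fun g => Subgroup.mem_centralizer_singleton_iff
  let aC : C := ⟨L.a, (memC _).2 (Commute.refl _)⟩
  let bC : C := ⟨L.ι bM, (memC _).2 (Commute.map (by rw [commute_iff_eq]; decide +kernel : Commute bM aM) L.ι)⟩
  have ha2 : ∀ k : ℤ, aC ^ k = 1 ∨ aC ^ k = aC := by
    intro k
    have h2 : aC ^ (2 : ℤ) = 1 := by
      rw [show (2 : ℤ) = ((2 : ℕ) : ℤ) from rfl, zpow_natCast, pow_two]; exact Subtype.ext L.a_sq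
    rw [← Int.emod_add_mul_ediv k 2, zpow_add, zpow_mul, h2, one_zpow, mul_one]
    obtain h | h : k % 2 = 0 ∨ k % 2 = 1 := by omega
    · left; rw [h, zpow_zero]
    · right; rw [h, zpow_one]
  set A := Subgroup.zpowers aC with hA
  haveI hAn : A.Normal := ⟨fun n hn g => by
    have hc : Commute g aC := Subtype.ext ((memC g.1).1 g.2).eq
    obtain ⟨k, rfl⟩ := Subgroup.mem_zpowers_iff.1 hn
    rw [(hc.zpow_right k).eq, mul_inv_cancel_right]
    exact zpow_mem (Subgroup.mem_zpowers _) k⟩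
  have hmem : ∀ x : C, x ∈ A ↔ x = 1 ∨ x = aC := fun x => by
    constructor
    · intro hx
      obtain ⟨k, rfl⟩ := Subgroup.mem_zpowers_iff.1 hx
      exact ha2 k
    · rintro (rfl | rfl)
      exacts [one_mem _, Subgroup.mem_zpowers _]
  have hab : L.a * L.ι bM = H.φ (emb (aM * bM)) := by rw [H.agree, map_mul]
  have hba : L.ι bM ≠ L.a := fun e => absurd (L.inj e) (by decide +kernel)
  -- the weak closure
  have hiso : Cfsg.IsIsolated (QuotientGroup.mk' A bC) := by
    intro q hq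
    obtain ⟨g, rfl⟩ := QuotientGroup.mk'_surjective A q
    rw [← map_inv, ← map_mul, ← map_mul] at hq ⊢
    set w := g * bC * g⁻¹ with hw
    have hw' : QuotientGroup.mk' A ((bC * w)⁻¹ * (w * bC)) = 1 := by
      rw [map_mul, map_inv, map_mul _ bC w, map_mul _ w bC, hq.eq, inv_mul_cancel]
    rw [QuotientGroup.mk'_apply, QuotientGroup.eq_one_iff, hmem] at hw'
    have hwv : (w : G) = (g : G) * L.ι bM * (g : G)⁻¹ := rfl
    have hwa : Commute (w : G) L.a := (memC _).1 w.2
    have hsq : (w : G) * w = 1 := by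
      rw [hwv, show (g : G) * L.ι bM * (g : G)⁻¹ * ((g : G) * L.ι bM * (g : G)⁻¹) =
        (g : G) * (L.ι bM * L.ι bM) * (g : G)⁻¹ by group, ← map_mul, show bM * bM = 1 by decide +kernel, map_one]
      group
    have hwb : (w : G) * L.ι bM * (w : G)⁻¹ = L.ι bM ∨ (w : G) * L.ι bM * (w : G)⁻¹ = L.a * L.ι bM := by
      rcases hw' with e | e
      · left
        rw [inv_mul_eq_one] at e
        have e' : L.ι bM * (w : G) = (w : G) * L.ι bM := congrArg Subtype.val e
        rw [← e', mul_inv_cancel_right]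
      · right
        rw [inv_mul_eq_iff_eq_mul] at e
        have e' : (w : G) * L.ι bM = L.ι bM * (w : G) * L.a := congrArg Subtype.val e
        rw [e', mul_assoc _ (w : G), hwa.eq, show L.ι bM * (L.a * (w : G)) * (w : G)⁻¹ = L.ι bM * L.a by group]
        exact (Commute.map (by rw [commute_iff_eq]; decide +kernel : Commute bM aM) L.ι).eq
    obtain ⟨x, hx⟩ := H.norm_V hwa hwb
    have hx2 : x * x = 1 := H.inj (by rw [map_mul, hx, hsq, map_one])
    have hxa : x * emb aM = emb aM * x := H.inj (by rw [map_mul, map_mul, hx, emb_a H, hwa.eq])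
    have hbconj : ∀ m : M35, m * m = 1 → m ≠ 1 → sign m.1.1 = 1 → ∀ y, y * y = 1 →
        H.φ y = (g : G) * L.ι m * (g : G)⁻¹ → FixInvol y.1 := by
      intro m h1 h2 h3 y hy1 hy
      obtain ⟨k, hk⟩ := L.conj_a_of_even h1 h2 h3
      refine H.conj_fix hy1 ((g : G) * k) ?_
      rw [hy, ← hk]; group
    have hf1 : FixInvol x.1 := hbconj bM (by decide +kernel) (by decide +kernel) (by decide +kernel) x hx2
      (hx.trans hwv)
    have hga : (g : G) * L.a * (g : G)⁻¹ = L.a := by rw [((memC _).1 g.2).eq, mul_inv_cancel_right]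
    have hax2 : emb aM * x * (emb aM * x) = 1 := by
      rw [show emb aM * x * (emb aM * x) = emb aM * (x * emb aM) * x by group, hxa,
        show emb aM * (emb aM * x) * x = emb aM * emb aM * (x * x) by group, hx2, ← map_mul,
        show aM * aM = 1 by decide +kernel, map_one, mul_one]
    have hf2 : FixInvol (a8 * x.1) := by
      have h := hbconj (aM * bM) (by decide +kernel) (by decide +kernel) (by decide +kernel) (emb aM * x) hax2 (by
        rw [map_mul, hx, emb_a H, hwv, map_mul L.ι]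
        calc L.a * ((g : G) * L.ι bM * (g : G)⁻¹) = (g : G) * L.a * (g : G)⁻¹ * ((g : G) * L.ι bM * (g : G)⁻¹) := by
              rw [hga]
          _ = _ := by group)
      rwa [Subgroup.coe_mul, emb_aM] at h
    have hxne : x.1 ≠ a8 := fun e => hba (by
      have : x = emb aM := Subtype.ext (e.trans emb_aM.symm)
      rw [this, emb_a H, hwv] at hx
      calc L.ι bM = (g : G)⁻¹ * ((g : G) * L.ι bM * (g : G)⁻¹) * (g : G) := by group
        _ = (g : G)⁻¹ * ((g : G) * L.a * (g : G)⁻¹) * (g : G) := by rw [← hx, hga]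
        _ = L.a := by group)
    have hxb : x.1 * b8 = b8 * x.1 ∨ x.1 * b8 = a8 * b8 * x.1 := by
      rcases hwb with e | e
      · left
        have h : x * emb bM = emb bM * x := H.inj (by
          rw [map_mul, map_mul, hx, emb_b H]; exact mul_inv_eq_iff_eq_mul.1 e)
        simpa [emb_bM] using congrArg Subtype.val h
      · right
        have h : x * emb bM = emb aM * emb bM * x := H.inj (by
          rw [map_mul, map_mul, map_mul, hx, emb_b H, emb_a H]; exact mul_inv_eq_iff_eq_mul.1 e)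
        simpa [emb_bM, emb_aM] using congrArg Subtype.val h
    have hxa' : x.1 * a8 = a8 * x.1 := by simpa [emb_aM] using congrArg Subtype.val hxa
    rcases cand (Equiv.Perm.mem_alternatingGroup.1 x.2) hf1 hf2 hxne hxa' hxb with
      e | e | ⟨c, d, hcs, hds, hcf, hdf, hca, hda, hcx, hdx, hc1, hc2, hc3, hd1, hd2, hd3, hcd⟩
    · refine congrArg (QuotientGroup.mk' A) (Subtype.ext ?_)
      rw [← hx, show x = emb bM from Subtype.ext (e.trans emb_bM.symm), emb_b H]
    · rw [QuotientGroup.mk'_eq_mk']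
      refine ⟨aC, Subgroup.mem_zpowers _, Subtype.ext ?_⟩
      show (w : G) * L.a = L.ι bM
      rw [← hx, show x = emb aM * emb bM from Subtype.ext (by rw [Subgroup.coe_mul, emb_aM, emb_bM]; exact e),
        map_mul, emb_a H, emb_b H, ← map_mul, ← map_mul, show aM * bM * aM = bM by decide +kernel]
    -- the exceptional shape
    exfalso
    have key : ∀ v : Perm (Fin 8), (hv : sign v = 1) → FixInvol v → v * a8 = a8 * v → v * x.1 = x.1 * v →
        v ≠ a8 → v ≠ x.1 → v ≠ a8 * x.1 → ∃ c₁ : alternatingGroup (Fin 8),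
          H.φ c₁ = (g : G)⁻¹ * H.φ ⟨v, Equiv.Perm.mem_alternatingGroup.2 hv⟩ * g ∧ c₁.1 4 = 4 := by
      intro v hv hvf hva hvx hv1 hv2 hv3
      set v' : alternatingGroup (Fin 8) := ⟨v, Equiv.Perm.mem_alternatingGroup.2 hv⟩
      have hv'2 : v' * v' = 1 := Subtype.ext hvf.1
      have hva' : Commute (H.φ v') L.a := by
        rw [← emb_a H]
        exact Commute.map (Subtype.ext (by show v * (emb aM).1 = (emb aM).1 * v; rw [emb_aM, hva])) H.φ
      have hvx' : Commute (H.φ v') ((g : G) * L.ι bM * (g : G)⁻¹) := by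
        rw [← hwv, ← hx]; exact Commute.map (Subtype.ext hvx) H.φ
      have e1 : Commute ((g : G)⁻¹ * H.φ v' * g) L.a := by
        have h := hva'.map (MulAut.conj (g : G)⁻¹).toMonoidHom
        simp only [MulEquiv.coe_toMonoidHom, MulAut.conj_apply, inv_inv] at h
        rwa [show (g : G)⁻¹ * L.a * g = L.a by rw [mul_assoc, ← ((memC _).1 g.2).eq, inv_mul_cancel_left]] at h
      have e2 : Commute ((g : G)⁻¹ * H.φ v' * g) (L.ι bM) := by
        have h := hvx'.map (MulAut.conj (g : G)⁻¹).toMonoidHom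
        simp only [MulEquiv.coe_toMonoidHom, MulAut.conj_apply, inv_inv] at h
        rwa [show (g : G)⁻¹ * ((g : G) * L.ι bM * (g : G)⁻¹) * g = L.ι bM by group] at h
      obtain ⟨c₁, hc₁⟩ := H.centV _ e1 e2
      have hc₁2 : c₁ * c₁ = 1 := H.inj (by
        rw [map_mul, hc₁, map_one, show (g : G)⁻¹ * H.φ v' * g * ((g : G)⁻¹ * H.φ v' * g) =
          (g : G)⁻¹ * (H.φ v' * H.φ v') * g by group, ← map_mul, hv'2, map_one]
        group)
      have hback : ∀ y u : alternatingGroup (Fin 8), c₁ = y → (g : G) * H.φ y * (g : G)⁻¹ = H.φ u → v = u.1 := by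
        intro y u hy hu
        rw [← hy, hc₁, show (g : G) * ((g : G)⁻¹ * H.φ v' * g) * (g : G)⁻¹ = H.φ v' by group] at hu
        exact congrArg Subtype.val (H.inj hu)
      refine ⟨c₁, hc₁, cent_ab (Equiv.Perm.mem_alternatingGroup.1 c₁.2) ?_ ?_ ?_ ?_ ?_ ?_⟩
      · have h : c₁ * emb aM = emb aM * c₁ := H.inj (by rw [map_mul, map_mul, hc₁, emb_a H, e1.eq])
        simpa [emb_aM] using congrArg Subtype.val h
      · have h : c₁ * emb bM = emb bM * c₁ := H.inj (by rw [map_mul, map_mul, hc₁, emb_b H, e2.eq])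
        simpa [emb_bM] using congrArg Subtype.val h
      · obtain ⟨k, hk⟩ := H.fix_conj hv'2 hvf
        refine H.conj_fix hc₁2 ((g : G)⁻¹ * H.φ k) ?_
        rw [hc₁, ← hk]; group
      · intro e
        exact hv1 ((hback (emb aM) (emb aM) (Subtype.ext (e.trans emb_aM.symm)) (by rw [emb_a H, hga])).trans emb_aM)
      · intro e
        exact hv2 (hback (emb bM) x (Subtype.ext (e.trans emb_bM.symm)) (by rw [emb_b H, hx, hwv]))
      · intro e
        refine hv3 ((hback (emb aM * emb bM) (emb aM * x) (Subtype.ext (by rw [Subgroup.coe_mul, emb_aM, emb_bM, e])) ?_).trans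
          (by rw [Subgroup.coe_mul, emb_aM]))
        rw [map_mul, map_mul, emb_a H, emb_b H, hx, hwv,
          show (g : G) * (L.a * L.ι bM) * (g : G)⁻¹ = (g : G) * L.a * (g : G)⁻¹ * ((g : G) * L.ι bM * (g : G)⁻¹) by
            group, hga]
    obtain ⟨c₁, hc₁, hc4⟩ := key c hcs hcf hca hcx hc1 hc2 hc3
    obtain ⟨d₁, hd₁, hd4⟩ := key d hds hdf hda hdx hd1 hd2 hd3
    refine four_moved c₁.1 d₁.1 hc4 hd4 ?_
    have h : c₁ * d₁ = emb bM := H.inj (by
      rw [map_mul, hc₁, hd₁, emb_b H, show (g : G)⁻¹ * H.φ ⟨c, Equiv.Perm.mem_alternatingGroup.2 hcs⟩ * g *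
        ((g : G)⁻¹ * H.φ ⟨d, Equiv.Perm.mem_alternatingGroup.2 hds⟩ * g) = (g : G)⁻¹ * (H.φ ⟨c,
          Equiv.Perm.mem_alternatingGroup.2 hcs⟩ * H.φ ⟨d, Equiv.Perm.mem_alternatingGroup.2 hds⟩) * g by group,
        ← map_mul, show (⟨c, Equiv.Perm.mem_alternatingGroup.2 hcs⟩ : alternatingGroup (Fin 8)) *
          ⟨d, Equiv.Perm.mem_alternatingGroup.2 hds⟩ = x from Subtype.ext hcd, hx, hwv]
      group)
    rw [← Subgroup.coe_mul, h, emb_bM]
  have hord : orderOf (QuotientGroup.mk' A bC) = 2 := by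
    refine orderOf_eq_prime ?_ fun e => ?_
    · rw [← map_pow, show bC ^ 2 = 1 from Subtype.ext (by
        rw [SubmonoidClass.coe_pow, pow_two]
        show L.ι bM * L.ι bM = 1
        rw [← map_mul, show bM * bM = 1 by decide +kernel, map_one]), map_one]
    · rw [QuotientGroup.mk'_apply, QuotientGroup.eq_one_iff, hmem] at e
      rcases e with e | e
      · exact absurd (L.inj ((congrArg Subtype.val e).trans (map_one L.ι).symm)) (by decide +kernel)
      · exact hba (congrArg Subtype.val e)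
  -- the preimage of the odd core, and its odd part
  set R := (Cfsg.pPrimeCore 2 (C ⧸ A)).comap (QuotientGroup.mk' A) with hR
  haveI : R.Normal := by
    exact Subgroup.Normal.comap inferInstance _
  have hcomm : ∀ y : C, bC * y * bC⁻¹ * y⁻¹ ∈ R := fun y => by
    rw [hR, Subgroup.mem_comap, map_mul, map_mul, map_mul, map_inv, map_inv]
    exact CfsgLib.ZStar.commutator_mem hord hiso _
  have hAR : A ≤ R := fun x hx => by
    rw [hR, Subgroup.mem_comap, QuotientGroup.mk'_apply, (QuotientGroup.eq_one_iff x).2 hx]; exact one_mem _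
  have hA2 : Nat.card A = 2 := by
    rw [Nat.card_zpowers]
    exact orderOf_eq_prime (Subtype.ext (by rw [SubmonoidClass.coe_pow, pow_two]; exact L.a_sq))
      fun e => L.a_ne_one (congrArg Subtype.val e)
  haveI : (A.subgroupOf R).Normal := Subgroup.Normal.subgroupOf hAn R
  have hidx : (A.subgroupOf R).index = Nat.card (Cfsg.pPrimeCore 2 (C ⧸ A)) := by
    have h := Subgroup.card_eq_card_quotient_mul_card_subgroup (A.subgroupOf R)
    rw [Subgroup.index]
    let f : R →* Cfsg.pPrimeCore 2 (C ⧸ A) := ((QuotientGroup.mk' A).comp R.subtype).codRestrict _ fun x => x.2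
    have hf : Function.Surjective f := by
      rintro ⟨q, hq⟩
      obtain ⟨y, rfl⟩ := QuotientGroup.mk'_surjective A q
      exact ⟨⟨y, hq⟩, rfl⟩
    have hk : f.ker = A.subgroupOf R := by
      ext x
      rw [MonoidHom.mem_ker, Subgroup.mem_subgroupOf, Subtype.ext_iff]
      exact QuotientGroup.eq_one_iff _
    exact Nat.card_congr ((QuotientGroup.quotientMulEquivOfEq hk).symm.trans
      (QuotientGroup.quotientKerEquivOfSurjective f hf)).toEquiv
  have hodd : Odd (A.subgroupOf R).index :=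
    hidx ▸ Nat.coprime_two_right.1 (CfsgLib.card_pPrimeCore_coprime 2)
  obtain ⟨O₀, hO₀⟩ := Subgroup.exists_right_complement'_of_coprime (N := A.subgroupOf R) (by
    rw [Nat.card_congr (Subgroup.subgroupOfEquivOfLe hAR).toEquiv, hA2]
    exact Nat.coprime_two_left.2 hodd)
  set O := O₀.map R.subtype with hO
  have hOR : O ≤ R := Subgroup.map_subtype_le _
  have hOodd : Odd (Nat.card O) := by
    rw [hO, Subgroup.card_map_of_injective R.subtype_injective]
    have h := hO₀.card_mul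
    have h2 := (A.subgroupOf R).card_mul_index
    rw [← h] at h2
    have := Nat.eq_of_mul_eq_mul_left Nat.card_pos h2
    rwa [this] at hodd
  have hOpow : ∀ x ∈ O, x ^ Nat.card O = 1 := fun x hx =>
    congrArg Subtype.val (pow_card_eq_one' (x := (⟨x, hx⟩ : O)))
  have haC : ∀ y : C, Commute y aC := fun y => Subtype.ext ((memC y.1).1 y.2).eq
  have hRO : ∀ y ∈ R, ∃ o ∈ O, y = o ∨ y = aC * o := by
    intro y hy
    obtain ⟨⟨⟨u, hu⟩, ⟨o, ho⟩⟩, huo⟩ := hO₀.2 ⟨y, hy⟩
    refine ⟨o, ⟨o, ho, rfl⟩, ?_⟩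
    have h : (u.1 : C) * o.1 = y := congrArg Subtype.val huo
    rcases (hmem _).1 (Subgroup.mem_subgroupOf.1 hu) with e | e
    · left; rw [← h, e, one_mul]
    · right; rw [← h, e]
  have hOmem : ∀ y ∈ R, ∀ n : ℕ, Odd n → y ^ n = 1 → y ∈ O := by
    intro y hy n hn h
    obtain ⟨o, ho, e | e⟩ := hRO y hy
    · exact e ▸ ho
    exfalso
    have h1 : (aC * o) ^ n = 1 := e ▸ h
    rw [(haC o).symm.mul_pow] at h1
    obtain ⟨k, hk⟩ := hn
    have haa : aC ^ 2 = 1 := Subtype.ext (by rw [SubmonoidClass.coe_pow, pow_two]; exact L.a_sq)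
    have han : aC ^ n = aC := by rw [hk, pow_succ, pow_mul, haa, one_pow, one_mul]
    rw [han] at h1
    have haO : aC ∈ O := by
      rw [eq_inv_of_mul_eq_one_left h1]; exact inv_mem (pow_mem ho n)
    have h2 : aC ^ Nat.card O = aC := by
      obtain ⟨l, hl⟩ := hOodd
      rw [hl, pow_succ, pow_mul, haa, one_pow, one_mul]
    exact L.a_ne_one (congrArg Subtype.val (h2.symm.trans (hOpow _ haO)))
  have hOn : ∀ y : C, ∀ o ∈ O, y * o * y⁻¹ ∈ O := fun y o ho =>
    hOmem _ ((inferInstance : R.Normal).conj_mem o (hOR ho) y) _ hOodd (by rw [conj_pow, hOpow o ho]; group)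
  -- elements of the subgroup centralising `a`
  have hsplit : ∀ x : alternatingGroup (Fin 8), Commute (H.φ x) L.a → ∃ p q, split8 (p, q) = x.1 ∧
      sign p * sign q = 1 ∧ split8 (p, q) * a8 = a8 * split8 (p, q) := by
    intro x hx
    have h : x * emb aM = emb aM * x := H.inj (by rw [map_mul, map_mul, emb_a H]; exact hx.eq)
    have h' : x.1 * a8 = a8 * x.1 := by simpa [emb_aM] using congrArg Subtype.val h
    obtain ⟨⟨p, q⟩, hpq⟩ := split_of_commute h'
    exact ⟨p, q, hpq, by rw [← sign_split8, hpq]; exact Equiv.Perm.mem_alternatingGroup.1 x.2, by rw [hpq, h']⟩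
  have h12 : ∀ x : alternatingGroup (Fin 8), Commute (H.φ x) L.a → x ^ 12 = 1 := by
    intro x hx
    obtain ⟨p, q, e, hs, hc⟩ := hsplit x hx
    exact Subtype.ext (by rw [SubmonoidClass.coe_pow, ← e]; exact pow_twelve p q hs hc)
  have hOH : ∀ y ∈ O, ∀ x, H.φ x = (y : G) → y = 1 := by
    intro y hy x hx
    have hxa : Commute (H.φ x) L.a := by rw [hx]; exact (memC _).1 y.2
    have hxn : x ^ Nat.card O = 1 := H.inj (by
      rw [map_pow, hx, ← SubmonoidClass.coe_pow, hOpow y hy, map_one]; rfl)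
    have h3 : x ^ 3 = 1 := by
      refine orderOf_dvd_iff_pow_eq_one.1 ?_
      have hd : orderOf x ∣ 4 * 3 := by
        rw [show 4 * 3 = 12 from rfl]; exact orderOf_dvd_of_pow_eq_one (h12 x hxa)
      refine Nat.Coprime.dvd_of_dvd_mul_left ?_ hd
      rw [show 4 = 2 ^ 2 from rfl]
      exact Nat.Coprime.pow_right 2 (Nat.coprime_two_right.2 (Odd.of_dvd_nat hOodd (orderOf_dvd_of_pow_eq_one hxn)))
    obtain ⟨p, q, e, hs, hc⟩ := hsplit x hxa
    by_contra hy1
    have hx1 : split8 (p, q) ≠ 1 := fun e' => hy1 (Subtype.ext (by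
      rw [← hx, show x = 1 from Subtype.ext (e.symm.trans e'), map_one]; rfl))
    obtain ⟨c, hc1, hc2, hc3, hc4⟩ := cube_moved p q hs hc
      (by rw [e, ← SubmonoidClass.coe_pow, h3]; rfl) hx1
    let c' : alternatingGroup (Fin 8) := ⟨split8 (c, 1), Equiv.Perm.mem_alternatingGroup.2 (by
      rw [sign_split8, hc1, map_one, one_mul])⟩
    have hcC : H.φ c' ∈ C := (memC _).2 (by
      rw [← emb_a H]; exact Commute.map (Subtype.ext (by
        show split8 (c, 1) * (emb aM).1 = (emb aM).1 * split8 (c, 1); rw [emb_aM]; exact hc2)) H.φ)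
    have hu : (⟨_, hcC⟩ : C) * y * (⟨_, hcC⟩ : C)⁻¹ * y⁻¹ ∈ O := mul_mem (hOn _ y hy) (inv_mem hy)
    have h2 := hOpow _ hu
    have hval : c' * x * c'⁻¹ * x⁻¹ = 1 := by
      have hn : (c' * x * c'⁻¹ * x⁻¹) ^ Nat.card O = 1 := H.inj (by
        rw [map_pow, map_mul, map_mul, map_mul, map_inv, map_inv, hx, map_one]
        exact congrArg Subtype.val h2)
      have hsq : (c' * x * c'⁻¹ * x⁻¹) ^ 2 = 1 := Subtype.ext (by
        simp only [SubmonoidClass.coe_pow, Subgroup.coe_mul, Subgroup.coe_inv, ← e]; exact hc4)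
      obtain ⟨l, hl⟩ := hOodd
      rwa [hl, pow_succ, pow_mul, hsq, one_pow, one_mul] at hn
    refine hc3 ?_
    have := congrArg Subtype.val hval
    simpa [c', e] using this
  have hzC : L.z ∈ C := (memC _).2 (L.commute_z (m := aM) (by decide +kernel)).symm
  have hOz : ∀ y ∈ O, Commute (y : G) L.z → y = 1 := by
    intro y hy hc
    obtain ⟨m, hm, -⟩ := L.mem_cz hc
    exact hOH y hy (emb m) (by rw [H.agree, hm])
  have hO3 : ¬ 3 ∣ Nat.card O := by
    intro h
    haveI := Fact.mk Nat.prime_three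
    obtain ⟨y, hy⟩ := exists_prime_orderOf_dvd_card' 3 h
    have hone : orderOf (⟨L.z, hzC⟩ : C) = 3 := orderOf_eq_prime (Subtype.ext L.z_pow)
      fun e => L.z_ne_one (congrArg Subtype.val e)
    have hP : ∀ v : C, orderOf v = 3 → ∃ P : Sylow 3 C, (P : Subgroup C) = Subgroup.zpowers v := by
      intro v hv
      obtain ⟨P, hP⟩ := (IsPGroup.of_card (p := 3) (n := 1) (G := Subgroup.zpowers v)
        (by rw [Nat.card_zpowers, hv]; norm_num)).exists_le_sylow
      refine ⟨P, (Subgroup.eq_of_le_of_card_ge hP ?_).symm⟩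
      obtain ⟨k, hk⟩ := IsPGroup.iff_card.1 P.2
      rw [hk, Nat.card_zpowers, hv]
      have hk1 : k ≤ 1 := by
        by_contra hk'
        exact L.not_nine L.a_sq L.a_ne_one ((dvd_trans (by norm_num) (pow_dvd_pow 3 (show 2 ≤ k by omega))).trans
          (hk ▸ Subgroup.card_subgroup_dvd_card _))
      calc 3 ^ k ≤ 3 ^ 1 := Nat.pow_le_pow_right (by norm_num) hk1
        _ = 3 := by norm_num
    obtain ⟨P, hPy⟩ := hP y.1 (by rw [Subgroup.orderOf_coe, hy])
    obtain ⟨P', hPz⟩ := hP _ hone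
    obtain ⟨c, hc⟩ := MulAction.exists_smul_eq C P P'
    have hz : (⟨L.z, hzC⟩ : C) ∈ O := by
      have h1 : (⟨L.z, hzC⟩ : C) ∈ (P' : Subgroup C) := hPz.symm ▸ Subgroup.mem_zpowers _
      rw [← hc, Sylow.coe_subgroup_smul, Subgroup.mem_smul_pointwise_iff_exists] at h1
      obtain ⟨w, hw, e⟩ := h1
      rw [hPy, Subgroup.mem_zpowers_iff] at hw
      obtain ⟨k, rfl⟩ := hw
      rw [← e]
      simpa [MulAut.conj_apply] using hOn c _ (zpow_mem y.2 k)
    have h := hOH _ hz (emb zM) (by rw [H.agree])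
    exact L.z_ne_one (congrArg Subtype.val h)
  have hbab : ∀ y ∈ O, bC * y * bC⁻¹ = y⁻¹ := by
    refine inverts_fpf (Subtype.ext ?_) (fun o ho => hOn bC o ho) ?_
    · show L.ι bM * L.ι bM = 1
      rw [← map_mul, show bM * bM = 1 by decide +kernel, map_one]
    · intro o ho e
      obtain ⟨x, hx⟩ := H.centV (o : G) ((memC _).1 o.2)
        (mul_inv_eq_iff_eq_mul.1 (congrArg Subtype.val e : L.ι bM * (o : G) * (L.ι bM)⁻¹ = o)).symm
      exact hOH o ho x hx
  -- odd elements of order prime to three lie in `O`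
  have hodd_mem : ∀ y : C, Nat.Coprime (orderOf y) 6 → y ∈ O := by
    intro y hy
    set n := orderOf y with hn
    have hn2 : Odd n := Nat.coprime_two_right.1 (hy.coprime_dvd_right (by norm_num))
    have hb2 : bC⁻¹ = bC := inv_eq_of_mul_eq_one_right (Subtype.ext (by
      show L.ι bM * L.ι bM = 1
      rw [← map_mul, show bM * bM = 1 by decide +kernel, map_one]))
    set r := y * bC * y⁻¹ * bC⁻¹ with hr
    have hrR : r ∈ R := by
      have h := inv_mem (hcomm y)
      rwa [mul_inv_rev, mul_inv_rev, mul_inv_rev, inv_inv, inv_inv,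
        show y * (bC * (y⁻¹ * bC⁻¹)) = r by rw [hr]; group] at h
    set y' := y * y with hy'
    have hy'b : ∃ o ∈ O, y' * bC * y'⁻¹ = o * bC := by
      have he : y' * bC * y'⁻¹ = y * r * y⁻¹ * r * bC := by rw [hy', hr]; group
      obtain ⟨o, ho, e⟩ := hRO r hrR
      refine ⟨y * r * y⁻¹ * r, ?_, he⟩
      rcases e with e | e
      · rw [e]; exact mul_mem (hOn y o ho) ho
      · rw [e, show y * (aC * o) * y⁻¹ * (aC * o) = y * aC * y⁻¹ * ((y * o * y⁻¹) * aC) * o by group, (haC y).eq,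
          (haC (y * o * y⁻¹)).eq, mul_inv_cancel_right, ← mul_assoc, ← mul_assoc,
          show aC * aC = 1 from Subtype.ext L.a_sq, one_mul]
        exact mul_mem (hOn y o ho) ho
    obtain ⟨o, ho, hyb⟩ := hy'b
    obtain ⟨l, hl⟩ := hOodd
    set σ := o ^ (l + 1) with hσ
    have hσO : σ ∈ O := pow_mem ho _
    have hσb : σ * bC * σ⁻¹ = o * bC := by
      have h := hbab σ⁻¹ (inv_mem hσO)
      rw [inv_inv] at h
      calc σ * bC * σ⁻¹ = σ * (bC * σ⁻¹ * bC⁻¹) * bC := by group
        _ = σ * σ * bC := by rw [h]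
        _ = o * bC := by
          rw [hσ, ← pow_add, show l + 1 + (l + 1) = (2 * l + 1) + 1 by omega, pow_succ, ← hl, hOpow o ho, one_mul]
    set k := σ⁻¹ * y' with hk
    have hkb : Commute (k : G) (L.ι bM) := by
      have h : k * bC * k⁻¹ = bC := by
        calc k * bC * k⁻¹ = σ⁻¹ * (y' * bC * y'⁻¹) * σ := by rw [hk]; group
          _ = σ⁻¹ * (σ * bC * σ⁻¹) * σ := by rw [hyb, hσb]
          _ = bC := by group
      exact mul_inv_eq_iff_eq_mul.1 (congrArg Subtype.val h)
    obtain ⟨x, hx⟩ := H.centV (k : G) ((memC _).1 k.2) hkb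
    have hpow : ∀ m : ℕ, k ^ m * (y' ^ m)⁻¹ ∈ O := by
      intro m
      induction m with
      | zero => simp
      | succ m ih =>
        have h : k ^ (m + 1) * (y' ^ (m + 1))⁻¹ = (k ^ m * σ⁻¹ * (k ^ m)⁻¹) * (k ^ m * (y' ^ m)⁻¹) := by
          rw [pow_succ, pow_succ, hk]; group
        rw [h]
        exact mul_mem (hOn _ _ (inv_mem hσO)) ih
    have hkn : k ^ n ∈ O := by
      have h := hpow n
      rwa [show y' ^ n = 1 by rw [hy', (Commute.refl y).mul_pow, hn, pow_orderOf_eq_one, one_mul], inv_one,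
        mul_one] at h
    have hkn1 : k ^ n = 1 := hOH _ hkn (x ^ n) (by rw [map_pow, hx, SubmonoidClass.coe_pow])
    have hx12 : x ^ 12 = 1 := h12 x (by rw [hx]; exact (memC _).1 k.2)
    have hxn : x ^ n = 1 := H.inj (by rw [map_pow, hx, ← SubmonoidClass.coe_pow, hkn1, map_one]; rfl)
    have hx1 : x = 1 := orderOf_eq_one_iff.1 (Nat.eq_one_of_dvd_coprimes
      (show Nat.Coprime n 12 from (Nat.Coprime.pow_right 2 hy).coprime_dvd_right (by norm_num))
      (orderOf_dvd_of_pow_eq_one hxn) (orderOf_dvd_of_pow_eq_one hx12))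
    have hk1 : k = 1 := Subtype.ext (by rw [← hx, hx1, map_one]; rfl)
    have hy'O : y' ∈ O := by
      have : σ = y' := by rwa [hk, inv_mul_eq_one] at hk1
      exact this ▸ hσO
    obtain ⟨j, hj⟩ := hn2
    have : y = y' ^ (j + 1) := by
      rw [hy', ← pow_two, ← pow_mul, show 2 * (j + 1) = (2 * j + 1) + 1 by omega, pow_succ, ← hj, hn,
        pow_orderOf_eq_one, one_mul]
    rw [this]; exact pow_mem hy'O _
  -- the involution `t` inverts `O`
  let tC : C := ⟨L.ι tM, (memC _).2 (Commute.map (by rw [commute_iff_eq]; decide +kernel : Commute tM aM) L.ι)⟩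
  have ht2 : tC * tC = 1 := Subtype.ext (by
    show L.ι tM * L.ι tM = 1
    rw [← map_mul, show tM * tM = 1 by decide +kernel, map_one])
  set h := H.φ ⟨h8, Equiv.Perm.mem_alternatingGroup.2 h8_even⟩ with hh
  have hh2 : h⁻¹ = h := inv_eq_of_mul_eq_one_right (by
    rw [hh, ← map_mul, show (⟨h8, _⟩ : alternatingGroup (Fin 8)) * ⟨h8, _⟩ = 1 from Subtype.ext h8_spec.2, map_one])
  have hat : h * L.a * h⁻¹ = L.ι tM := by
    rw [hh, ← emb_a H, ← map_inv, ← map_mul, ← map_mul, ← H.agree tM]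
    refine congrArg H.φ (Subtype.ext ?_)
    show h8 * (emb aM).1 * h8⁻¹ = (emb tM).1
    rw [emb_aM, h8_spec.1]
  have htinv : ∀ y ∈ O, tC * y * tC⁻¹ = y⁻¹ := by
    refine inverts_fpf ht2 (fun o ho => hOn tC o ho) ?_
    intro o ho e
    have hot : Commute (o : G) (L.ι tM) :=
      (mul_inv_eq_iff_eq_mul.1 (congrArg Subtype.val e : L.ι tM * (o : G) * (L.ι tM)⁻¹ = o)).symm
    have hcop : Nat.Coprime (orderOf o) 6 := by
      have hd : orderOf o ∣ Nat.card O := orderOf_dvd_of_pow_eq_one (hOpow o ho)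
      refine Nat.Coprime.coprime_dvd_left hd ?_
      rw [show (6 : ℕ) = 2 * 3 from rfl]
      exact Nat.Coprime.mul_right (Nat.coprime_two_right.2 hOodd)
        ((Nat.Prime.coprime_iff_not_dvd Nat.prime_three).2 hO3).symm
    have ho'C : h⁻¹ * (o : G) * h ∈ C := (memC _).2 (by
      have := hot.map (MulAut.conj h⁻¹).toMonoidHom
      simp only [MulEquiv.coe_toMonoidHom, MulAut.conj_apply, inv_inv] at this
      rwa [← hat, show h⁻¹ * (h * L.a * h⁻¹) * h = L.a by group] at this)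
    have ho' : (⟨_, ho'C⟩ : C) ∈ O := hodd_mem _ (by
      have e' : orderOf (⟨_, ho'C⟩ : C) = orderOf o := by
        rw [← Subgroup.orderOf_coe, ← Subgroup.orderOf_coe o]
        exact MulEquiv.orderOf_eq (MulAut.conj h).symm (o : G)
      rwa [e'])
    have hb' : h * L.ι bM * h⁻¹ * (o : G) * (h * L.ι bM * h⁻¹)⁻¹ = (o : G)⁻¹ := by
      have e1 := congrArg Subtype.val (hbab _ ho')
      change L.ι bM * (h⁻¹ * (o : G) * h) * (L.ι bM)⁻¹ = (h⁻¹ * (o : G) * h)⁻¹ at e1
      calc _ = h * (L.ι bM * (h⁻¹ * (o : G) * h) * (L.ι bM)⁻¹) * h⁻¹ := by group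
        _ = (o : G)⁻¹ := by rw [e1]; group
    set w := L.ι bM * (h * L.ι bM * h⁻¹) with hw
    have hwo : Commute w (o : G) := by
      refine mul_inv_eq_iff_eq_mul.1 ?_
      have e1 : L.ι bM * (o : G)⁻¹ * (L.ι bM)⁻¹ = o := by
        have := congrArg Subtype.val (hbab o⁻¹ (inv_mem ho))
        simpa using this
      calc w * (o : G) * w⁻¹ = L.ι bM * (h * L.ι bM * h⁻¹ * (o : G) * (h * L.ι bM * h⁻¹)⁻¹) * (L.ι bM)⁻¹ := by
            rw [hw]; group
        _ = o := by rw [hb', e1]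
    have hw18 : Nat.card (Subgroup.centralizer ({w} : Set G)) = 18 := by
      set k := H.φ ⟨k8, Equiv.Perm.mem_alternatingGroup.2 k8_even⟩
      have h18 := L.card18' (r := c123) (by decide) (by decide)
      rw [← map_mul, ← H.agree, y8_eq] at h18
      have hww : w = H.φ (emb bM * (⟨h8, Equiv.Perm.mem_alternatingGroup.2 h8_even⟩ * emb bM *
          (⟨h8, Equiv.Perm.mem_alternatingGroup.2 h8_even⟩)⁻¹)) := by
        rw [map_mul, map_mul, map_mul, map_inv, emb_b H, hw, hh]
      rcases k8_spec with e1 | e1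
      · rw [← card_cent_conj k] at h18
        refine Eq.trans ?_ h18
        rw [hww, ← map_inv, ← map_mul, ← map_mul]
        refine congrArg (fun v => Nat.card (Subgroup.centralizer ({H.φ v} : Set G))) (Subtype.ext ?_)
        show (emb bM).1 * (h8 * (emb bM).1 * h8⁻¹) = k8 * y8 * k8⁻¹
        rw [emb_bM, e1]
      · rw [← card_cent_inv, ← card_cent_conj k] at h18
        refine Eq.trans ?_ h18
        rw [hww, ← map_inv, ← map_inv, ← map_mul, ← map_mul]
        refine congrArg (fun v => Nat.card (Subgroup.centralizer ({H.φ v} : Set G))) (Subtype.ext ?_)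
        show (emb bM).1 * (h8 * (emb bM).1 * h8⁻¹) = k8 * y8⁻¹ * k8⁻¹
        rw [emb_bM, e1]
    have h6 := orderOf_dvd_natCard (⟨(o : G), Subgroup.mem_centralizer_singleton_iff.2 hwo.symm.eq⟩ :
      Subgroup.centralizer ({w} : Set G))
    rw [← Subgroup.orderOf_coe, hw18] at h6
    replace h6 : orderOf o ∣ 18 := by rw [← Subgroup.orderOf_coe o]; exact h6
    exact orderOf_eq_one_iff.1 (Nat.eq_one_of_dvd_coprimes
      ((Nat.Coprime.pow_right 2 hcop).coprime_dvd_right (by norm_num : 18 ∣ 6 ^ 2)) dvd_rfl h6)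
  have hO1 : ∀ y ∈ O, y = 1 := by
    intro y hy
    refine hOz y hy ?_
    set zC : C := ⟨L.z, hzC⟩
    have htz : tC * zC * tC⁻¹ = zC⁻¹ := Subtype.ext (by
      show L.ι tM * L.ι zM * (L.ι tM)⁻¹ = (L.ι zM)⁻¹
      rw [← map_inv, ← map_inv, ← map_mul, ← map_mul, tM_spec.1])
    have h1 := htinv _ (hOn zC y hy)
    have h2 := htinv y hy
    have h3 : zC⁻¹ * y⁻¹ * zC = zC * y⁻¹ * zC⁻¹ := by
      calc zC⁻¹ * y⁻¹ * zC = (tC * zC * tC⁻¹) * (tC * y * tC⁻¹) * (tC * zC * tC⁻¹)⁻¹ := by rw [htz, h2]; group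
        _ = tC * (zC * y * zC⁻¹) * tC⁻¹ := by group
        _ = (zC * y * zC⁻¹)⁻¹ := h1
        _ = zC * y⁻¹ * zC⁻¹ := by group
    have h4 : Commute (zC * zC) y⁻¹ := by
      calc zC * zC * y⁻¹ = zC * (zC * y⁻¹ * zC⁻¹) * zC := by group
        _ = zC * (zC⁻¹ * y⁻¹ * zC) * zC := by rw [h3]
        _ = y⁻¹ * (zC * zC) := by group
    have h5 : Commute zC y := by
      have h6 := (Commute.inv_right h4).pow_left 2
      rw [inv_inv, show (zC * zC) ^ 2 = zC ^ 3 * zC by rw [pow_two, pow_three]; group,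
        show zC ^ 3 = 1 from Subtype.ext L.z_pow, one_mul] at h6
      exact h6
    exact (congrArg Subtype.val h5.eq : L.z * (y : G) = (y : G) * L.z).symm
  let g : C := ⟨g₀, (memC _).2 hg₀⟩
  obtain ⟨o, ho, he⟩ := hRO _ (inv_mem (hcomm g))
  rw [hO1 o ho] at he
  refine H.norm_V hg₀ ?_
  rcases he with e | e
  · left
    have e' : g * (bC * g⁻¹ * bC⁻¹) = 1 := by rw [← e]; group
    have e'' : g₀ * (L.ι bM * g₀⁻¹ * (L.ι bM)⁻¹) = 1 := congrArg Subtype.val e'
    calc g₀ * L.ι bM * g₀⁻¹ = g₀ * (L.ι bM * g₀⁻¹ * (L.ι bM)⁻¹) * L.ι bM := by group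
      _ = L.ι bM := by rw [e'', one_mul]
  · right
    rw [mul_one] at e
    have e' : g * (bC * g⁻¹ * bC⁻¹) = aC := by rw [← e]; group
    have e'' : g₀ * (L.ι bM * g₀⁻¹ * (L.ι bM)⁻¹) = L.a := congrArg Subtype.val e'
    calc g₀ * L.ι bM * g₀⁻¹ = g₀ * (L.ι bM * g₀⁻¹ * (L.ι bM)⁻¹) * L.ι bM := by group
      _ = L.a * L.ι bM := by rw [e'']

end Loc

end CfsgLib.A8ThreeLocal
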