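import Cfsg.Agent.S2530
import Cfsg.Agent.Lib.ShortPres.Carmichael

/-!
Moore's generators and relations for the alternating group of degree eight.
-/

set_option autoImplicit false

namespace CfsgLib.A8ThreeLocal

open Equiv Equiv.Perm CfsgLib.ShortPres

universe u

/-- The involution `(0 1)(j+2 j+3)`. -/
def gP (j : Fin 5) : Perm (Fin 8) :=
  swap 0 1 * swap ⟨j.val + 2, by omega⟩ ⟨j.val + 3, by omega⟩

/-- The three-cycle `(0 1 2)`. -/
def zP : Perm (Fin 8) := swap 0 2 * swap 0 1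

theorem gP_even : ∀ j, gP j ∈ alternatingGroup (Fin 8) := by
  intro j
  rw [Equiv.Perm.mem_alternatingGroup, gP, map_mul, sign_swap (by decide), sign_swap (by simp [Fin.ext_iff])]
  rfl

theorem zP_even : zP ∈ alternatingGroup (Fin 8) := by
  rw [Equiv.Perm.mem_alternatingGroup, zP, map_mul, sign_swap (by decide), sign_swap (by decide)]
  rfl

/-- The generator `(0 1)(j+2 j+3)` in the alternating group. -/
def gA (j : Fin 5) : alternatingGroup (Fin 8) := ⟨gP j, gP_even j⟩

/-- The generator `(0 1 2)` in the alternating group. -/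
def zA : alternatingGroup (Fin 8) := ⟨zP, zP_even⟩

/-- The points other than `0` and `1`. -/
def pt (k : Fin 6) : Fin 8 := ⟨k.val + 2, by omega⟩

theorem pt_injective : Function.Injective pt := fun k l e => Fin.ext (by simpa [pt, Fin.ext_iff] using e)

theorem pt_ne_zero : ∀ k, pt k ≠ 0 := by decide

theorem pt_ne_one : ∀ k, pt k ≠ 1 := by decide

theorem gP_eq : ∀ k : Fin 5, gP k = (cyc3 0 1 (pt k.castSucc))⁻¹ * cyc3 0 1 (pt k.succ) * (cyc3 0 1 (pt k.castSucc))⁻¹ := by
  decide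

theorem zP_eq : zP = cyc3 0 1 (pt 0) := rfl

variable {G : Type u} [Group G]

/-- **Moore's presentation** of the alternating group of degree eight, as the existence of a homomorphism. -/
theorem exists_hom {z : G} {a : Fin 5 → G} (hz : z ^ 3 = 1) (ha : ∀ j, a j * a j = 1)
    (h0 : (z * a 0) ^ 3 = 1) (hinv : ∀ j, j ≠ 0 → a j * z * a j = z⁻¹)
    (hbraid : ∀ i j : Fin 5, i.val + 1 = j.val → (a i * a j) ^ 3 = 1)
    (hfar : ∀ i j : Fin 5, i.val + 1 < j.val → (a i * a j) ^ 2 = 1) :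
    ∃ φ : alternatingGroup (Fin 8) →* G, φ zA = z ∧ ∀ j, φ (gA j) = a j := by
  classical
  obtain ⟨cs, hcs⟩ := Cfsg.Agent.S2530.result 5
  have ainv : ∀ j, (a j)⁻¹ = a j := fun j => inv_eq_of_mul_eq_one_right (ha j)
  have hlift : (CoxeterMatrix.A 5).IsLiftable a := by
    intro i j
    rcases eq_or_ne i j with rfl | hij
    · simp [CoxeterMatrix.A, ha i]
    · have hij' : i.val ≠ j.val := fun e => hij (Fin.ext e)
      by_cases h1 : i.val + 1 = j.val ∨ j.val + 1 = i.val
      · have hM : (CoxeterMatrix.A 5) i j = 3 := by simp [CoxeterMatrix.A, hij]; omega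
        rw [hM]
        rcases h1 with h1 | h1
        · exact hbraid i j h1
        · rw [← inv_eq_one, ← inv_pow, mul_inv_rev, ainv, ainv]; exact hbraid j i h1
      · have hM : (CoxeterMatrix.A 5) i j = 2 := by simp [CoxeterMatrix.A, hij]; omega
        rw [hM]
        rcases Nat.lt_or_ge i.val j.val with h2 | h2
        · exact hfar i j (by omega)
        · rw [← inv_eq_one, ← inv_pow, mul_inv_rev, ainv, ainv]; exact hfar j i (by omega)
  let θ : Perm (Fin 6) →* G := cs.lift ⟨a, hlift⟩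
  have hθ : ∀ i : Fin 5, θ (swap i.castSucc i.succ) = a i := fun i => by
    rw [← hcs i]; exact cs.lift_apply_simple hlift i
  let tw : ℤˣ → G := fun e => if e = 1 then z else z⁻¹
  -- permutations fixing the first point act on `z` by the sign
  have key : ∀ q : Perm (Fin 5), θ (decomposeFin.symm (0, q)) * z * (θ (decomposeFin.symm (0, q)))⁻¹ =
      tw (sign q) := by
    intro q
    have hm : q ∈ Submonoid.closure (Set.range fun i : Fin 4 => swap i.castSucc i.succ) :=
      (Equiv.Perm.mclosure_swap_castSucc_succ 4).symm ▸ Submonoid.mem_top q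
    induction hm using Submonoid.closure_induction with
    | mem x hx =>
      obtain ⟨i, rfl⟩ := hx
      have h1 : decomposeFin.symm ((0 : Fin 6), swap i.castSucc i.succ) = swap i.succ.castSucc i.succ.succ := by
        revert i; decide
      rw [h1, hθ i.succ, ainv, hinv _ (Fin.succ_ne_zero i)]
      simp [tw, sign_swap (ne_of_lt (Fin.castSucc_lt_succ (i := i)))]
    | one =>
      have h1 : decomposeFin.symm ((0 : Fin 6), (1 : Perm (Fin 5))) = 1 := by decide
      simp [h1, tw]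
    | mul x y _ _ hx hy =>
      have h1 : decomposeFin.symm ((0 : Fin 6), x * y) =
          decomposeFin.symm ((0 : Fin 6), x) * decomposeFin.symm ((0 : Fin 6), y) := by
        ext i
        refine Fin.cases ?_ (fun k => ?_) i <;> simp [decomposeFin_symm_apply_zero, decomposeFin_symm_apply_succ]
      rw [h1, map_mul]
      set A := θ (decomposeFin.symm ((0 : Fin 6), x))
      set B := θ (decomposeFin.symm ((0 : Fin 6), y))
      have hxi : A * z⁻¹ * A⁻¹ = (tw (sign x))⁻¹ := by rw [← hx]; group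
      calc A * B * z * (A * B)⁻¹ = A * (B * z * B⁻¹) * A⁻¹ := by group
        _ = A * tw (sign y) * A⁻¹ := by rw [hy]
        _ = tw (sign (x * y)) := by
          rcases Int.units_eq_one_or (sign x) with ex | ex <;> rcases Int.units_eq_one_or (sign y) with ey | ey <;>
            simp [tw, map_mul, ex, ey, hx, hxi]
  let Y : Perm (Fin 6) → G := fun σ => θ σ * tw (sign σ) * (θ σ)⁻¹
  -- the value only depends on the image of the first point
  have hY : ∀ σ τ : Perm (Fin 6), σ 0 = τ 0 → Y σ = Y τ := by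
    intro σ τ h
    set ρ := τ⁻¹ * σ with hρ
    have hρ0 : ρ 0 = 0 := by rw [hρ, mul_apply, h]; simp
    obtain ⟨⟨p, q⟩, hpq⟩ := decomposeFin.symm.surjective ρ
    have hp : p = 0 := by rw [← decomposeFin_symm_apply_zero p q, hpq, hρ0]
    subst hp
    have hk := key q
    rw [hpq] at hk
    have hs : sign ρ = sign q := by rw [← hpq, decomposeFin.symm_sign]; simp
    have hσ : σ = τ * ρ := by rw [hρ, mul_inv_cancel_left]
    rw [← hs] at hk
    have hki : θ ρ * z⁻¹ * (θ ρ)⁻¹ = (tw (sign ρ))⁻¹ := by rw [← hk]; group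
    show θ σ * tw (sign σ) * (θ σ)⁻¹ = θ τ * tw (sign τ) * (θ τ)⁻¹
    rw [hσ, map_mul θ, map_mul sign, mul_inv_rev]
    suffices θ ρ * tw (sign τ * sign ρ) * (θ ρ)⁻¹ = tw (sign τ) by
      calc θ τ * θ ρ * tw (sign τ * sign ρ) * ((θ ρ)⁻¹ * (θ τ)⁻¹)
          = θ τ * (θ ρ * tw (sign τ * sign ρ) * (θ ρ)⁻¹) * (θ τ)⁻¹ := by group
        _ = θ τ * tw (sign τ) * (θ τ)⁻¹ := by rw [this]
    rcases Int.units_eq_one_or (sign τ) with et | et <;> rcases Int.units_eq_one_or (sign ρ) with er | er <;>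
      simp [er, tw] at hk hki <;> simp [et, er, tw, hk, hki]
  -- even permutations with prescribed images of the first two points
  have hex : ∀ i j : Fin 6, i ≠ j → ∃ σ : Perm (Fin 6), sign σ = 1 ∧ σ 0 = i ∧ σ 1 = j := by
    intro i j hij
    have hk : swap (0 : Fin 6) i j ≠ 0 := fun e => hij (by
      have := congrArg (swap (0 : Fin 6) i) e
      rw [swap_apply_self, swap_apply_left] at this
      exact this.symm)
    set σ := swap 0 i * swap 1 (swap 0 i j) with hσ
    have h0 : σ 0 = i := by rw [hσ, mul_apply, swap_apply_of_ne_of_ne (by decide) hk.symm, swap_apply_left]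
    have h1 : σ 1 = j := by rw [hσ, mul_apply, swap_apply_left, swap_apply_self]
    rcases Int.units_eq_one_or (sign σ) with e | e
    · exact ⟨σ, e, h0, h1⟩
    · refine ⟨σ * swap 2 3, ?_, ?_, ?_⟩
      · rw [map_mul, e, sign_swap (by decide)]; rfl
      · rw [mul_apply, swap_apply_of_ne_of_ne (by decide) (by decide), h0]
      · rw [mul_apply, swap_apply_of_ne_of_ne (by decide) (by decide), h1]
  have h01 : θ (swap 0 1) = a 0 := hθ 0
  let y : Fin 6 → G := fun k => Y (swap 0 k)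
  have hYk : ∀ σ, Y σ = y (σ 0) := fun σ => hY _ _ (by simp)
  have hpair : ∀ σ : Perm (Fin 6), sign σ = 1 →
      y (σ 0) = θ σ * z * (θ σ)⁻¹ ∧ y (σ 1) = θ σ * (a 0 * z⁻¹ * a 0) * (θ σ)⁻¹ := by
    intro σ hs
    constructor
    · rw [← hYk]; simp [Y, tw, hs]
    · rw [show σ 1 = (σ * swap (0 : Fin 6) 1 : Perm (Fin 6)) 0 by simp, ← hYk]
      simp only [Y, tw, map_mul, hs, sign_swap (by decide : (0 : Fin 6) ≠ 1), one_mul, h01]
      rw [if_neg (by decide), mul_inv_rev, ainv]
      group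
  have hzaz : a 0 * z * a 0 = z⁻¹ * a 0 * z⁻¹ := by
    have h := h0
    rw [pow_three] at h
    calc a 0 * z * a 0 = z⁻¹ * (z * a 0 * (z * a 0 * (z * a 0))) * ((a 0)⁻¹ * z⁻¹) := by group
      _ = z⁻¹ * a 0 * z⁻¹ := by rw [h, ainv]; group
  have hC : Carm y := by
    refine ⟨fun k => ?_, fun i j hij => ?_⟩
    · show (θ _ * tw _ * (θ _)⁻¹) ^ 3 = 1
      rw [conj_pow]
      rcases Int.units_eq_one_or (sign (swap (0 : Fin 6) k)) with e | e <;> simp [tw, e, hz]
    · obtain ⟨σ, hs, hi, hj⟩ := hex i j hij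
      obtain ⟨e1, e2⟩ := hpair σ hs
      rw [← hi, ← hj, e1, e2,
        show θ σ * z * (θ σ)⁻¹ * (θ σ * (a 0 * z⁻¹ * a 0) * (θ σ)⁻¹) =
          θ σ * (z * (a 0 * z⁻¹ * a 0)) * (θ σ)⁻¹ by group, conj_pow]
      have hi' : a 0 * z⁻¹ * a 0 = z * a 0 * z := by
        have := congrArg (·⁻¹) hzaz
        simpa [ainv, mul_assoc] using this
      have hzz : z * z = z⁻¹ := by
        rw [eq_inv_iff_mul_eq_one, ← hz, pow_three]; group
      have : (z * (a 0 * z⁻¹ * a 0)) ^ 2 = 1 := by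
        calc (z * (a 0 * z⁻¹ * a 0)) ^ 2 = z * (z * a 0 * z) * z * (a 0 * z⁻¹ * a 0) := by rw [pow_two, ← hi']; group
          _ = z * z * a 0 * (z * z) * a 0 * z⁻¹ * a 0 := by group
          _ = z⁻¹ * a 0 * (z⁻¹ * a 0) * (z⁻¹ * a 0) := by rw [hzz]; group
          _ = z⁻¹ * (a 0)⁻¹ * (z⁻¹ * (a 0)⁻¹) * (z⁻¹ * (a 0)⁻¹) := by rw [ainv]
          _ = (a 0 * ((z * a 0) ^ 3) * (a 0)⁻¹)⁻¹ := by rw [pow_three]; group
          _ = 1 := by rw [h0]; group
      rw [this]; group
  obtain ⟨φ, hφ⟩ := hC.exists_hom (α := Fin 8) (a := 0) (b := 1) (e := pt)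
    pt_injective (by decide) pt_ne_zero pt_ne_one
  have hX : ∀ c : Fin 8, c ∈ insert (0 : Fin 8) (insert 1 (Set.range pt)) := by
    intro c
    rcases c with ⟨v, hv⟩
    rcases v with - | - | v
    · exact Set.mem_insert _ _
    · exact Set.mem_insert_of_mem _ (Set.mem_insert _ _)
    · exact Set.mem_insert_of_mem _ (Set.mem_insert_of_mem _ ⟨⟨v, by omega⟩, rfl⟩)
  let j : alternatingGroup (Fin 8) →* altOn (insert (0 : Fin 8) (insert 1 (Set.range pt))) :=
    (alternatingGroup (Fin 8)).subtype.codRestrict _ fun σ =>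
      mem_altOn.2 ⟨fun c hc => absurd (hX c) hc, Equiv.Perm.mem_alternatingGroup.1 σ.2⟩
  refine ⟨φ.comp j, ?_, fun k => ?_⟩
  · have h := hφ 0
    rw [MonoidHom.comp_apply]
    refine (Eq.trans (congrArg φ (Subtype.ext zP_eq)) h).trans ?_
    show θ (swap 0 0) * tw (sign (swap (0 : Fin 6) 0)) * (θ (swap 0 0))⁻¹ = z
    rw [swap_self, ← Perm.one_def, map_one, map_one]
    simp [tw]
  · obtain ⟨σ, hs, hi, hj⟩ := hex k.castSucc k.succ (ne_of_lt Fin.castSucc_lt_succ)
    let c : Fin 6 → altOn (insert (0 : Fin 8) (insert 1 (Set.range pt))) := fun i =>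
      ⟨cyc3 0 1 (pt i), mem_altOn.2 ⟨fun x hx => absurd (hX x) hx, sign_cyc3 (by decide) (pt_ne_zero i).symm⟩⟩
    rw [MonoidHom.comp_apply, show j (gA k) = (c k.castSucc)⁻¹ * c k.succ * (c k.castSucc)⁻¹ from Subtype.ext (gP_eq k),
      map_mul, map_mul, map_inv, show φ (c k.castSucc) = y k.castSucc from hφ _,
      show φ (c k.succ) = y k.succ from hφ _]
    obtain ⟨e1, e2⟩ := hpair σ hs
    rw [← hi, e1, ← hj, e2]
    have hid : z⁻¹ * (a 0 * z⁻¹ * a 0) * z⁻¹ = a 0 := by
      have hi' : a 0 * z⁻¹ * a 0 = z * a 0 * z := by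
        have := congrArg (·⁻¹) hzaz
        simpa [ainv, mul_assoc] using this
      rw [hi']; group
    calc (θ σ * z * (θ σ)⁻¹)⁻¹ * (θ σ * (a 0 * z⁻¹ * a 0) * (θ σ)⁻¹) * (θ σ * z * (θ σ)⁻¹)⁻¹
        = θ σ * (z⁻¹ * (a 0 * z⁻¹ * a 0) * z⁻¹) * (θ σ)⁻¹ := by group
      _ = θ σ * θ (swap 0 1) * (θ σ)⁻¹ := by rw [hid, h01]
      _ = θ (swap k.castSucc k.succ) := by
        rw [← map_inv, ← map_mul, ← map_mul, ← swap_apply_apply, hi, hj]
      _ = a k := hθ k

end CfsgLib.A8ThreeLocal
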