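import Cfsg.Agent.Lib.A8ThreeLocal.Small
import Cfsg.Agent.Lib.A8ThreeLocal.Pres

/-!
Facts about the alternating group of degree eight used in the recognition from three-local data.
-/

set_option autoImplicit false
set_option maxRecDepth 8000

namespace CfsgLib.A8ThreeLocal

open Equiv Equiv.Perm

local notation "A8" => alternatingGroup (Fin 8)

/-- Two permutations of four points, side by side. -/
def split8 : Perm (Fin 4) × Perm (Fin 4) →* Perm (Fin 8) :=
  (finSumFinEquiv (m := 4) (n := 4)).permCongrHom.toMonoidHom.comp (sumCongrHom (Fin 4) (Fin 4))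

/-- The action of the sign-matched product on eight points. -/
def emb8 : Perm (Fin 3) × Perm (Fin 5) →* Perm (Fin 8) :=
  (finSumFinEquiv (m := 3) (n := 5)).permCongrHom.toMonoidHom.comp (sumCongrHom (Fin 3) (Fin 5))

theorem sign_emb8 (m : Perm (Fin 3) × Perm (Fin 5)) : sign (emb8 m) = sign m.1 * sign m.2 := by
  show sign (finSumFinEquiv.permCongr (Perm.sumCongr m.1 m.2)) = _
  rw [sign_permCongr, sign_sumCongr]

/-- The embedding of the sign-matched product in the alternating group. -/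
def emb : M35 →* A8 :=
  (emb8.comp M35.subtype).codRestrict A8 fun m => Equiv.Perm.mem_alternatingGroup.2 ((sign_emb8 _).trans m.2)

theorem emb_val (m : M35) : (emb m : Perm (Fin 8)) = emb8 m.1 := rfl

/-- `(4 5)(6 7)` -/
abbrev a8 : Perm (Fin 8) := swap 4 5 * swap 6 7
/-- `(4 6)(5 7)` -/
abbrev b8 : Perm (Fin 8) := swap 4 6 * swap 5 7
/-- `(0 4)(1 5)(2 6)(3 7)` -/
abbrev s8 : Perm (Fin 8) := swap 0 4 * swap 1 5 * swap 2 6 * swap 3 7
/-- `(0 1 2)(4 5 6)` -/
abbrev y8 : Perm (Fin 8) := swap 0 2 * swap 0 1 * (swap 4 6 * swap 4 5)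

theorem emb_zM : emb zM = zA := Subtype.ext (by show emb8 zM.1 = zP; decide +kernel)

theorem emb_gM : ∀ k : Fin 4, emb (gM k) = gA k.succ := by
  have h : ∀ k : Fin 4, emb8 (gM k).1 = gP k.succ := by decide +kernel
  exact fun k => Subtype.ext (h k)

theorem emb_aM : (emb aM : Perm (Fin 8)) = a8 := by show emb8 aM.1 = a8; decide +kernel

theorem emb_bM : (emb bM : Perm (Fin 8)) = b8 := by show emb8 bM.1 = b8; decide +kernel

/-- An element is an involution with a fixed point. -/
def FixInvol (x : Perm (Fin 8)) : Prop := x * x = 1 ∧ x ≠ 1 ∧ ∃ i, x i = i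

instance (x : Perm (Fin 8)) : Decidable (FixInvol x) := by unfold FixInvol; infer_instance

theorem a8_fixInvol : FixInvol a8 := by decide +kernel
theorem b8_fixInvol : FixInvol b8 := by decide +kernel
theorem ab8_fixInvol : FixInvol (a8 * b8) := by decide +kernel

theorem split_of_commute {x : Perm (Fin 8)} (h : x * a8 = a8 * x) : ∃ pq, split8 pq = x := by
  have hfix : ∀ i : Fin 8, a8 i = i ↔ i.val < 4 := by decide +kernel
  have hm : ∀ i : Fin 8, i.val < 4 → (x i).val < 4 := fun i hi => by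
    rw [← hfix] at hi ⊢
    rw [← mul_apply, ← h, mul_apply, hi]
  set e := (finSumFinEquiv (m := 4) (n := 4)).permCongrHom with he
  obtain ⟨⟨p, q⟩, hpq⟩ := mem_sumCongrHom_range_of_perm_mapsTo_inl (m := Fin 4) (n := Fin 4) (σ := e.symm x) (by
    rintro _ ⟨i, rfl⟩
    have h1 := hm (finSumFinEquiv (m := 4) (n := 4) (Sum.inl i)) (by rw [finSumFinEquiv_apply_left]; exact i.2)
    refine ⟨⟨(x (finSumFinEquiv (m := 4) (n := 4) (Sum.inl i))).val, h1⟩, ?_⟩
    show _ = (finSumFinEquiv (m := 4) (n := 4)).symm (x (finSumFinEquiv (m := 4) (n := 4) (Sum.inl i)))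
    rw [← finSumFinEquiv.injective.eq_iff, apply_symm_apply]
    exact Fin.ext rfl)
  refine ⟨(p, q), ?_⟩
  show e (sumCongrHom (Fin 4) (Fin 4) (p, q)) = x
  rw [hpq, MulEquiv.apply_symm_apply]

theorem cand_aux : ∀ p q : Perm (Fin 4), sign p * sign q = 1 → FixInvol (split8 (p, q)) →
    FixInvol (a8 * split8 (p, q)) → split8 (p, q) ≠ a8 →
    split8 (p, q) * a8 = a8 * split8 (p, q) →
    (split8 (p, q) * b8 = b8 * split8 (p, q) ∨ split8 (p, q) * b8 = a8 * b8 * split8 (p, q)) →
    split8 (p, q) = b8 ∨ split8 (p, q) = a8 * b8 ∨ ∃ v : Perm (Fin 4),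
      sign v = 1 ∧ sign (v * p) * sign q = 1 ∧ FixInvol (split8 (v, 1)) ∧ FixInvol (split8 (v * p, q)) ∧
      split8 (v, 1) * a8 = a8 * split8 (v, 1) ∧ split8 (v, 1) * split8 (p, q) = split8 (p, q) * split8 (v, 1) ∧
      split8 (v, 1) ≠ a8 ∧ split8 (v, 1) ≠ split8 (p, q) ∧ split8 (v, 1) ≠ a8 * split8 (p, q) ∧
      split8 (v * p, q) ≠ a8 ∧ split8 (v * p, q) ≠ split8 (p, q) ∧
      split8 (v * p, q) ≠ a8 * split8 (p, q) := by decide +kernel

/-- The candidates for a second involution generating a four-group with `a8`. -/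
theorem cand {x : Perm (Fin 8)} (hx : sign x = 1) (h1 : FixInvol x) (h2 : FixInvol (a8 * x)) (hne : x ≠ a8)
    (ha : x * a8 = a8 * x) (hb : x * b8 = b8 * x ∨ x * b8 = a8 * b8 * x) :
    x = b8 ∨ x = a8 * b8 ∨ ∃ c d : Perm (Fin 8), sign c = 1 ∧ sign d = 1 ∧ FixInvol c ∧ FixInvol d ∧
      c * a8 = a8 * c ∧ d * a8 = a8 * d ∧ c * x = x * c ∧ d * x = x * d ∧
      c ≠ a8 ∧ c ≠ x ∧ c ≠ a8 * x ∧ d ≠ a8 ∧ d ≠ x ∧ d ≠ a8 * x ∧ c * d = x := by
  obtain ⟨⟨p, q⟩, rfl⟩ := split_of_commute ha
  have hs : ∀ p q : Perm (Fin 4), sign (split8 (p, q)) = sign p * sign q := fun p q => by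
    show sign (finSumFinEquiv.permCongr (Perm.sumCongr p q)) = _
    rw [sign_permCongr, sign_sumCongr]
  rw [hs] at hx
  rcases cand_aux p q hx h1 h2 hne ha hb with h | h | ⟨v, v1, v2, v3, v4, v5, v6, v7, v8, v9, v10, v11, v12⟩
  · exact Or.inl h
  · exact Or.inr (Or.inl h)
  · have hvv : split8 (v, 1) * split8 (v, 1) = 1 := v3.1
    have hprod : split8 (v, 1) * split8 (v * p, q) = split8 (p, q) := by
      rw [show (v * p, q) = (v, (1 : Perm (Fin 4))) * (p, q) by simp [Prod.mk_mul_mk], map_mul, ← mul_assoc, hvv,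
        one_mul]
    have hd : split8 (v * p, q) = split8 (v, 1) * split8 (p, q) := by
      rw [← map_mul, Prod.mk_mul_mk, one_mul]
    refine Or.inr (Or.inr ⟨split8 (v, 1), split8 (v * p, q), by rw [hs, v1, map_one, one_mul], by rw [hs, v2],
      v3, v4, v5, ?_, v6, ?_, v7, v8, v9, v10, v11, v12, hprod⟩)
    · rw [hd, mul_assoc, ha, ← mul_assoc, v5, mul_assoc]
    · rw [hd, mul_assoc, ← mul_assoc (split8 (p, q)), ← v6, mul_assoc]

theorem cent_ab_aux : ∀ p q : Perm (Fin 4), sign p * sign q = 1 → split8 (p, q) * a8 = a8 * split8 (p, q) → split8 (p, q) * b8 = b8 * split8 (p, q) → FixInvol (split8 (p, q)) →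
    split8 (p, q) ≠ a8 → split8 (p, q) ≠ b8 → split8 (p, q) ≠ a8 * b8 → split8 (p, q) 4 = 4 := by decide +kernel

/-- An involution with a fixed point centralising the four-group and outside it fixes `4`. -/
theorem cent_ab {x : Perm (Fin 8)} (hs : sign x = 1) (ha : x * a8 = a8 * x) (hb : x * b8 = b8 * x) (hx : FixInvol x)
    (h1 : x ≠ a8) (h2 : x ≠ b8) (h3 : x ≠ a8 * b8) : x 4 = 4 := by
  obtain ⟨⟨p, q⟩, rfl⟩ := split_of_commute ha
  have e : sign (split8 (p, q)) = sign p * sign q := by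
    show sign (finSumFinEquiv.permCongr (Perm.sumCongr p q)) = _
    rw [sign_permCongr, sign_sumCongr]
  exact cent_ab_aux p q (e.symm.trans hs) ha hb hx h1 h2 h3

theorem four_moved : ∀ c d : Perm (Fin 8), c 4 = 4 → d 4 = 4 → c * d ≠ b8 := by
  intro c d hc hd e
  have h := congrArg (fun f : Perm (Fin 8) => f 4) e
  simp only [mul_apply, hd, hc] at h
  exact absurd h (by decide)

theorem cycleType_invol {x : Perm (Fin 8)} (h : x * x = 1) (h1 : x ≠ 1) (hs : sign x = 1) :
    (x.cycleType = Multiset.replicate 2 2 ∧ ∃ i, x i = i) ∨ (x.cycleType = Multiset.replicate 4 2 ∧ ∀ i, x i ≠ i) := by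
  haveI := Fact.mk Nat.prime_two
  have hc := cycleType_of_pow_prime_eq_one (p := 2) (show x ^ 2 = 1 by rw [pow_two, h])
  set k := Multiset.card x.cycleType with hk
  have hsum := sum_cycleType_le x
  have hsum' := sum_cycleType x
  rw [hc, Multiset.sum_replicate, smul_eq_mul, Fintype.card_fin] at hsum
  rw [hc, Multiset.sum_replicate, smul_eq_mul] at hsum'
  have hk0 : k ≠ 0 := fun e => h1 (by rw [← cycleType_eq_zero, hc, e]; rfl)
  rw [sign_of_cycleType, hc, Multiset.sum_replicate, Multiset.card_replicate, smul_eq_mul] at hs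
  have hk24 : k = 2 ∨ k = 4 := by
    have : k < 5 := by omega
    interval_cases k <;> first | omega | exact absurd hs (by decide)
  rcases hk24 with e | e
  · left
    refine ⟨by rw [hc, e], ?_⟩
    by_contra hno
    push Not at hno
    rw [show x.support = Finset.univ from Finset.eq_univ_of_forall fun i => mem_support.2 (hno i), e] at hsum'
    simp at hsum'
  · right
    refine ⟨by rw [hc, e], fun i hi => ?_⟩
    have : i ∉ x.support := fun hm => mem_support.1 hm hi
    have h8 : x.support = Finset.univ := Finset.eq_univ_of_card _ (by rw [← hsum', e, Fintype.card_fin])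
    exact this (h8 ▸ Finset.mem_univ i)

theorem conj_adjust {x y : Perm (Fin 8)} (h : x.cycleType = y.cycleType) (τ : Perm (Fin 8)) (hτ : sign τ = -1)
    (hτx : τ * x * τ⁻¹ = x) : ∃ g : A8, (g : Perm (Fin 8)) * x * (g : Perm (Fin 8))⁻¹ = y := by
  obtain ⟨c, hc⟩ := isConj_iff.1 (isConj_iff_cycleType_eq.2 h)
  rcases Int.units_eq_one_or (sign c) with e | e
  · exact ⟨⟨c, Equiv.Perm.mem_alternatingGroup.2 e⟩, hc⟩
  · refine ⟨⟨c * τ, Equiv.Perm.mem_alternatingGroup.2 (by rw [map_mul, e, hτ]; rfl)⟩, ?_⟩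
    show c * τ * x * (c * τ)⁻¹ = y
    rw [mul_inv_rev, show c * τ * x * (τ⁻¹ * c⁻¹) = c * (τ * x * τ⁻¹) * c⁻¹ by group, hτx, hc]

theorem cycleType_a8 : a8.cycleType = Multiset.replicate 2 2 := by
  rcases cycleType_invol a8_fixInvol.1 a8_fixInvol.2.1 (by decide +kernel) with h | h
  · exact h.1
  · obtain ⟨i, hi⟩ := a8_fixInvol.2.2
    exact absurd hi (h.2 i)

theorem cycleType_s8 : s8.cycleType = Multiset.replicate 4 2 := by
  rcases cycleType_invol (x := s8) (by decide +kernel) (by decide +kernel) (by decide +kernel) with h | h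
  · obtain ⟨i, hi⟩ := h.2
    exact absurd hi ((by decide +kernel : ∀ i, s8 i ≠ i) i)
  · exact h.1

/-- The involutions of `A8` fall into two classes. -/
theorem invol_cases (x : A8) (h : x * x = 1) (h1 : x ≠ 1) :
    (FixInvol x.1 ∧ ∃ g : A8, (g : Perm (Fin 8)) * a8 * (g : Perm (Fin 8))⁻¹ = x.1) ∨
      (∃ g : A8, (g : Perm (Fin 8)) * s8 * (g : Perm (Fin 8))⁻¹ = x.1) := by
  have hx : x.1 * x.1 = 1 := congrArg Subtype.val h
  have hx1 : x.1 ≠ 1 := fun e => h1 (Subtype.ext e)
  rcases cycleType_invol hx hx1 (Equiv.Perm.mem_alternatingGroup.1 x.2) with ⟨hc, hi⟩ | ⟨hc, -⟩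
  · exact Or.inl ⟨⟨hx, hx1, hi⟩, conj_adjust (cycleType_a8.trans hc.symm) (swap 4 5) (sign_swap (by decide))
      (by decide +kernel)⟩
  · exact Or.inr (conj_adjust (cycleType_s8.trans hc.symm) (swap 0 4) (sign_swap (by decide)) (by decide +kernel))

/-- `(0 1)(4 5)` is exchanged with `a8` by an element also conjugating `b8` suitably. -/
abbrev h8 : Perm (Fin 8) := swap 0 6 * swap 1 7

theorem h8_even : sign h8 = 1 := by rw [map_mul, sign_swap (by decide), sign_swap (by decide)]; rfl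

/-- The element taking `y8` to the product of `b8` and its conjugate by `h8`. -/
def k8 : Perm (Fin 8) :=
  ⟨![0, 6, 4, 2, 1, 7, 5, 3], ![0, 4, 3, 7, 2, 6, 1, 5], by decide, by decide⟩

theorem k8_spec : k8 * y8 * k8⁻¹ = b8 * (h8 * b8 * h8⁻¹) ∨ k8 * y8⁻¹ * k8⁻¹ = b8 * (h8 * b8 * h8⁻¹) := by
  decide +kernel

theorem k8_even : sign k8 = 1 := by decide +kernel

/-- The block of a point for the involution `s8`. -/
def blk (i : Fin 8) : Fin 4 := ⟨i.val % 4, Nat.mod_lt _ (by omega)⟩

theorem blk_eq : ∀ i j : Fin 8, blk i = blk j → j = i ∨ j = s8 i := by decide +kernel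

theorem blk_surj : ∀ k : Fin 4, blk ⟨k.val, by omega⟩ = k := by decide +kernel

theorem blk_s8 : ∀ i : Fin 8, blk (s8 i) = blk i := by decide +kernel

/-- No element of prime order at least five centralises `s8`. -/
theorem no_large_prime {x : Perm (Fin 8)} {q : ℕ} (hq : q.Prime) (h5 : 5 ≤ q) (hx : x ^ q = 1)
    (hs : x * s8 = s8 * x) : x = 1 := by
  have hcong : ∀ (y : Perm (Fin 8)), y * s8 = s8 * y → ∀ i j, blk i = blk j → blk (y i) = blk (y j) := by
    intro y hy i j hij
    rcases blk_eq i j hij with rfl | rfl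
    · rfl
    · rw [← mul_apply, hy, mul_apply, blk_s8]
  let C : Subgroup (Perm (Fin 8)) := Subgroup.centralizer {s8}
  let f : C →* Function.End (Fin 4) :=
    { toFun := fun y k => blk (y.1 ⟨k.val, by omega⟩)
      map_one' := funext fun k => blk_surj k
      map_mul' := fun y z => funext fun k =>
        hcong y.1 (Subgroup.mem_centralizer_singleton_iff.1 y.2) _ _ (blk_surj _).symm }
  let F : C →* (Function.End (Fin 4))ˣ := f.toHomUnits
  have hxC : x ∈ C := Subgroup.mem_centralizer_singleton_iff.2 hs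
  have h1 : (Equiv.Perm.equivUnitsEnd.symm (F ⟨x, hxC⟩)) ^ q = 1 := by
    rw [← map_pow, ← map_pow, show (⟨x, hxC⟩ : C) ^ q = 1 from Subtype.ext hx, map_one, map_one]
  have h2 : Equiv.Perm.equivUnitsEnd.symm (F ⟨x, hxC⟩) = 1 := by
    haveI := Fact.mk hq
    by_contra hne
    have h3 := orderOf_eq_prime h1 hne
    have h4 := orderOf_dvd_natCard (Equiv.Perm.equivUnitsEnd.symm (F ⟨x, hxC⟩))
    rw [h3, Nat.card_perm, Nat.card_fin] at h4
    have h6 : q ≤ 24 := Nat.le_of_dvd (by norm_num) h4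
    interval_cases q <;> simp_all +decide
  have hF : f ⟨x, hxC⟩ = 1 := by
    have h3 : F ⟨x, hxC⟩ = 1 := (map_eq_one_iff _ Equiv.Perm.equivUnitsEnd.symm.injective).1 h2
    exact congrArg Units.val h3
  have hblk : ∀ i, blk (x i) = blk i := fun i => by
    rw [hcong x hs i ⟨(blk i).val, by omega⟩ (blk_surj _).symm]
    exact congrFun hF (blk i)
  have h22 : x * x = 1 := by
    ext i
    have hi := blk_eq _ _ (hblk i).symm
    simp only [mul_apply, one_apply]
    rcases hi with e | e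
    · rw [e, e]
    · rw [e, ← mul_apply x s8, hs, mul_apply, e, ← mul_apply s8 s8, show s8 * s8 = 1 by decide +kernel, one_apply]
  have ho : orderOf x ∣ Nat.gcd 2 q := Nat.dvd_gcd (orderOf_dvd_of_pow_eq_one (by rw [pow_two, h22]))
    (orderOf_dvd_of_pow_eq_one hx)
  rwa [Nat.Coprime.gcd_eq_one ((Nat.coprime_primes Nat.prime_two hq).2 (by omega)), Nat.dvd_one,
    orderOf_eq_one_iff] at ho

/-- Sixty-four divides the order of the centraliser of `s8`. -/
theorem cent_s8_card {s : A8} (hs : (s : Perm (Fin 8)) = s8) : 64 ∣ Nat.card (Subgroup.centralizer ({s} : Set A8)) := by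
  set C := Subgroup.centralizer ({s8} : Set (Perm (Fin 8))) with hC
  have h384 : Nat.card C = 384 := by
    rw [hC, nat_card_centralizer, cycleType_s8]
    decide
  let σ : C →* ℤˣ := Equiv.Perm.sign.comp C.subtype
  have h04 : swap 0 4 ∈ C := Subgroup.mem_centralizer_singleton_iff.2 (by decide +kernel)
  have hrange : Nat.card σ.range = 2 := by
    have hsurj : Function.Surjective σ := fun e => by
      rcases Int.units_eq_one_or e with rfl | rfl
      · exact ⟨1, map_one σ⟩
      · exact ⟨⟨swap 0 4, h04⟩, sign_swap (by decide : (0 : Fin 8) ≠ 4)⟩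
    rw [MonoidHom.range_eq_top.2 hsurj, Subgroup.card_top, Nat.card_eq_fintype_card, Fintype.card_units_int]
  let e : σ.ker ≃ Subgroup.centralizer ({s} : Set A8) :=
    { toFun := fun y => ⟨⟨y.1.1, Equiv.Perm.mem_alternatingGroup.2 y.2⟩, Subgroup.mem_centralizer_singleton_iff.2
        (Subtype.ext (by
          show y.1.1 * (s : Perm (Fin 8)) = (s : Perm (Fin 8)) * y.1.1
          rw [hs]; exact Subgroup.mem_centralizer_singleton_iff.1 y.1.2))⟩
      invFun := fun y => ⟨⟨y.1.1, Subgroup.mem_centralizer_singleton_iff.2 (by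
          have := congrArg Subtype.val (Subgroup.mem_centralizer_singleton_iff.1 y.2)
          rwa [Subgroup.coe_mul, Subgroup.coe_mul, hs] at this)⟩, Equiv.Perm.mem_alternatingGroup.1 y.1.2⟩
      left_inv := fun y => rfl
      right_inv := fun y => rfl }
  have h := σ.ker.card_mul_index
  rw [Subgroup.index_ker, hrange, h384, Nat.card_congr e] at h
  exact ⟨3, by omega⟩

end CfsgLib.A8ThreeLocal
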