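import Cfsg.Agent.Lib.A8ThreeLocal.Basic
import Cfsg.Agent.Lib.SelfCentThree.Parts

/-!
The centraliser of the distinguished four-group is larger than its part in the normalizer of `z`.
-/

set_option autoImplicit false
set_option maxRecDepth 8000

namespace CfsgLib.A8ThreeLocal

open Equiv Equiv.Perm

universe u

/-- The four-group in the second factor. -/
def V35 : Subgroup M35 where
  carrier := {m | m = 1 ∨ m = aM ∨ m = bM ∨ m = aM * bM}
  one_mem' := Or.inl rfl
  inv_mem' := by rintro m (rfl | rfl | rfl | rfl) <;> simp only [Set.mem_setOf_eq] <;> decide +kernel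
  mul_mem' := by
    rintro m n (rfl | rfl | rfl | rfl) (rfl | rfl | rfl | rfl) <;> simp only [Set.mem_setOf_eq] <;> decide +kernel

/-- The second four-group. -/
def W35 : Subgroup M35 where
  carrier := {m | m = 1 ∨ m = aM ∨ m = tM ∨ m = aM * tM}
  one_mem' := Or.inl rfl
  inv_mem' := by rintro m (rfl | rfl | rfl | rfl) <;> simp only [Set.mem_setOf_eq] <;> decide +kernel
  mul_mem' := by
    rintro m n (rfl | rfl | rfl | rfl) (rfl | rfl | rfl | rfl) <;> simp only [Set.mem_setOf_eq] <;> decide +kernel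

/-- The dihedral group of order eight containing the two four-groups. -/
def T35 : Subgroup M35 where
  carrier := {m | m.1.1 2 = 2 ∧ m.1.2 0 = 0 ∧ m.1.2 * a5 = a5 * m.1.2}
  one_mem' := ⟨rfl, rfl, by simp⟩
  inv_mem' := by
    rintro m ⟨h1, h2, h3⟩
    refine ⟨?_, ?_, ?_⟩
    · show m.1.1⁻¹ 2 = 2
      rw [Equiv.Perm.inv_eq_iff_eq, h1]
    · show m.1.2⁻¹ 0 = 0
      rw [Equiv.Perm.inv_eq_iff_eq, h2]
    · exact (Commute.inv_left (show Commute m.1.2 a5 from h3)).eq
  mul_mem' := by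
    rintro m n ⟨h1, h2, h3⟩ ⟨k1, k2, k3⟩
    refine ⟨?_, ?_, ?_⟩
    · show m.1.1 (n.1.1 2) = 2
      rw [k1, h1]
    · show m.1.2 (n.1.2 0) = 0
      rw [k2, h2]
    · exact (Commute.mul_left (show Commute m.1.2 a5 from h3) k3).eq

theorem card_V35 : Nat.card V35 = 4 := by
  rw [show Nat.card V35 = (({1, aM, bM, aM * bM} : Finset M35) : Set M35).ncard by
    rw [← Nat.card_coe_set_eq]
    refine Nat.card_congr (Equiv.subtypeEquivRight fun m => ?_)
    simp only [Finset.coe_insert, Finset.coe_singleton, Set.mem_insert_iff, Set.mem_singleton_iff]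
    rfl, Set.ncard_coe_finset]
  decide +kernel

theorem card_W35 : Nat.card W35 = 4 := by
  rw [show Nat.card W35 = (({1, aM, tM, aM * tM} : Finset M35) : Set M35).ncard by
    rw [← Nat.card_coe_set_eq]
    refine Nat.card_congr (Equiv.subtypeEquivRight fun m => ?_)
    simp only [Finset.coe_insert, Finset.coe_singleton, Set.mem_insert_iff, Set.mem_singleton_iff]
    rfl, Set.ncard_coe_finset]
  decide +kernel

theorem u_pow_cases : ∀ j : Fin 3, uM ^ j.val = 1 ∨ uM ^ j.val = uM ∨ uM ^ j.val = uM⁻¹ := by decide +kernel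

theorem z_pow_cases : ∀ i : Fin 3, i ≠ 0 → zM ^ i.val = zM ∨ zM ^ i.val = zM⁻¹ := by decide +kernel

theorem zu_pow_three : ∀ i j : Fin 3, (zM ^ i.val * uM ^ j.val) ^ 3 = 1 := by decide +kernel

theorem card_T35 : Nat.card T35 = 8 := by
  show Nat.card {m : M35 // m.1.1 2 = 2 ∧ m.1.2 0 = 0 ∧ m.1.2 * a5 = a5 * m.1.2} = 8
  rw [Nat.card_eq_fintype_card]
  decide +kernel

theorem t35_invol_aux : ∀ p : Perm (Fin 3), p 2 = 2 → ∀ q : Perm (Fin 5), q 0 = 0 → q * a5 = a5 * q →
    sign p = sign q → p * p = 1 → q * q = 1 → (p = 1 ∧ q = 1) ∨ (p = 1 ∧ q = a5) ∨ (p = 1 ∧ q = b5) ∨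
      (p = 1 ∧ q = a5 * b5) ∨ (p = swap 0 1 ∧ q = swap 1 2) ∨ (p = swap 0 1 ∧ q = swap 3 4) := by
  decide +kernel

theorem t35_center_aux : ∀ q : Perm (Fin 5), q 0 = 0 → q * a5 = a5 * q → q * b5 = b5 * q →
    q * swap 1 2 = swap 1 2 * q → q = 1 ∨ q = a5 := by decide +kernel

theorem four_reps : (bM * bM = 1 ∧ bM ∈ T35) ∧ (tM * tM = 1 ∧ tM ∈ T35) ∧ aM * tM = tM * aM ∧ aM ∈ T35 := by
  refine ⟨⟨by decide +kernel, ?_⟩, ⟨by decide +kernel, ?_⟩, by decide +kernel, ?_⟩ <;>
    exact ⟨by decide +kernel, by decide +kernel, by decide +kernel⟩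

theorem aM_fix : ∀ i j : Fin 3, aM * (zM ^ i.val * uM ^ j.val) * aM⁻¹ = zM ^ i.val * uM ^ j.val → j = 0 := by
  decide +kernel

theorem aM_invert : ∀ i j : Fin 3, aM * (zM ^ i.val * uM ^ j.val) * aM⁻¹ = (zM ^ i.val * uM ^ j.val)⁻¹ → i = 0 := by
  decide +kernel

theorem act_fix : ∀ i j e f : Fin 3, i ≠ 0 → j ≠ 0 →
    (zM ^ e.val) ^ i.val * (uM ^ f.val) ^ j.val = zM ^ i.val * uM ^ j.val → e = 1 ∧ f = 1 := by decide +kernel

theorem v2_normalises : ∀ i j : Fin 3,
    (∃ i' j' : Fin 3, aM * (zM ^ i.val * uM ^ j.val) * aM⁻¹ = zM ^ i'.val * uM ^ j'.val) ∧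
    (∃ i' j' : Fin 3, tM * (zM ^ i.val * uM ^ j.val) * tM⁻¹ = zM ^ i'.val * uM ^ j'.val) :=
  fun i j => ⟨⟨i, -j, aM_conj i j⟩, ⟨-i, j, tM_conj i j⟩⟩

theorem kernel_small {m : M35} (hp : sign m.1.1 = 1) {k : ℕ} (hk : m ^ 2 ^ k = 1) : m.1.1 = 1 := by
  have h2 : orderOf m.1.1 ∣ 2 ^ k := orderOf_dvd_of_pow_eq_one (congrArg (fun w : M35 => w.1.1) hk)
  have h3 : orderOf m.1.1 ∣ 3 := orderOf_dvd_of_pow_eq_one (by
    rcases even_three _ hp with e | e | e <;> rw [e] <;> decide)
  rw [← orderOf_eq_one_iff]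
  exact Nat.eq_one_of_dvd_coprimes ((show Nat.Coprime 2 3 by norm_num).pow_left k) h2 h3

variable {G : Type u} [Group G] [Finite G]

theorem card_pow_two_dvd_six {k : ℕ} (h : 2 ^ k ∣ 6) : 2 ^ k ≤ 2 := by
  have hk : k ≤ 1 := by
    by_contra hk
    have := (pow_dvd_pow 2 (show 2 ≤ k by omega)).trans h
    norm_num at this
  calc 2 ^ k ≤ 2 ^ 1 := Nat.pow_le_pow_right (by norm_num) hk
    _ = 2 := by norm_num

namespace Loc

variable (L : Loc G)

/-- The distinguished four-group. -/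
abbrev V : Subgroup G := V35.map L.ι

/-- A second four-group. -/
abbrev W : Subgroup G := W35.map L.ι

/-- The centraliser of the four-group lies in the normalizer of `z`. -/
def Tiny : Prop := ∀ g : G, Commute g L.a → Commute g (L.ι bM) →
  ∃ m : M35, g = L.ι m ∧ sign m.1.1 = 1 ∧ (m.1.2 = 1 ∨ m.1.2 = a5 ∨ m.1.2 = b5 ∨ m.1.2 = a5 * b5)

variable {L}

theorem bound (hK : L.Tiny) {R : Subgroup G} (hR : IsPGroup 2 R)
    (hN : R ≤ Subgroup.normalizer (L.V : Set G)) : Nat.card R ≤ 8 := by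
  classical
  let S := {x : G // x ∈ L.V ∧ x ≠ 1}
  let act : R →* Perm S :=
    { toFun := fun r =>
        { toFun := fun x => ⟨r.1 * x.1 * r.1⁻¹, (Subgroup.mem_normalizer_iff.1 (hN r.2) _).1 x.2.1,
            fun e => x.2.2 (conj_eq_one_iff.1 e)⟩
          invFun := fun x => ⟨r.1⁻¹ * x.1 * r.1,
            (Subgroup.mem_normalizer_iff.1 (hN r.2) _).2 (by simpa [mul_assoc] using x.2.1),
            fun e => x.2.2 (by simpa using (conj_eq_one_iff (a := r.1⁻¹)).1 (by simpa using e))⟩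
          left_inv := fun x => Subtype.ext (by simp [mul_assoc])
          right_inv := fun x => Subtype.ext (by simp [mul_assoc]) }
      map_one' := Equiv.ext fun x => Subtype.ext (by simp)
      map_mul' := fun r r' => Equiv.ext fun x => Subtype.ext (by simp [mul_assoc]) }
  have hS : Nat.card S ≤ 3 := by
    let f : S → ({aM, bM, aM * bM} : Finset M35) := fun x =>
      ⟨Classical.choose x.2.1, by
        obtain ⟨h1, h2⟩ := Classical.choose_spec x.2.1
        rcases h1 with e | e | e | e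
        · exact absurd (h2.symm.trans (by rw [e, map_one])) x.2.2
        all_goals simp [e]⟩
    have hf : Function.Injective f := fun x y e => Subtype.ext ((Classical.choose_spec x.2.1).2.symm.trans
      ((congrArg L.ι (congrArg Subtype.val e)).trans (Classical.choose_spec y.2.1).2))
    have h := Nat.card_le_card_of_injective f hf
    rw [Nat.card_eq_fintype_card (α := ↥({aM, bM, aM * bM} : Finset M35)), Fintype.card_coe] at h
    exact h.trans Finset.card_le_three
  have hrange : Nat.card act.range ≤ 2 := by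
    obtain ⟨k, hk⟩ := IsPGroup.iff_card.1 (hR.of_surjective act.rangeRestrict act.rangeRestrict_surjective)
    rw [hk]
    have h6 : Nat.card (Perm S) ∣ 6 := by
      rw [Nat.card_perm]
      interval_cases h : Nat.card S <;> decide
    exact card_pow_two_dvd_six ((hk ▸ Subgroup.card_subgroup_dvd_card act.range).trans h6)
  have hker : Nat.card act.ker ≤ 4 := by
    have hc : ∀ r : act.ker, ∀ m ∈ V35, Commute r.1.1 (L.ι m) := by
      intro r m hm
      by_cases h1 : L.ι m = 1
      · rw [h1]; exact Commute.one_right _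
      have h := congrArg Subtype.val (Equiv.ext_iff.1 r.2 ⟨L.ι m, ⟨m, hm, rfl⟩, h1⟩)
      exact mul_inv_eq_iff_eq_mul.1 h
    choose F hF hFp hFq using fun r : act.ker =>
      hK r.1.1 (hc r aM (Or.inr (Or.inl rfl))) (hc r bM (Or.inr (Or.inr (Or.inl rfl))))
    have hp1 : ∀ r, (F r).1.1 = 1 := fun r => by
      obtain ⟨n, hn⟩ := hR r.1
      exact kernel_small (hFp r) (k := n) (L.inj (by
        rw [map_pow, ← hF r, map_one]; exact congrArg Subtype.val hn))
    let f : act.ker → ({1, a5, b5, a5 * b5} : Finset (Perm (Fin 5))) := fun r =>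
      ⟨(F r).1.2, by rcases hFq r with e | e | e | e <;> simp [e]⟩
    have hf : Function.Injective f := fun r r' e => by
      refine Subtype.ext (Subtype.ext ?_)
      rw [hF r, hF r']
      exact congrArg L.ι (Subtype.ext (Prod.ext ((hp1 r).trans (hp1 r').symm) (congrArg Subtype.val e)))
    have h := Nat.card_le_card_of_injective f hf
    rw [Nat.card_eq_fintype_card (α := ↥({1, a5, b5, a5 * b5} : Finset (Perm (Fin 5)))), Fintype.card_coe] at h
    exact h.trans Finset.card_le_four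
  have h := act.ker.card_mul_index
  rw [Subgroup.index_ker] at h
  rw [← h]
  calc _ ≤ 4 * 2 := Nat.mul_le_mul hker hrange
    _ = 8 := by norm_num

theorem normalises_of {H : Subgroup G} {g : G} (h : ∀ x ∈ H, g * x * g⁻¹ ∈ H) :
    g ∈ Subgroup.normalizer (H : Set G) := by
  have he : H.map (MulAut.conj g).toMonoidHom = H := Subgroup.eq_of_le_of_card_ge
    (by rintro _ ⟨x, hx, rfl⟩; exact h x hx) (Subgroup.card_map_of_injective (MulEquiv.injective _)).ge
  rw [Subgroup.mem_normalizer_iff]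
  refine fun x => ⟨h x, fun hx => ?_⟩
  rw [← he] at hx
  obtain ⟨y, hy, hxy⟩ := hx
  have : y = x := mul_left_cancel (mul_right_cancel (hxy : g * y * g⁻¹ = g * x * g⁻¹))
  exact this ▸ hy

theorem tiny_false (hK : L.Tiny) : False := by
  classical
  haveI := Fact.mk Nat.prime_two
  -- an involution centralising an element with centraliser of order eighteen
  set w₀ := L.z * L.ι uM with hw₀
  have hw₀3 : w₀ ^ 3 = 1 := by
    rw [hw₀, ← map_mul, ← map_pow, show (zM * uM) ^ 3 = 1 by decide +kernel, map_one]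
  obtain ⟨x, hx⟩ := exists_prime_orderOf_dvd_card' 2
    (show 2 ∣ Nat.card (Subgroup.centralizer ({w₀} : Set G)) by rw [L.card18]; norm_num)
  have hx2 : (x : G) * x = 1 := by
    have := pow_orderOf_eq_one x
    rw [hx, pow_two] at this
    exact congrArg Subtype.val this
  have hxw : Commute (x : G) w₀ := Subgroup.mem_centralizer_singleton_iff.1 x.2
  have hx1 : (x : G) ≠ 1 := fun e => by
    rw [show x = 1 from Subtype.ext e, orderOf_one] at hx; norm_num at hx
  -- involutions of `T0` are conjugate to `a`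
  set T := T35.map L.ι with hT
  have hTinv : ∀ y ∈ T, y * y = 1 → y ≠ 1 → ∃ g, g * L.a * g⁻¹ = y := by
    rintro _ ⟨m, ⟨h1, h2, h3⟩, rfl⟩ hm hm1
    have hm' : m * m = 1 := L.inj (by rw [map_mul, map_one]; exact hm)
    have hm1' : m ≠ 1 := fun e => hm1 (by rw [e, map_one])
    rcases t35_invol_aux _ h1 _ h2 h3 (M35.sign_eq m) (congrArg (fun w : M35 => w.1.1) hm')
      (congrArg (fun w : M35 => w.1.2) hm') with e | e | e | e | e | e
    · exact absurd (Subtype.ext (Prod.ext e.1 e.2)) hm1'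
    iterate 3 exact L.conj_a_of_even hm' hm1' (by rw [e.1, map_one])
    · refine L.conj_a hm hm1 (r := c034) (by decide) (by decide) (Commute.map (Subtype.ext (Prod.ext ?_ ?_)) L.ι)
      · show m.1.1 * 1 = 1 * m.1.1
        simp
      · show m.1.2 * c034 = c034 * m.1.2
        rw [e.2]; decide
    · refine L.conj_a hm hm1 (r := swap 0 2 * swap 0 1) (by decide) (by decide)
        (Commute.map (Subtype.ext (Prod.ext ?_ ?_)) L.ι)
      · show m.1.1 * 1 = 1 * m.1.1
        simp
      · show m.1.2 * (swap 0 2 * swap 0 1) = swap 0 2 * swap 0 1 * m.1.2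
        rw [e.2]; decide
  have hT8 : Nat.card T = 8 := by rw [hT, Subgroup.card_map_of_injective L.inj, card_T35]
  have hTp : IsPGroup 2 T := IsPGroup.of_card (n := 3) (by rw [hT8]; norm_num)
  obtain ⟨P, hP⟩ := hTp.exists_le_sylow
  -- two-subgroups normalising the second four-group are small
  rcases eq_or_lt_of_le hP with he | hlt
  · -- `T` is a Sylow subgroup
    obtain ⟨Q, hQ⟩ := (IsPGroup.of_card (p := 2) (n := 1) (G := Subgroup.zpowers (x : G))
      (by rw [Nat.card_zpowers, Subgroup.orderOf_coe, hx]; norm_num)).exists_le_sylow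
    obtain ⟨c, hc⟩ := MulAction.exists_smul_eq G Q P
    have hm : c * x * c⁻¹ ∈ T := by
      rw [he, ← hc, Sylow.coe_subgroup_smul, Subgroup.mem_smul_pointwise_iff_exists]
      exact ⟨x, hQ (Subgroup.mem_zpowers _), by simp [MulAut.conj_apply]⟩
    obtain ⟨g, hg⟩ := hTinv _ hm
      (by rw [show c * (x : G) * c⁻¹ * (c * x * c⁻¹) = c * ((x : G) * x) * c⁻¹ by group, hx2]; group)
      (fun e => hx1 (conj_eq_one_iff.1 e))
    refine L.sep hw₀3 L.card18 hxw (c⁻¹ * g) ?_
    calc c⁻¹ * g * L.a * (c⁻¹ * g)⁻¹ = c⁻¹ * (g * L.a * g⁻¹) * c := by group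
      _ = x := by rw [hg]; group
  obtain ⟨g, hgN, hgT⟩ := SetLike.exists_of_lt (SelfCentThree.normalizer_grows P.2 hlt)
  have hgP : g ∈ (P : Subgroup G) := hgN.1
  have hconjT : ∀ y ∈ T, g * y * g⁻¹ ∈ T := fun y hy => (Subgroup.mem_normalizer_iff.1 hgN.2 y).1 hy
  obtain ⟨⟨hb2, hbT⟩, ⟨ht2, htT⟩, hat, haT⟩ := four_reps
  -- `g` centralises `a`
  have hga : g * L.a * g⁻¹ = L.a := by
    obtain ⟨m, hm, hma⟩ := hconjT L.a ⟨aM, haT, rfl⟩
    have hcent : ∀ n ∈ T35, m * n = n * m := by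
      intro n hn
      refine L.inj ?_
      have hn' : g⁻¹ * L.ι n * g ∈ T := by
        have h1 := (Subgroup.mem_normalizer_iff.1 hgN.2 (g⁻¹ * L.ι n * g)).2
        refine h1 ?_
        rw [show g * (g⁻¹ * L.ι n * g) * g⁻¹ = L.ι n by group]
        exact ⟨n, hn, rfl⟩
      obtain ⟨n', ⟨-, -, h3⟩, hn''⟩ := hn'
      have hc : Commute L.a (L.ι n') := Commute.map (Subtype.ext (Prod.ext (by show 1 * n'.1.1 = n'.1.1 * 1; simp)
        h3.symm)) L.ι
      rw [map_mul, map_mul, hma]
      calc g * L.a * g⁻¹ * L.ι n = g * (L.a * (g⁻¹ * L.ι n * g)) * g⁻¹ := by group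
        _ = g * ((g⁻¹ * L.ι n * g) * L.a) * g⁻¹ := by rw [← hn'', hc.eq]
        _ = L.ι n * (g * L.a * g⁻¹) := by group
    rcases t35_center_aux m.1.2 hm.2.1 hm.2.2
      (congrArg (fun w : M35 => w.1.2) (hcent bM hbT)) (congrArg (fun w : M35 => w.1.2) (hcent tM htT)) with e | e
    all_goals
      have hm2 : m * m = 1 := L.inj (by
        rw [map_mul, hma, map_one, show g * L.a * g⁻¹ * (g * L.a * g⁻¹) = g * (L.a * L.a) * g⁻¹ by group, L.a_sq]
        group)
      have hp : m.1.1 = 1 := even_three_invol _ (by rw [M35.sign_eq, e]; decide)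
        (congrArg (fun w : M35 => w.1.1) hm2)
    · exact absurd (hma.symm.trans (by rw [show m = 1 from Subtype.ext (Prod.ext hp e), map_one]))
        fun h => L.a_ne_one (conj_eq_one_iff.1 h)
    · rw [← hma, show m = aM from Subtype.ext (Prod.ext hp e)]
  -- a group of order at least sixteen normalising `V` is impossible
  have hbig : ∀ (R : Subgroup G) (U : Subgroup G), IsPGroup 2 R → Nat.card U = 8 → U < R →
      (∃ c : G, ∀ y ∈ R, c * y * c⁻¹ ∈ Subgroup.normalizer (L.V : Set G)) → False := by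
    rintro R U hR hU hUR ⟨c, hc⟩
    have h1 := bound hK (R := R.map (MulAut.conj c).toMonoidHom) (hR.map _) (by
      rintro _ ⟨y, hy, rfl⟩; exact hc y hy)
    rw [Subgroup.card_map_of_injective (MulEquiv.injective _)] at h1
    obtain ⟨y, hyR, hyU⟩ := SetLike.exists_of_lt hUR
    have h2 : Nat.card U < Nat.card R := by
      refine lt_of_le_of_ne (Nat.le_of_dvd Nat.card_pos (Subgroup.card_dvd_of_le hUR.le)) fun e => hyU ?_
      rwa [Subgroup.eq_of_le_of_card_ge hUR.le e.ge]
    omega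
  have hTV : T ≤ Subgroup.normalizer (L.V : Set G) := by
    rintro _ ⟨n, hn, rfl⟩
    refine normalises_of ?_
    rintro _ ⟨v, hv, rfl⟩
    refine ⟨n * v * n⁻¹, ?_, by simp⟩
    have hmem : n * v * n⁻¹ ∈ T35 := by
      refine mul_mem (mul_mem hn ?_) (inv_mem hn)
      rcases hv with rfl | rfl | rfl | rfl
      exacts [one_mem _, haT, hbT, mul_mem haT hbT]
    have hev : sign (n * v * n⁻¹).1.1 = 1 := by
      show sign (n.1.1 * v.1.1 * n.1.1⁻¹) = 1
      rcases hv with rfl | rfl | rfl | rfl <;> simp [aM, bM, el]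
    have h2 : (n * v * n⁻¹) * (n * v * n⁻¹) = 1 := by
      rw [show n * v * n⁻¹ * (n * v * n⁻¹) = n * (v * v) * n⁻¹ by group]
      rcases hv with rfl | rfl | rfl | rfl
      all_goals
        first
          | rw [one_mul, mul_one, mul_inv_cancel]
          | rw [show aM * aM = 1 by decide +kernel, mul_one, mul_inv_cancel]
          | rw [show bM * bM = 1 by decide +kernel, mul_one, mul_inv_cancel]
          | rw [show aM * bM * (aM * bM) = 1 by decide +kernel, mul_one, mul_inv_cancel]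
    obtain ⟨k1, k2, k3⟩ := hmem
    rcases t35_invol_aux _ k1 _ k2 k3 (M35.sign_eq _) (congrArg (fun w : M35 => w.1.1) h2)
      (congrArg (fun w : M35 => w.1.2) h2) with e | e | e | e | e | e
    · exact Or.inl (Subtype.ext (Prod.ext e.1 e.2))
    · exact Or.inr (Or.inl (Subtype.ext (Prod.ext e.1 e.2)))
    · exact Or.inr (Or.inr (Or.inl (Subtype.ext (Prod.ext e.1 e.2))))
    · exact Or.inr (Or.inr (Or.inr (Subtype.ext (Prod.ext e.1 e.2))))
    all_goals rw [e.1, sign_swap (by decide)] at hev; exact absurd hev (by decide)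
  have hgV : g ∉ Subgroup.normalizer (L.V : Set G) := fun hN => by
    refine hbig (T ⊔ Subgroup.zpowers g) T (P.2.to_le (sup_le hlt.le ((Subgroup.zpowers_le).2 hgP))) hT8
      (lt_of_le_of_ne le_sup_left fun e => hgT (e.symm ▸ (le_sup_right : Subgroup.zpowers g ≤ T ⊔ Subgroup.zpowers g) (Subgroup.mem_zpowers g)))
      ⟨1, fun y hy => by simpa using (sup_le hTV ((Subgroup.zpowers_le).2 hN)) hy⟩
  -- so it carries the first four-group to the second
  have hgW : ∀ y ∈ L.V, g * y * g⁻¹ ∈ L.W := by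
    obtain ⟨m, hm, hmb⟩ := hconjT (L.ι bM) ⟨bM, hbT, rfl⟩
    have hm2 : m * m = 1 := L.inj (by
      rw [map_mul, hmb, map_one, show g * L.ι bM * g⁻¹ * (g * L.ι bM * g⁻¹) = g * (L.ι bM * L.ι bM) * g⁻¹ by group,
        ← map_mul, hb2, map_one]
      group)
    rcases t35_invol_aux _ hm.1 _ hm.2.1 hm.2.2 (M35.sign_eq m) (congrArg (fun w : M35 => w.1.1) hm2)
      (congrArg (fun w : M35 => w.1.2) hm2) with e | e | e | e | e | e
    rotate_left 4
    rotate_left 1
    · -- `b` goes to the other element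
      have hm' : m = aM * tM := Subtype.ext (Prod.ext (by rw [e.1]; decide +kernel) (by rw [e.2]; decide +kernel))
      subst hm'
      rintro _ ⟨v, hv, rfl⟩
      rcases hv with rfl | rfl | rfl | rfl
      · rw [map_one, mul_one, mul_inv_cancel]; exact one_mem _
      · exact ⟨aM, Or.inr (Or.inl rfl), hga.symm⟩
      · exact ⟨_, Or.inr (Or.inr (Or.inr rfl)), hmb⟩
      · refine ⟨aM * (aM * tM), Or.inr (Or.inr (Or.inl (by decide +kernel))), ?_⟩
        rw [map_mul, map_mul L.ι aM bM, hmb, show g * (L.a * L.ι bM) * g⁻¹ = g * L.a * g⁻¹ * (g * L.ι bM * g⁻¹) by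
          group, hga]
    rotate_left 4
    · have hm' : m = tM := Subtype.ext (Prod.ext e.1 e.2)
      subst hm'
      rintro _ ⟨v, hv, rfl⟩
      rcases hv with rfl | rfl | rfl | rfl
      · rw [map_one, mul_one, mul_inv_cancel]; exact one_mem _
      · exact ⟨aM, Or.inr (Or.inl rfl), hga.symm⟩
      · exact ⟨_, Or.inr (Or.inr (Or.inl rfl)), hmb⟩
      · refine ⟨aM * tM, Or.inr (Or.inr (Or.inr rfl)), ?_⟩
        rw [map_mul, map_mul L.ι aM bM, hmb, show g * (L.a * L.ι bM) * g⁻¹ = g * L.a * g⁻¹ * (g * L.ι bM * g⁻¹) by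
          group, hga]
    all_goals
      refine absurd (normalises_of ?_) hgV
      have hgb : g * L.ι bM * g⁻¹ ∈ L.V := by
        refine ⟨m, ?_, hmb⟩
        first
          | exact Or.inl (Subtype.ext (Prod.ext e.1 e.2))
          | exact Or.inr (Or.inl (Subtype.ext (Prod.ext e.1 e.2)))
          | exact Or.inr (Or.inr (Or.inl (Subtype.ext (Prod.ext e.1 e.2))))
          | exact Or.inr (Or.inr (Or.inr (Subtype.ext (Prod.ext e.1 e.2))))
      rintro _ ⟨v, hv, rfl⟩
      rcases hv with rfl | rfl | rfl | rfl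
      · rw [map_one, mul_one, mul_inv_cancel]; exact one_mem _
      · rw [hga]; exact ⟨aM, Or.inr (Or.inl rfl), rfl⟩
      · exact hgb
      · rw [map_mul, show g * (L.a * L.ι bM) * g⁻¹ = g * L.a * g⁻¹ * (g * L.ι bM * g⁻¹) by group, hga]
        exact mul_mem ⟨aM, Or.inr (Or.inl rfl), rfl⟩ hgb
  have hWV : ∀ y ∈ L.W, g⁻¹ * y * g ∈ L.V := by
    have he : L.V.map (MulAut.conj g).toMonoidHom = L.W := by
      refine Subgroup.eq_of_le_of_card_ge (by rintro _ ⟨y, hy, rfl⟩; exact hgW y hy) ?_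
      rw [Subgroup.card_map_of_injective (f := (MulAut.conj g).toMonoidHom) (MulAut.conj g).injective,
        Subgroup.card_map_of_injective L.inj, Subgroup.card_map_of_injective L.inj, card_V35, card_W35]
    intro y hy
    rw [← he] at hy
    obtain ⟨w, hw, rfl⟩ := hy
    simpa [mul_assoc] using hw
  -- a Sylow two-subgroup of the normalizer of `D`
  have hWD : L.W ≤ Subgroup.normalizer (L.D : Set G) := by
    have hgen : ∀ m, (∀ i j : Fin 3, ∃ i' j' : Fin 3, m * (zM ^ i.val * uM ^ j.val) * m⁻¹ = zM ^ i'.val * uM ^ j'.val) →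
        L.ι m ∈ Subgroup.normalizer (L.D : Set G) := by
      intro m h
      refine normalises_of fun d hd => ?_
      obtain ⟨i, j, rfl⟩ := (L.memD d).1 hd
      obtain ⟨i', j', e⟩ := h i j
      exact (L.memD _).2 ⟨i', j', by rw [← e]; simp⟩
    rintro _ ⟨v, hv, rfl⟩
    have h1 := hgen aM fun i j => (v2_normalises i j).1
    have h2 := hgen tM fun i j => (v2_normalises i j).2
    rcases hv with rfl | rfl | rfl | rfl
    · rw [map_one]; exact one_mem _
    · exact h1
    · exact h2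
    · rw [map_mul]; exact mul_mem h1 h2
  set N := Subgroup.normalizer (L.D : Set G) with hN
  have hW4 : Nat.card L.W = 4 := by
    rw [Subgroup.card_map_of_injective L.inj, card_W35]
  obtain ⟨EN, hEN⟩ := (IsPGroup.of_card (p := 2) (n := 2) (G := L.W.subgroupOf N) (by
    rw [Nat.card_congr (Subgroup.subgroupOfEquivOfLe hWD).toEquiv, hW4]; norm_num)).exists_le_sylow
  have hEN8 : Nat.card (EN : Subgroup N) = 8 := by
    rw [Sylow.card_eq_multiplicity, hN, L.cardND]
    have : (72 : ℕ).factorization 2 = 3 := by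
      rw [show (72 : ℕ) = 2 ^ 3 * 9 from rfl, Nat.factorization_mul (by norm_num) (by norm_num), Finsupp.add_apply,
        Nat.Prime.factorization_pow Nat.prime_two, Finsupp.single_eq_same,
        Nat.factorization_eq_zero_of_not_dvd (by norm_num : ¬ 2 ∣ 9)]
    rw [this]; norm_num
  set E := (EN : Subgroup N).map N.subtype with hE
  have hE8 : Nat.card E = 8 := by rw [hE, Subgroup.card_map_of_injective N.subtype_injective, hEN8]
  have hWE : L.W ≤ E := fun y hy => ⟨⟨y, hWD hy⟩, hEN (Subgroup.mem_subgroupOf.2 hy), rfl⟩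
  have hEN' : E ≤ N := Subgroup.map_subtype_le _
  have hidx : (L.W.subgroupOf E).index = 2 := by
    have h := (L.W.subgroupOf E).card_mul_index
    rw [Nat.card_congr (Subgroup.subgroupOfEquivOfLe hWE).toEquiv, hW4, hE8] at h
    omega
  haveI : (L.W.subgroupOf E).Normal := Subgroup.normal_of_index_eq_two hidx
  have hEW : E ≤ Subgroup.normalizer (L.W : Set G) := (Subgroup.normal_subgroupOf_iff_le_normalizer hWE).1 this
  -- the involution `x` normalises `D`, so a conjugate of it lies in `E`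
  have hxD : (x : G) ∈ N := by
    have hDC : L.D ≤ Subgroup.centralizer ({w₀} : Set G) := by
      intro d hd
      rw [Subgroup.mem_centralizer_singleton_iff]
      have hw : w₀ ∈ L.D := (L.memD _).2 ⟨1, 1, by simp [hw₀]⟩
      have := L.cd.ge hw
      exact (Subgroup.mem_centralizer_iff.1 this d hd)
    have h2 : (L.D.subgroupOf (Subgroup.centralizer ({w₀} : Set G))).index = 2 := by
      have h := (L.D.subgroupOf (Subgroup.centralizer ({w₀} : Set G))).card_mul_index
      rw [Nat.card_congr (Subgroup.subgroupOfEquivOfLe hDC).toEquiv, L.cardD, L.card18] at h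
      omega
    haveI : (L.D.subgroupOf (Subgroup.centralizer ({w₀} : Set G))).Normal := Subgroup.normal_of_index_eq_two h2
    exact (Subgroup.normal_subgroupOf_iff_le_normalizer hDC).1 this x.2
  obtain ⟨Q, hQ⟩ := (IsPGroup.of_card (p := 2) (n := 1) (G := Subgroup.zpowers (⟨x, hxD⟩ : N))
    (by rw [Nat.card_zpowers, ← Subgroup.orderOf_coe, Subgroup.coe_mk, Subgroup.orderOf_coe, hx]; norm_num)).exists_le_sylow
  obtain ⟨c, hc⟩ := MulAction.exists_smul_eq N Q EN
  set s := (c : G) * x * (c : G)⁻¹ with hs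
  set w := (c : G) * w₀ * (c : G)⁻¹ with hw
  have hsE : s ∈ E := by
    refine ⟨c * ⟨x, hxD⟩ * c⁻¹, ?_, rfl⟩
    show c * ⟨x, hxD⟩ * c⁻¹ ∈ (EN : Subgroup N)
    rw [← hc, Sylow.coe_subgroup_smul, Subgroup.mem_smul_pointwise_iff_exists]
    exact ⟨_, hQ (Subgroup.mem_zpowers _), by simp [MulAut.conj_apply]⟩
  have hw3 : w ^ 3 = 1 := by rw [hw, conj_pow, hw₀3]; group
  have hw18 : Nat.card (Subgroup.centralizer ({w} : Set G)) = 18 := by rw [hw, card_cent_conj]; exact L.card18
  have hsw : Commute s w := hxw.map (MulAut.conj (c : G)).toMonoidHom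
  have hs2 : s * s = 1 := by
    rw [hs, show (c : G) * x * (c : G)⁻¹ * ((c : G) * x * (c : G)⁻¹) = c * ((x : G) * x) * (c : G)⁻¹ by group, hx2]
    group
  have hs1 : s ≠ 1 := fun e => hx1 (conj_eq_one_iff.1 e)
  have hsinv : ∀ g', g' * L.a * g'⁻¹ ≠ s := L.sep hw3 hw18 hsw
  -- `s` does not commute with `a`
  have hsa : ¬ Commute s L.a := by
    intro hc'
    have hsN : s ∈ N := hEN' hsE
    have hzD : L.z ∈ L.D := (L.memD _).2 ⟨1, 0, by simp⟩
    have huD : L.ι uM ∈ L.D := (L.memD _).2 ⟨0, 1, by simp⟩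
    obtain ⟨i, j, hij⟩ := (L.memD _).1 ((Subgroup.mem_normalizer_iff.1 hsN _).1 hzD)
    obtain ⟨i', j', hij'⟩ := (L.memD _).1 ((Subgroup.mem_normalizer_iff.1 hsN _).1 huD)
    have hmove : ∀ v, L.a * (s * v * s⁻¹) * L.a⁻¹ = s * (L.a * v * L.a⁻¹) * s⁻¹ := fun v => by
      calc L.a * (s * v * s⁻¹) * L.a⁻¹ = (L.a * s) * v * (L.a * s)⁻¹ := by group
        _ = (s * L.a) * v * (s * L.a)⁻¹ := by rw [hc'.eq]
        _ = _ := by group
    have hj0 : j = 0 := aM_fix i j (L.inj (by
      rw [map_mul, map_mul, map_inv, ← hij, hmove, ← map_inv, ← map_mul, ← map_mul, aM_spec.1]))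
    have hi0 : i' = 0 := aM_invert i' j' (L.inj (by
      rw [map_mul, map_mul, map_inv, map_inv, ← hij', hmove, ← map_inv, ← map_mul, ← map_mul, aM_spec.2, map_inv]
      group))
    subst hj0 hi0
    simp only [Fin.val_zero, pow_zero, one_mul, mul_one] at hij hij'
    have hwD : w ∈ L.D := (Subgroup.mem_normalizer_iff.1 c.2 _).1 ((L.memD _).2 ⟨1, 1, by simp [hw₀]⟩)
    obtain ⟨i₁, j₁, hw'⟩ := (L.memD _).1 hwD
    have hi1 : i₁ ≠ 0 := by
      intro e
      subst e
      rw [Fin.val_zero, pow_zero, one_mul] at hw'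
      obtain ⟨g', hg'⟩ := L.conjU
      rw [hw'] at hw18
      rcases u_pow_cases j₁ with e | e | e <;> rw [e] at hw18
      · rw [map_one, show Subgroup.centralizer ({(1 : G)} : Set G) = ⊤ from
          eq_top_iff.2 fun v _ => Subgroup.mem_centralizer_singleton_iff.2 (by simp), Subgroup.card_top] at hw18
        have := L.card180 ▸ Subgroup.card_le_card_group (Subgroup.centralizer ({L.z} : Set G))
        omega
      · rw [← hg', card_cent_conj, L.card180] at hw18; omega
      · rw [map_inv, card_cent_inv, ← hg', card_cent_conj, L.card180] at hw18; omega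
    have hj1 : j₁ ≠ 0 := by
      intro e
      subst e
      rw [Fin.val_zero, pow_zero, mul_one] at hw'
      rw [hw'] at hw18
      rcases z_pow_cases i₁ hi1 with e | e <;> rw [e] at hw18
      · rw [L.card180] at hw18; omega
      · rw [map_inv, card_cent_inv, L.card180] at hw18; omega
    have hfix : (zM ^ i.val) ^ i₁.val * (uM ^ j'.val) ^ j₁.val = zM ^ i₁.val * uM ^ j₁.val := L.inj (by
      rw [← hw', map_mul, map_pow L.ι (zM ^ i.val), map_pow L.ι (uM ^ j'.val), ← hij, ← hij', conj_pow, conj_pow,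
        ← map_pow, ← map_pow,
        show s * L.ι (zM ^ i₁.val) * s⁻¹ * (s * L.ι (uM ^ j₁.val) * s⁻¹) =
          s * (L.ι (zM ^ i₁.val) * L.ι (uM ^ j₁.val)) * s⁻¹ by group, ← map_mul, ← hw', hsw.eq, mul_inv_cancel_right])
    obtain ⟨hi, hj⟩ := act_fix i₁ j₁ i j' hi1 hj1 hfix
    subst hi hj
    rw [Fin.val_one, pow_one] at hij hij'
    have hsD : s ∈ L.D := by
      rw [← L.cd, Subgroup.mem_centralizer_iff]
      intro d hd
      obtain ⟨i₂, j₂, rfl⟩ := (L.memD d).1 hd
      rw [map_mul, map_pow, map_pow]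
      exact (Commute.mul_left (Commute.pow_left (mul_inv_eq_iff_eq_mul.1 hij).symm _)
        (Commute.pow_left (mul_inv_eq_iff_eq_mul.1 hij').symm _)).eq
    obtain ⟨i₃, j₃, hs'⟩ := (L.memD s).1 hsD
    have h3 : s ^ 3 = 1 := by
      rw [hs', ← map_pow, zu_pow_three, map_one]
    rw [pow_three, hs2, mul_one] at h3
    exact hs1 h3
  have hsW : s ∉ L.W := by
    rintro ⟨m, hm, hm'⟩
    have hmT : m ∈ T35 := by
      rcases hm with rfl | rfl | rfl | rfl
      exacts [one_mem _, haT, htT, mul_mem haT htT]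
    obtain ⟨g', hg'⟩ := hTinv s ⟨m, hmT, hm'⟩ hs2 hs1
    exact hsinv g' hg'
  -- `E` is a Sylow subgroup
  have hEp : IsPGroup 2 E := IsPGroup.of_card (n := 3) (by rw [hE8]; norm_num)
  obtain ⟨P', hP'⟩ := hEp.exists_le_sylow
  rcases eq_or_lt_of_le hP' with he' | hlt'
  · have h1 : Nat.card (P' : Subgroup G) = 8 := by rw [← he', hE8]
    have h2 : Nat.card T < Nat.card (P : Subgroup G) := by
      refine lt_of_le_of_ne (Nat.le_of_dvd Nat.card_pos (Subgroup.card_dvd_of_le hlt.le)) fun e => hgT ?_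
      rwa [Subgroup.eq_of_le_of_card_ge hlt.le e.ge]
    rw [Sylow.card_eq_multiplicity] at h1 h2
    omega
  obtain ⟨g', hg'N, hg'E⟩ := SetLike.exists_of_lt (SelfCentThree.normalizer_grows P'.2 hlt')
  have hg'W : g' ∉ Subgroup.normalizer (L.W : Set G) := fun hN' => by
    refine hbig (E ⊔ Subgroup.zpowers g') E (P'.2.to_le (sup_le hlt'.le ((Subgroup.zpowers_le).2 hg'N.1))) hE8
      (lt_of_le_of_ne le_sup_left fun e => hg'E (e.symm ▸ (le_sup_right : Subgroup.zpowers g' ≤ E ⊔ Subgroup.zpowers g') (Subgroup.mem_zpowers g')))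
      ⟨g⁻¹, fun y hy => normalises_of fun v hv => ?_⟩
    have hyN : y ∈ Subgroup.normalizer (L.W : Set G) := (sup_le hEW ((Subgroup.zpowers_le).2 hN')) hy
    have h1 := (Subgroup.mem_normalizer_iff.1 hyN _).1 (hgW v hv)
    have h2 := hWV _ h1
    have h3 : g⁻¹ * y * g⁻¹⁻¹ * v * (g⁻¹ * y * g⁻¹⁻¹)⁻¹ = g⁻¹ * (y * (g * v * g⁻¹) * y⁻¹) * g := by group
    rw [h3]; exact h2
  -- two more involutions outside the second four-group
  have himg : ∀ v ∈ L.W, g' * v * g'⁻¹ ∈ E := fun v hv => (Subgroup.mem_normalizer_iff.1 hg'N.2 v).1 (hWE hv)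
  obtain ⟨w₁, w₂, h12, h1E, h2E, h1W, h2W, h1a, h2a⟩ : ∃ w₁ w₂ : G, w₁ ≠ w₂ ∧ w₁ ∈ E ∧ w₂ ∈ E ∧ w₁ ∉ L.W ∧
      w₂ ∉ L.W ∧ (w₁ * w₁ = 1 ∧ ∃ k, k * L.a * k⁻¹ = w₁) ∧ (w₂ * w₂ = 1 ∧ ∃ k, k * L.a * k⁻¹ = w₂) := by
    have haW : L.a ∈ L.W := ⟨aM, Or.inr (Or.inl rfl), rfl⟩
    have htW : L.ι tM ∈ L.W := ⟨tM, Or.inr (Or.inr (Or.inl rfl)), rfl⟩
    have hatW : L.a * L.ι tM ∈ L.W := mul_mem haW htW
    have hconj : ∀ v ∈ L.W, v ≠ 1 → g' * v * g'⁻¹ * (g' * v * g'⁻¹) = 1 ∧
        ∃ k, k * L.a * k⁻¹ = g' * v * g'⁻¹ := by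
      rintro _ ⟨m, hm, rfl⟩ hm1
      have hmT : m ∈ T35 := by
        rcases hm with rfl | rfl | rfl | rfl
        exacts [one_mem _, haT, htT, mul_mem haT htT]
      have hm2 : L.ι m * L.ι m = 1 := by
        rw [← map_mul]
        rcases hm with rfl | rfl | rfl | rfl <;>
          first
            | rw [one_mul, map_one]
            | rw [show aM * aM = 1 by decide +kernel, map_one]
            | rw [ht2, map_one]
            | rw [show aM * tM * (aM * tM) = 1 by decide +kernel, map_one]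
      obtain ⟨k, hk⟩ := hTinv _ ⟨m, hmT, rfl⟩ hm2 hm1
      refine ⟨by rw [show g' * L.ι m * g'⁻¹ * (g' * L.ι m * g'⁻¹) = g' * (L.ι m * L.ι m) * g'⁻¹ by group, hm2]; group,
        g' * k, ?_⟩
      rw [← hk]; group
    have hne1 : L.ι tM ≠ 1 := fun e => absurd (L.inj (e.trans (map_one _).symm)) (by decide +kernel)
    have hne2 : L.a * L.ι tM ≠ 1 := by
      rw [← map_mul]; exact fun e => absurd (L.inj (e.trans (map_one _).symm)) (by decide +kernel)
    have hmul : g' * (L.a * L.ι tM) * g'⁻¹ = g' * L.a * g'⁻¹ * (g' * L.ι tM * g'⁻¹) := by group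
    have hall : ¬ (g' * L.a * g'⁻¹ ∈ L.W ∧ g' * L.ι tM * g'⁻¹ ∈ L.W) := by
      rintro ⟨h1, h2⟩
      refine hg'W (normalises_of ?_)
      rintro _ ⟨m, hm, rfl⟩
      rcases hm with rfl | rfl | rfl | rfl
      · rw [map_one, mul_one, mul_inv_cancel]; exact one_mem _
      · exact h1
      · exact h2
      · rw [map_mul, hmul]; exact mul_mem h1 h2
    by_cases h1 : g' * L.a * g'⁻¹ ∈ L.W
    · refine ⟨g' * L.ι tM * g'⁻¹, g' * (L.a * L.ι tM) * g'⁻¹, ?_, himg _ htW, himg _ hatW, fun h => hall ⟨h1, h⟩,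
        fun h => hall ⟨h1, ?_⟩, hconj _ htW hne1, hconj _ hatW hne2⟩
      · exact fun e => L.a_ne_one (mul_eq_right.1 (mul_left_cancel (mul_right_cancel e)).symm)
      · rw [hmul] at h
        exact (Subgroup.mul_mem_cancel_left _ h1).1 h
    · by_cases h2 : g' * L.ι tM * g'⁻¹ ∈ L.W
      · refine ⟨g' * L.a * g'⁻¹, g' * (L.a * L.ι tM) * g'⁻¹, ?_, himg _ haW, himg _ hatW, h1,
          fun h => h1 ?_, hconj _ haW L.a_ne_one, hconj _ hatW hne2⟩
        · exact fun e => hne1 (mul_eq_left.1 (mul_left_cancel (mul_right_cancel e)).symm)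
        · rw [hmul] at h
          exact (Subgroup.mul_mem_cancel_right _ h2).1 h
      · refine ⟨g' * L.a * g'⁻¹, g' * L.ι tM * g'⁻¹, ?_, himg _ haW, himg _ htW, h1, h2, hconj _ haW L.a_ne_one,
          hconj _ htW hne1⟩
        exact fun e => absurd (L.inj (mul_left_cancel (mul_right_cancel e))) (by decide +kernel)
  -- so `s` centralises the second four-group
  have hin : ∀ u ∈ E, u ∉ L.W → u * u = 1 → s * u ∈ L.W ∧ Commute s (s * u) := by
    intro u hu huW hu2
    have hm : s * u ∈ L.W := by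
      have := (Subgroup.mul_mem_iff_of_index_two hidx (a := ⟨s, hsE⟩) (b := ⟨u, hu⟩)).2
        (iff_of_false (fun h => hsW (Subgroup.mem_subgroupOf.1 h)) fun h => huW (Subgroup.mem_subgroupOf.1 h))
      exact Subgroup.mem_subgroupOf.1 this
    refine ⟨hm, ?_⟩
    have h2 : s * u * (s * u) = 1 := by
      obtain ⟨m, hm', he⟩ := hm
      rw [← he, ← map_mul, ← map_one L.ι]
      refine congrArg L.ι ?_
      rcases hm' with rfl | rfl | rfl | rfl <;> decide +kernel
    have hus : u * s = s * u := by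
      calc u * s = s * (s * u * (s * u)) * u := by
            rw [show s * (s * u * (s * u)) * u = s * s * (u * s) * (u * u) by group, hs2, hu2, one_mul, mul_one]
        _ = s * u := by rw [h2, mul_one]
    exact (Commute.refl s).mul_right hus.symm
  obtain ⟨hv1, hc1⟩ := hin w₁ h1E h1W h1a.1
  obtain ⟨hv2, hc2⟩ := hin w₂ h2E h2W h2a.1
  obtain ⟨m₁, hm₁, e₁⟩ := hv1
  obtain ⟨m₂, hm₂, e₂⟩ := hv2
  have hn1 : m₁ ≠ 1 := by
    rintro rfl
    obtain ⟨k, hk⟩ := h1a.2
    rw [map_one] at e₁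
    exact hsinv k (hk.trans (mul_left_cancel (hs2.trans e₁)).symm)
  have hn2 : m₂ ≠ 1 := by
    rintro rfl
    obtain ⟨k, hk⟩ := h2a.2
    rw [map_one] at e₂
    exact hsinv k (hk.trans (mul_left_cancel (hs2.trans e₂)).symm)
  have hn12 : m₁ ≠ m₂ := fun e => h12 (mul_left_cancel (e₁.symm.trans ((congrArg L.ι e).trans e₂)))
  rw [← e₁] at hc1
  rw [← e₂] at hc2
  have hc12 := hc1.mul_right hc2
  rw [← map_mul] at hc12
  refine hsa ?_
  rcases hm₁ with rfl | rfl | rfl | rfl
  · exact absurd rfl hn1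
  · exact hc1
  all_goals
    rcases hm₂ with rfl | rfl | rfl | rfl
    · exact absurd rfl hn2
    · exact hc2
    · first
        | exact absurd rfl hn12
        | (rwa [show aM * tM * tM = aM by decide +kernel] at hc12)
    · first
        | exact absurd rfl hn12
        | (rwa [show tM * (aM * tM) = aM by decide +kernel] at hc12)

end Loc

end CfsgLib.A8ThreeLocal
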