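import Cfsg.Agent.Lib.A8ThreeLocal.Key
import Cfsg.Agent.Lib.A8ThreeLocal.Eight

/-!
A subgroup isomorphic to the alternating group of degree eight.
-/

set_option autoImplicit false
set_option maxRecDepth 8000

namespace CfsgLib.A8ThreeLocal

open Equiv Equiv.Perm

universe u

theorem gM_sq : ∀ k : Fin 4, gM k * gM k = 1 := by decide +kernel

theorem gM_inv_z : ∀ k : Fin 4, gM k * zM * gM k = zM⁻¹ := by decide +kernel

theorem gM_braid : ∀ i j : Fin 4, i.val + 1 = j.val → (gM i * gM j) ^ 3 = 1 := by decide +kernel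

theorem gM_far : ∀ i j : Fin 4, i.val + 1 < j.val → (gM i * gM j) ^ 2 = 1 := by decide +kernel

theorem gM_four : ∀ k : Fin 4, k ≠ 0 → ∀ m : M35, m = aM ∨ m = bM ∨ m = vM →
    ((gM k)⁻¹ * m * gM k).1.1 = 1 ∧ ((gM k)⁻¹ * m * gM k).1.2 0 = 0 := by
  rintro k hk m (rfl | rfl | rfl) <;> revert hk <;> revert k <;> decide +kernel

variable {G : Type u} [Group G] [Finite G]

namespace Loc

variable (L : Loc G)

/-- The embedded alternating group of degree eight. -/
structure HData where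
  /-- the homomorphism -/
  φ : alternatingGroup (Fin 8) →* G
  /-- it is injective -/
  inj : Function.Injective φ
  /-- it extends the given identification -/
  agree : ∀ m : M35, φ (emb m) = L.ι m
  /-- its image contains the centraliser of the four-group -/
  centV : ∀ g : G, Commute g L.a → Commute g (L.ι bM) → ∃ x, φ x = g

theorem exists_hdata : Nonempty L.HData := by
  classical
  obtain ⟨kd⟩ := L.exists_kdata
  have hcommX : ∀ x ∈ kd.X, ∀ y ∈ kd.X, x * y = y * x := by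
    intro x hx y hy
    have h := kd.sq _ (mul_mem hx hy)
    calc x * y = x * (x * y * (x * y)) * y := by rw [h, mul_one]
      _ = (x * x) * (y * x) * (y * y) := by group
      _ = y * x := by rw [kd.sq x hx, kd.sq y hy, one_mul, mul_one]
  have hpres : ∀ k : Fin 4, k ≠ 0 → ∀ x ∈ kd.X, L.ι (gM k) * x * (L.ι (gM k))⁻¹ ∈ kd.X := by
    intro k hk x hx
    have key : ∀ m : M35, m = aM ∨ m = bM ∨ m = vM → Commute (L.ι (gM k) * x * (L.ι (gM k))⁻¹) (L.ι m) := by
      intro m hm
      obtain ⟨h1, h2⟩ := gM_four k hk m hm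
      have h := (kd.comm x hx _ h1 h2).map (MulAut.conj (L.ι (gM k))).toMonoidHom
      simpa [mul_assoc] using h
    refine kd.mem _ (key aM (Or.inl rfl)) (key bM (Or.inr (Or.inl rfl))) (key vM (Or.inr (Or.inr rfl))) ?_
    rw [show L.ι (gM k) * x * (L.ι (gM k))⁻¹ * (L.ι (gM k) * x * (L.ι (gM k))⁻¹) =
      L.ι (gM k) * (x * x) * (L.ι (gM k))⁻¹ by group, kd.sq x hx]
    group
  set k₁ := L.ι (gM 1) with hk₁
  obtain ⟨w, hw, hw1, hwfix⟩ : ∃ w ∈ kd.X, w ≠ 1 ∧ k₁ * w * k₁⁻¹ = w := by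
    obtain ⟨⟨w₀, hw₀⟩, hne⟩ : ∃ x : kd.X, x ≠ 1 := by
      by_contra h
      push Not at h
      have h1 : Nat.card kd.X = 1 := by
        rw [(Subgroup.eq_bot_iff_forall kd.X).2 fun x hx => congrArg Subtype.val (h ⟨x, hx⟩), Subgroup.card_bot]
      rw [kd.card] at h1
      norm_num at h1
    have hne' : w₀ ≠ 1 := fun e => hne (Subtype.ext e)
    by_cases hf : k₁ * w₀ * k₁⁻¹ = w₀
    · exact ⟨w₀, hw₀, hne', hf⟩
    refine ⟨w₀ * (k₁ * w₀ * k₁⁻¹), mul_mem hw₀ (hpres 1 (by decide) w₀ hw₀), fun e => hf ?_, ?_⟩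
    · exact (mul_left_cancel ((kd.sq w₀ hw₀).trans e.symm)).symm
    · have hk2 : k₁ * k₁ = 1 := by rw [hk₁, ← map_mul, gM_sq, map_one]
      calc k₁ * (w₀ * (k₁ * w₀ * k₁⁻¹)) * k₁⁻¹ = k₁ * w₀ * k₁⁻¹ * ((k₁ * k₁) * w₀ * (k₁ * k₁)⁻¹) := by group
        _ = k₁ * w₀ * k₁⁻¹ * w₀ := by rw [hk2]; group
        _ = w₀ * (k₁ * w₀ * k₁⁻¹) := hcommX _ (hpres 1 (by decide) w₀ hw₀) _ hw₀
  have hcomm1 : Commute w (L.ι (gM 1)) := (mul_inv_eq_iff_eq_mul.1 hwfix).symm
  have hcomm2 : Commute w (L.ι (gM 2)) := by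
    rw [show gM 2 = gM 1 * (gM 1 * gM 2) by rw [← mul_assoc, gM_sq, one_mul], map_mul]
    exact hcomm1.mul_right (kd.comm w hw _ (by decide +kernel) (by decide +kernel))
  have hcomm3 : Commute w (L.ι (gM 3)) := by
    rw [show gM 3 = gM 2 * (gM 2 * gM 3) by rw [← mul_assoc, gM_sq, one_mul], map_mul]
    exact hcomm2.mul_right (kd.comm w hw _ (by decide +kernel) (by decide +kernel))
  -- the relation with `z`
  have hzw : (L.z * w) ^ 3 = 1 := by
    obtain ⟨b, hb⟩ : ∃ b, b = L.z * w * L.z⁻¹ := ⟨_, rfl⟩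
    obtain ⟨c, hc⟩ : ∃ c, c = L.z * b * L.z⁻¹ := ⟨_, rfl⟩
    have hbX : b ∈ kd.X := hb ▸ kd.conj w hw
    have hcX : c ∈ kd.X := hc ▸ kd.conj b hbX
    have hz3 := L.z_pow
    have hcz : L.z * c * L.z⁻¹ = w := by
      calc L.z * c * L.z⁻¹ = L.z ^ 3 * w * (L.z ^ 3)⁻¹ := by rw [hc, hb, pow_three]; group
        _ = w := by rw [hz3]; group
    have hfix : L.z * (w * b * c) * L.z⁻¹ = w * b * c := by
      calc L.z * (w * b * c) * L.z⁻¹ = b * c * (L.z * c * L.z⁻¹) := by rw [hc, hb]; group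
        _ = b * c * w := by rw [hcz]
        _ = w * (b * c) := hcommX _ (mul_mem hbX hcX) _ hw
        _ = w * b * c := by group
    have h1 := kd.fpf _ (mul_mem (mul_mem hw hbX) hcX) (mul_inv_eq_iff_eq_mul.1 hfix).symm
    calc (L.z * w) ^ 3 = b * c * (L.z ^ 3 * w) := by rw [hc, hb, pow_three, pow_three]; group
      _ = b * c * w := by rw [hz3, one_mul]
      _ = w * (b * c) := hcommX _ (mul_mem hbX hcX) _ hw
      _ = 1 := by rw [← mul_assoc]; exact h1
  -- the braid relation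
  have hbr : (w * L.ι (gM 0)) ^ 3 = 1 := by
    obtain ⟨g, hg⟩ := L.conj_r (r := c234) (by decide) (by decide)
    have hg' : g * L.z * g⁻¹ = L.v := hg
    set f := MulAut.conj g⁻¹ with hf
    have hfv : f L.v = L.z := by rw [← hg', hf, MulAut.conj_apply, inv_inv]; group
    obtain ⟨mw, hmw, hwp, hwq⟩ := L.mem_cz (g := f w) (by
      rw [← hfv]; exact (kd.comm w hw vM (by decide +kernel) (by decide +kernel)).map f.toMonoidHom)
    obtain ⟨ma, hma, hap, haq⟩ := L.mem_cz (g := f (L.ι (gM 0))) (by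
      rw [← hfv]; exact ((show Commute (gM 0) vM from (by decide +kernel : gM 0 * vM = vM * gM 0)).map L.ι).map f.toMonoidHom)
    obtain ⟨mz, hmz, hzp, hzq⟩ := L.mem_cz (g := f L.z) (by
      nth_rw 2 [← hfv]; exact ((show Commute zM vM from (by decide +kernel : zM * vM = vM * zM)).map L.ι).map f.toMonoidHom)
    have hinvv : f (L.ι (gM 3)) * L.z * (f (L.ι (gM 3)))⁻¹ = L.z⁻¹ := by
      rw [← hfv, ← map_inv f, ← map_mul, ← map_mul, ← map_inv f]
      refine congrArg f ?_
      rw [← map_inv, ← map_inv, ← map_mul, ← map_mul, show gM 3 * vM * (gM 3)⁻¹ = vM⁻¹ by decide +kernel]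
    obtain ⟨mt, hmt⟩ := L.cover _ (Or.inr hinvv)
    have tr : ∀ {x y : M35} {s t : G}, L.ι x = f s → L.ι y = f t → s = t → x = y :=
      fun {x y s t} hx hy e => L.inj (by rw [hx, hy, e])
    have hw2 : mw * mw = 1 := L.inj (by rw [map_mul, hmw, ← map_mul, kd.sq w hw, map_one, map_one])
    have ha2 : ma * ma = 1 := L.inj (by rw [map_mul, hma, ← map_mul, ← map_mul, gM_sq, map_one, map_one])
    have ht2 : mt * mt = 1 := L.inj (by rw [map_mul, hmt, ← map_mul, ← map_mul, gM_sq, map_one, map_one])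
    have hwp1 := sq_ne_one_of_sign hw2 hwp
    have hap1 := sq_ne_one_of_sign ha2 hap
    have hz3 : mz ^ 3 = 1 := L.inj (by rw [map_pow, hmz, ← map_pow, L.z_pow, map_one, map_one])
    have hr1 : mz.1.2 ≠ 1 := by
      intro e
      refine hw1 (kd.fpf w hw (f.injective ?_))
      rw [map_mul, map_mul, ← hmw, ← hmz, ← map_mul, ← map_mul]
      exact congrArg L.ι (Subtype.ext (Prod.ext (by show mw.1.1 * mz.1.1 = mz.1.1 * mw.1.1; rw [hwp1]; simp)
        (by show mw.1.2 * mz.1.2 = mz.1.2 * mw.1.2; rw [e]; simp)))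
    have hw1' : mw.1.2 ≠ 1 := fun e => hw1 (f.injective (by
      rw [← hmw, show mw = 1 from Subtype.ext (Prod.ext hwp1 e), map_one, map_one]))
    have hts : sign mt.1.2 = -1 := by
      rw [← M35.sign_eq]
      rcases Int.units_eq_one_or (sign mt.1.1) with e | e
      · exfalso
        rw [← hmt, ← map_inv, ← map_inv, ← map_mul, ← map_mul] at hinvv
        have h := congrArg (fun m : M35 => m.1.1) (L.inj hinvv)
        rcases even_three _ e with e' | e' | e' <;> (change mt.1.1 * c3 * mt.1.1⁻¹ = c3⁻¹ at h; rw [e'] at h) <;>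
          revert h <;> decide
      · exact e
    have hq : ∀ {x y : M35}, x = y → x.1.2 = y.1.2 := fun e => congrArg (fun m : M35 => m.1.2) e
    have key := braid_five (τ := mt.1.2) (w := mw.1.2) (a := ma.1.2) (r := mz.1.2)
      (hq hz3) hr1 hts (hq ht2)
      (hq (L.inj (by
        rw [map_mul, map_mul, map_inv, hmt, hmz, map_inv, hmz, ← map_inv, ← map_mul, ← map_mul, ← map_inv f]
        refine congrArg f ?_
        rw [← map_inv, ← map_inv, ← map_mul, ← map_mul,
          show gM 3 * zM * (gM 3)⁻¹ = zM⁻¹ by decide +kernel]) : mt * mz * mt⁻¹ = mz⁻¹))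
      hwq (hq hw2) hw1'
      (hq (L.inj (by rw [map_mul, map_mul, hmt, hmw, ← map_mul, ← map_mul, hcomm3.symm.eq]) : mt * mw = mw * mt))
      (hq (L.inj (by rw [map_pow, map_mul, hmz, hmw, ← map_mul, ← map_pow, hzw, map_one, map_one]) : (mz * mw) ^ 3 = 1))
      haq (hq ha2)
      (hq (L.inj (by
        rw [map_mul, map_mul, hma, hmt, ← map_mul f, ← map_mul f]
        refine congrArg f ?_
        rw [← map_mul, ← map_mul, show gM 0 * gM 3 = gM 3 * gM 0 by decide +kernel]) : ma * mt = mt * ma))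
      (hq (L.inj (by
        rw [map_mul, map_mul, map_inv, hma, hmz, map_inv, hmz, ← map_inv, ← map_mul, ← map_mul, ← map_inv f]
        refine congrArg f ?_
        rw [← map_inv, ← map_inv, ← map_mul, ← map_mul,
          show gM 0 * zM * (gM 0)⁻¹ = zM⁻¹ by decide +kernel]) : ma * mz * ma⁻¹ = mz⁻¹))
    refine (map_eq_one_iff f f.injective).1 ?_
    rw [map_pow, map_mul, ← hmw, ← hma, ← map_mul, ← map_pow, ← map_one L.ι]
    exact congrArg L.ι (Subtype.ext (Prod.ext (by show (mw.1.1 * ma.1.1) ^ 3 = 1; rw [hwp1, hap1]; simp) key))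
  -- the homomorphism
  let a : Fin 5 → G := Fin.cons w fun k => L.ι (gM k)
  obtain ⟨φ, hφz, hφ⟩ := exists_hom (z := L.z) (a := a) L.z_pow
    (Fin.cases (by simpa [a] using kd.sq w hw) fun k => by simp [a, ← map_mul, gM_sq])
    (by simpa [a] using hzw)
    (Fin.cases (fun h => absurd rfl h) fun k _ => by
      simp only [a, Fin.cons_succ]; rw [← map_mul, ← map_mul, gM_inv_z, map_inv])
    (fun i j => by
      refine Fin.cases ?_ (fun i' => ?_) i <;> refine Fin.cases ?_ (fun j' => ?_) j <;> intro h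
      · simp at h
      · have : j' = 0 := Fin.ext (by simpa using h.symm)
        subst this
        simpa [a] using hbr
      · simp at h
      · simp only [a, Fin.cons_succ]
        rw [← map_mul, ← map_pow, gM_braid i' j' (by simpa using h), map_one])
    (fun i j => by
      refine Fin.cases ?_ (fun i' => ?_) i <;> refine Fin.cases ?_ (fun j' => ?_) j <;> intro h
      · simp at h
      · simp only [a, Fin.cons_succ, Fin.cons_zero]
        have hc : Commute w (L.ι (gM j')) := by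
          fin_cases j'
          · simp at h
          · exact hcomm1
          · exact hcomm2
          · exact hcomm3
        rw [hc.mul_pow, pow_two, pow_two, kd.sq w hw, one_mul, ← map_mul, gM_sq, map_one]
      · simp at h
      · simp only [a, Fin.cons_succ]
        rw [← map_mul, ← map_pow, gM_far i' j' (by simpa using h), map_one])
  have hinj : Function.Injective φ := by
    haveI : IsSimpleGroup (alternatingGroup (Fin 8)) := alternatingGroup.isSimpleGroup (by simp)
    rw [← MonoidHom.ker_eq_bot_iff]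
    refine (φ.normal_ker).eq_bot_or_eq_top.resolve_right fun h => L.z_ne_one ?_
    rw [← hφz]
    exact MonoidHom.mem_ker.1 (h ▸ Subgroup.mem_top _)
  have hagree : ∀ m : M35, φ (emb m) = L.ι m := by
    let S : Subgroup M35 := MonoidHom.eqLocus (φ.comp emb) L.ι
    have hzS : zM ∈ S := show φ (emb zM) = L.ι zM by rw [emb_zM, hφz]
    have hgS : ∀ k, gM k ∈ S := fun k => show φ (emb (gM k)) = L.ι (gM k) by
      rw [emb_gM, hφ]; simp [a]
    have hq : ∀ q : Perm (Fin 5), ∃ m ∈ S, m.1.2 = q := by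
      intro q
      have hm : q ∈ Submonoid.closure (Set.range fun i : Fin 4 => swap i.castSucc i.succ) :=
        (Equiv.Perm.mclosure_swap_castSucc_succ 4).symm ▸ Submonoid.mem_top q
      induction hm using Submonoid.closure_induction with
      | mem x hx => obtain ⟨i, rfl⟩ := hx; exact ⟨gM i, hgS i, rfl⟩
      | one => exact ⟨1, one_mem _, rfl⟩
      | mul x y _ _ hx hy =>
        obtain ⟨m, hm, rfl⟩ := hx
        obtain ⟨n, hn, rfl⟩ := hy
        exact ⟨m * n, mul_mem hm hn, rfl⟩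
    intro m
    obtain ⟨n, hn, hnq⟩ := hq m.1.2
    suffices m ∈ S from this
    have hp : sign (m.1.1 * n.1.1⁻¹) = 1 := by
      rw [map_mul, map_inv, M35.sign_eq, M35.sign_eq, hnq, mul_inv_cancel]
    have hmem : m * n⁻¹ ∈ S := by
      have hq' : (m * n⁻¹).1.2 = 1 := by show m.1.2 * n.1.2⁻¹ = 1; rw [hnq, mul_inv_cancel]
      rcases even_three _ hp with e | e | e
      · rw [show m * n⁻¹ = 1 from Subtype.ext (Prod.ext e hq')]; exact one_mem _
      · rw [show m * n⁻¹ = zM from Subtype.ext (Prod.ext e hq')]; exact hzS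
      · rw [show m * n⁻¹ = zM⁻¹ from Subtype.ext (Prod.ext e (hq'.trans inv_one.symm))]; exact inv_mem hzS
    simpa using mul_mem hmem hn
  refine ⟨⟨φ, hinj, hagree, fun g h1 h2 => ?_⟩⟩
  obtain ⟨m, x, hx, rfl, -, -⟩ := kd.decomp g h1 h2
  suffices kd.X ≤ φ.range by
    obtain ⟨y, hy⟩ := this hx
    exact ⟨emb m * y, by rw [map_mul, hagree, hy]⟩
  have hwR : w ∈ φ.range := ⟨gA 0, by rw [hφ]; simp [a]⟩
  have hzR : L.z ∈ φ.range := ⟨zA, hφz⟩
  have hne : L.z * w * L.z⁻¹ ≠ w := fun e => hw1 (kd.fpf w hw (mul_inv_eq_iff_eq_mul.1 e).symm)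
  have hne1 : L.z * w * L.z⁻¹ ≠ 1 := fun e => hw1 (conj_eq_one_iff.1 e)
  set Y := kd.X ⊓ φ.range with hY
  suffices Y = kd.X from this ▸ inf_le_right
  refine Subgroup.eq_of_le_of_card_ge inf_le_left ?_
  rw [kd.card]
  have hb : L.z * w * L.z⁻¹ ∈ Y := ⟨kd.conj w hw, (mul_mem (mul_mem hzR hwR) (inv_mem hzR) : L.z * w * L.z⁻¹ ∈ φ.range)⟩
  have hsub : ({1, w, L.z * w * L.z⁻¹} : Set G) ⊆ (Y : Set G) := by
    rintro y (rfl | rfl | rfl)
    exacts [one_mem _, ⟨hw, hwR⟩, hb]
  have h3 : 3 ≤ Nat.card Y := by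
    have h := Set.ncard_le_ncard hsub (Set.toFinite _)
    rw [Set.ncard_insert_of_notMem (by simp [hw1.symm, hne1.symm]) (Set.toFinite _), Set.ncard_pair hne.symm] at h
    simpa [← Nat.card_coe_set_eq] using h
  have hdvd : Nat.card Y ∣ 4 := kd.card ▸ Subgroup.card_dvd_of_le inf_le_left
  have hle := Nat.le_of_dvd (by norm_num) hdvd
  interval_cases h : Nat.card Y
  · norm_num at hdvd
  · rfl

end Loc

end CfsgLib.A8ThreeLocal
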