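import Cfsg.Agent.Lib.A8ThreeLocal.Exclude
import Cfsg.Agent.Lib.CoprimeGen
import Cfsg.Agent.Lib.FpfOrderThree

/-!
The centraliser of the distinguished four-group is the product of two alternating groups of degree four,
up to the four-group itself.
-/

set_option autoImplicit false
set_option maxRecDepth 8000

namespace CfsgLib.A8ThreeLocal

open Equiv Equiv.Perm

universe u

/-- `(1, (2 3 4))` -/
def vM : M35 := el 1 c234

theorem cent_c234 : ∀ q : Perm (Fin 5), (q = 1 ∨ q = a5 ∨ q = b5 ∨ q = a5 * b5) → q * c234 = c234 * q → q = 1 := by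
  decide +kernel

set_option synthInstance.maxSize 1024 in
theorem vz_table : ∀ i j k l : Fin 3,
    (zM ^ i.val * vM ^ j.val) * (zM ^ k.val * vM ^ l.val) = zM ^ (i + k).val * vM ^ (j + l).val ∧
    (zM ^ i.val * vM ^ j.val)⁻¹ = zM ^ (-i).val * vM ^ (-j).val ∧ (zM ^ i.val * vM ^ j.val) ^ 3 = 1 := by
  decide +kernel

theorem vz_inj : ∀ x y : Fin 3 × Fin 3, zM ^ x.1.val * vM ^ x.2.val = zM ^ y.1.val * vM ^ y.2.val → x = y := by
  decide +kernel

theorem vM_cases : ∀ j : Fin 3, j ≠ 0 → vM ^ j.val = vM ∨ vM ^ j.val = vM⁻¹ := by decide +kernel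

theorem vz_kernel : ∀ i j : Fin 3, (zM ^ i.val * vM ^ j.val).1.2 * a5 = a5 * (zM ^ i.val * vM ^ j.val).1.2 → j = 0 := by
  decide +kernel

theorem vz_diag : ∀ i j : Fin 3, i ≠ 0 → j ≠ 0 →
    (zM ^ i.val * vM ^ j.val = zM * vM ∨ zM ^ i.val * vM ^ j.val = (zM * vM)⁻¹) ∨
    (zM ^ i.val * vM ^ j.val = zM * vM⁻¹ ∨ zM ^ i.val * vM ^ j.val = (zM * vM⁻¹)⁻¹) := by decide +kernel

variable {G : Type u} [Group G] [Finite G]

namespace Loc

variable (L : Loc G)

/-- The acting element of order three. -/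
abbrev v : G := L.ι vM

/-- The conclusion about the centraliser of the four-group. -/
structure KData where
  /-- the second four-group -/
  X : Subgroup G
  /-- its order -/
  card : Nat.card X = 4
  /-- it has exponent two -/
  sq : ∀ x ∈ X, x * x = 1
  /-- it centralises the alternating group of degree four -/
  comm : ∀ x ∈ X, ∀ m : M35, m.1.1 = 1 → m.1.2 0 = 0 → Commute x (L.ι m)
  /-- it is normalised by `z` -/
  conj : ∀ x ∈ X, L.z * x * L.z⁻¹ ∈ X
  /-- `z` acts without fixed points -/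
  fpf : ∀ x ∈ X, Commute x L.z → x = 1
  /-- it is characterised -/
  mem : ∀ g : G, Commute g L.a → Commute g (L.ι bM) → Commute g L.v → g * g = 1 → g ∈ X
  /-- the centraliser of the four-group -/
  decomp : ∀ g : G, Commute g L.a → Commute g (L.ι bM) → ∃ m : M35, ∃ x ∈ X, g = L.ι m * x ∧
    sign m.1.1 = 1 ∧ (m.1.2 = 1 ∨ m.1.2 = a5 ∨ m.1.2 = b5 ∨ m.1.2 = a5 * b5)

theorem exists_kdata : Nonempty L.KData := by
  classical
  haveI := Fact.mk Nat.prime_three
  set K := Subgroup.centralizer ({L.a} : Set G) ⊓ Subgroup.centralizer ({L.ι bM} : Set G) with hK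
  have memK : ∀ g, g ∈ K ↔ Commute g L.a ∧ Commute g (L.ι bM) := fun g => by
    rw [hK, Subgroup.mem_inf, Subgroup.mem_centralizer_singleton_iff, Subgroup.mem_centralizer_singleton_iff]; rfl
  have hzK : L.z ∈ K := (memK _).2 ⟨(L.commute_z (by decide +kernel)).symm, (L.commute_z (by decide +kernel)).symm⟩
  -- elements of `K` commuting with or inverting `z`
  have hKz : ∀ g ∈ K, g * L.z * g⁻¹ = L.z ∨ g * L.z * g⁻¹ = L.z⁻¹ →
      ∃ m : M35, g = L.ι m ∧ sign m.1.1 = 1 ∧ (m.1.2 = 1 ∨ m.1.2 = a5 ∨ m.1.2 = b5 ∨ m.1.2 = a5 * b5) := by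
    intro g hg h
    obtain ⟨m, rfl⟩ := L.cover g h
    have hq : ∀ n : M35, Commute (L.ι m) (L.ι n) → m.1.2 * n.1.2 = n.1.2 * m.1.2 := fun n hn =>
      congrArg (fun w : M35 => w.1.2) (L.inj (by rw [map_mul, map_mul]; exact hn.eq) : m * n = n * m)
    have hc := cent_four m.1.2 (hq aM ((memK _).1 hg).1) (hq bM ((memK _).1 hg).2)
    refine ⟨m, rfl, ?_, hc⟩
    rw [M35.sign_eq]
    rcases hc with e | e | e | e <;> rw [e] <;> decide
  have hzsub : L.z ∈ K → orderOf (⟨L.z, hzK⟩ : K) = 3 := fun _ => orderOf_eq_prime (Subtype.ext L.z_pow)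
    fun e => L.z_ne_one (congrArg Subtype.val e)
  obtain ⟨P, hP⟩ := (IsPGroup.of_card (p := 3) (n := 1) (G := Subgroup.zpowers (⟨L.z, hzK⟩ : K))
    (by rw [Nat.card_zpowers, hzsub hzK]; norm_num)).exists_le_sylow
  have hPz : (P : Subgroup K) = Subgroup.zpowers ⟨L.z, hzK⟩ := by
    refine (Subgroup.eq_of_le_of_card_ge hP ?_).symm
    obtain ⟨k, hk⟩ := IsPGroup.iff_card.1 P.2
    rw [hk, Nat.card_zpowers, hzsub hzK]
    have hk1 : k ≤ 1 := by
      by_contra hk'
      refine L.not_nine L.a_sq L.a_ne_one ((dvd_trans (by norm_num) (pow_dvd_pow 3 (show 2 ≤ k by omega))).trans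
        ((hk ▸ Subgroup.card_subgroup_dvd_card _).trans (Subgroup.card_dvd_of_le (hK ▸ inf_le_left))))
    calc 3 ^ k ≤ 3 ^ 1 := Nat.pow_le_pow_right (by norm_num) hk1
      _ = 3 := by norm_num
  have hNC : Subgroup.normalizer ((P : Subgroup K) : Set K) ≤ Subgroup.centralizer ((P : Subgroup K) : Set K) := by
    intro g hg
    rw [hPz] at hg ⊢
    rw [Subgroup.zpowers_eq_closure, Subgroup.centralizer_closure, Subgroup.mem_centralizer_singleton_iff]
    have h1 := (Subgroup.mem_normalizer_iff.1 hg ⟨L.z, hzK⟩).1 (Subgroup.mem_zpowers _)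
    obtain ⟨k, hk⟩ := Subgroup.mem_zpowers_iff.1 h1
    have hk' : L.z ^ (k % 3) = (g : G) * L.z * (g : G)⁻¹ := by
      have h' : L.z ^ k = (g : G) * L.z * (g : G)⁻¹ := by simpa using congrArg Subtype.val hk
      rwa [← Int.emod_add_mul_ediv k 3, zpow_add, zpow_mul,
        show L.z ^ (3 : ℤ) = 1 from by rw [show (3 : ℤ) = ((3 : ℕ) : ℤ) from rfl, zpow_natCast, L.z_pow],
        one_zpow, mul_one] at h'
    have hd : (g : G) * L.z * (g : G)⁻¹ = L.z ∨ (g : G) * L.z * (g : G)⁻¹ = L.z⁻¹ := by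
      obtain h | h | h : k % 3 = 0 ∨ k % 3 = 1 ∨ k % 3 = 2 := by omega
      · rw [h, zpow_zero] at hk'; exact absurd (conj_eq_one_iff.1 hk'.symm) L.z_ne_one
      · rw [h, zpow_one] at hk'; exact Or.inl hk'.symm
      · rw [h] at hk'
        refine Or.inr (hk'.symm.trans ?_)
        rw [eq_inv_iff_mul_eq_one, show (2 : ℤ) = ((2 : ℕ) : ℤ) from rfl, zpow_natCast, ← pow_succ, L.z_pow]
    obtain ⟨m, hm, hp, -⟩ := hKz g g.2 hd
    exact Subtype.ext (by rw [Subgroup.coe_mul, Subgroup.coe_mul, hm]; exact (L.commute_z hp).eq)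
  set f := MonoidHom.transferSylow P hNC with hf
  set N := f.ker.map K.subtype with hN
  have hNK : N ≤ K := Subgroup.map_subtype_le _
  set n := Nat.card N with hn
  have hn3 : Nat.Coprime n 3 := by
    rw [hn, hN, Subgroup.card_map_of_injective (Subgroup.subtype_injective _), Nat.coprime_comm,
      Nat.prime_three.coprime_iff_not_dvd]
    exact MonoidHom.not_dvd_card_ker_transferSylow P hNC
  have hNmem : ∀ g ∈ K, ∀ l : ℕ, Nat.Coprime l 3 → g ^ l = 1 → g ∈ N := by
    intro g hg l hl h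
    refine ⟨⟨g, hg⟩, ?_, rfl⟩
    rw [SetLike.mem_coe, MonoidHom.mem_ker]
    obtain ⟨i, hi⟩ := IsPGroup.iff_orderOf.1 P.2 (f ⟨g, hg⟩)
    have h1 : orderOf (f ⟨g, hg⟩) ∣ l := (orderOf_map_dvd f _).trans (orderOf_dvd_of_pow_eq_one (Subtype.ext (by
      rw [SubmonoidClass.coe_pow]; exact h)))
    exact orderOf_eq_one_iff.1 (Nat.eq_one_of_dvd_coprimes (hl.pow_right i) h1 hi.dvd)
  have hNpow : ∀ x ∈ N, x ^ n = 1 := fun x hx => by
    have h := pow_card_eq_one' (x := (⟨x, hx⟩ : N))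
    exact congrArg Subtype.val h
  have hsplit : ∀ g ∈ K, ∃ x ∈ N, ∃ k : ℤ, g = x * L.z ^ k := by
    intro g hg
    obtain ⟨⟨⟨x, hx⟩, ⟨y, hy⟩⟩, hxy⟩ := (MonoidHom.ker_transferSylow_isComplement' P hNC).2 (⟨g, hg⟩ : K)
    rw [SetLike.mem_coe, hPz] at hy
    obtain ⟨k, hk⟩ := Subgroup.mem_zpowers_iff.1 hy
    refine ⟨x, ⟨x, hx, rfl⟩, k, ?_⟩
    have h : x.1 * y.1 = g := congrArg Subtype.val hxy
    rw [← congrArg Subtype.val hk, Subgroup.coe_zpow] at h
    exact h.symm
  -- the acting group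
  let A₀ : Subgroup M35 :=
    { carrier := {m | ∃ i j : Fin 3, m = zM ^ i.val * vM ^ j.val}
      one_mem' := ⟨0, 0, by simp⟩
      mul_mem' := by rintro _ _ ⟨i, j, rfl⟩ ⟨k, l, rfl⟩; exact ⟨_, _, (vz_table i j k l).1⟩
      inv_mem' := by rintro _ ⟨i, j, rfl⟩; exact ⟨_, _, (vz_table i j i j).2.1⟩ }
  set A := A₀.map L.ι with hA
  haveI hAc : IsMulCommutative A := ⟨⟨fun x y => by
    obtain ⟨_, _, ⟨i, j, rfl⟩, hx⟩ := x
    obtain ⟨_, _, ⟨k, l, rfl⟩, hy⟩ := y
    subst hx hy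
    refine Subtype.ext ?_
    show L.ι _ * L.ι _ = L.ι _ * L.ι _
    rw [← map_mul, ← map_mul, (vz_table i j k l).1, (vz_table k l i j).1, add_comm i, add_comm j]⟩⟩
  have hA9 : Nat.card A = 9 := by
    rw [hA, Subgroup.card_map_of_injective L.inj]
    let e : Fin 3 × Fin 3 → A₀ := fun x => ⟨_, x.1, x.2, rfl⟩
    have he : Function.Bijective e :=
      ⟨fun x y h => vz_inj x y (congrArg Subtype.val h), by
        rintro ⟨m, i, j, rfl⟩; exact ⟨(i, j), rfl⟩⟩
    rw [← Nat.card_congr (Equiv.ofBijective e he), Nat.card_prod, Nat.card_fin]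
  have hA3 : ∀ d ∈ A, d ^ 3 = 1 := by
    rintro _ ⟨_, ⟨i, j, rfl⟩, rfl⟩
    rw [← map_pow, (vz_table i j i j).2.2, map_one]
  have hAnc : ¬ IsCyclic A := by
    intro h
    obtain ⟨g, hg⟩ := IsCyclic.exists_generator (α := A)
    have h9 : orderOf g = 9 := by rw [orderOf_eq_card_of_forall_mem_zpowers hg, hA9]
    have h3 : orderOf g ∣ 3 := orderOf_dvd_of_pow_eq_one (Subtype.ext (by
      rw [SubmonoidClass.coe_pow]; exact hA3 g g.2))
    rw [h9] at h3
    norm_num at h3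
  -- it normalises `K` and hence `N`
  have hVgen : ∀ g ∈ K, ∀ k : M35, (k = aM ∨ k = bM ∨ k = aM * bM) → Commute g (L.ι k) := by
    intro g hg k hk
    obtain ⟨h1, h2⟩ := (memK g).1 hg
    rcases hk with rfl | rfl | rfl
    exacts [h1, h2, by rw [map_mul]; exact h1.mul_right h2]
  have hAK : ∀ d ∈ A, ∀ g ∈ K, d * g * d⁻¹ ∈ K := by
    rintro _ ⟨_, ⟨i, j, rfl⟩, rfl⟩ g hg
    set d := L.ι (zM ^ i.val * vM ^ j.val) with hd
    have hval : ∀ k : M35, d⁻¹ * L.ι k * d = L.ι ((zM ^ i.val * vM ^ j.val)⁻¹ * k * (zM ^ i.val * vM ^ j.val)) :=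
      fun k => by simp [hd]
    have key : ∀ k k' : M35, (k' = aM ∨ k' = bM ∨ k' = aM * bM) →
        (zM ^ i.val * vM ^ j.val)⁻¹ * k * (zM ^ i.val * vM ^ j.val) = k' → Commute (d * g * d⁻¹) (L.ι k) := by
      intro k k' hk' e
      have h : L.ι k = d * L.ι k' * d⁻¹ := by rw [← e, ← hval]; group
      rw [h]
      exact (hVgen g hg k' hk').map (MulAut.conj d).toMonoidHom
    have hinv : ∀ i j : Fin 3, ∀ k : M35, (k = aM ∨ k = bM) →
        ((zM ^ i.val * vM ^ j.val)⁻¹ * k * (zM ^ i.val * vM ^ j.val) = aM ∨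
        (zM ^ i.val * vM ^ j.val)⁻¹ * k * (zM ^ i.val * vM ^ j.val) = bM ∨
        (zM ^ i.val * vM ^ j.val)⁻¹ * k * (zM ^ i.val * vM ^ j.val) = aM * bM) := by
      rintro i j k (rfl | rfl) <;> revert i j <;> decide +kernel
    exact (memK _).2 ⟨key aM _ (hinv i j aM (Or.inl rfl)) rfl, key bM _ (hinv i j bM (Or.inr rfl)) rfl⟩
  have hAN' : ∀ d ∈ A, ∀ x ∈ N, d * x * d⁻¹ ∈ N := fun d hd x hx =>
    hNmem _ (hAK d hd x (hNK hx)) n hn3 (by rw [conj_pow, hNpow x hx]; group)
  have hAN : A ≤ Subgroup.normalizer (N : Set G) := fun d hd => normalises_of (hAN' d hd)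
  have hcop : (Nat.card A).Coprime (Nat.card N) := by
    rw [hA9, show (9 : ℕ) = 3 ^ 2 from rfl]
    exact Nat.Coprime.pow_left 2 hn3.symm
  set X := N ⊓ Subgroup.centralizer ({L.v} : Set G) with hX
  have memX : ∀ g, g ∈ X ↔ g ∈ N ∧ Commute g L.v := fun g => by
    rw [hX, Subgroup.mem_inf, Subgroup.mem_centralizer_singleton_iff]; rfl
  -- elements of `N` commuting with `z` lie in the four-group
  have hNz : ∀ x ∈ N, Commute x L.z →
      ∃ m : M35, x = L.ι m ∧ m.1.1 = 1 ∧ (m.1.2 = 1 ∨ m.1.2 = a5 ∨ m.1.2 = b5 ∨ m.1.2 = a5 * b5) := by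
    intro x hx hc
    obtain ⟨m, rfl, hp, hq⟩ := hKz x (hNK hx) (Or.inl (by rw [hc.eq, mul_inv_cancel_right]))
    refine ⟨m, rfl, ?_, hq⟩
    have h1 : m ^ n = 1 := L.inj (by rw [map_pow, hNpow _ hx, map_one])
    have h1' : orderOf m.1.1 ∣ n := orderOf_dvd_of_pow_eq_one (congrArg (fun w : M35 => w.1.1) h1)
    have h3 : orderOf m.1.1 ∣ 3 := orderOf_dvd_of_pow_eq_one (by
      rcases even_three _ hp with e | e | e <;> rw [e] <;> decide)
    exact orderOf_eq_one_iff.1 (Nat.eq_one_of_dvd_coprimes hn3 h1' h3)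
  -- the product with the four-group
  let V₀ : M35 → Prop := fun m => m.1.1 = 1 ∧ (m.1.2 = 1 ∨ m.1.2 = a5 ∨ m.1.2 = b5 ∨ m.1.2 = a5 * b5)
  have hV₀ : ∀ m, V₀ m → m = 1 ∨ m = aM ∨ m = bM ∨ m = aM * bM := by
    rintro m ⟨hp, e | e | e | e⟩
    · exact Or.inl (Subtype.ext (Prod.ext hp e))
    · exact Or.inr (Or.inl (Subtype.ext (Prod.ext hp e)))
    · exact Or.inr (Or.inr (Or.inl (Subtype.ext (Prod.ext hp e))))
    · exact Or.inr (Or.inr (Or.inr (Subtype.ext (Prod.ext hp e))))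
  have hVX : ∀ x ∈ X, ∀ m ∈ V35, Commute x (L.ι m) := by
    intro x hx m hm
    rcases hm with rfl | h
    · rw [map_one]; exact Commute.one_right x
    · exact hVgen x (hNK ((memX x).1 hx).1) m h
  let S : Subgroup G :=
    { carrier := {g | ∃ m ∈ V35, ∃ x ∈ X, g = L.ι m * x}
      one_mem' := ⟨1, one_mem _, 1, one_mem _, by simp⟩
      mul_mem' := by
        rintro _ _ ⟨m, hm, x, hx, rfl⟩ ⟨m', hm', x', hx', rfl⟩
        refine ⟨m * m', mul_mem hm hm', x * x', mul_mem hx hx', ?_⟩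
        rw [map_mul, mul_assoc, ← mul_assoc x, (hVX x hx m' hm').eq]
        group
      inv_mem' := by
        rintro _ ⟨m, hm, x, hx, rfl⟩
        refine ⟨m⁻¹, inv_mem hm, x⁻¹, inv_mem hx, ?_⟩
        rw [mul_inv_rev, map_inv, ((hVX x hx m hm).inv_left.inv_right).eq] }
  have hNS : N ≤ S := by
    rw [← coprime_generated_by_centralizers hAnc hAN hcop]
    refine iSup₂_le fun d hd => ?_
    rintro g ⟨hgN, hgd⟩
    obtain ⟨⟨_, ⟨i, j, rfl⟩, rfl⟩, hd1⟩ := hd
    have hgc : Commute g (L.ι (zM ^ i.val * vM ^ j.val)) := Subgroup.mem_centralizer_singleton_iff.1 hgd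
    by_cases hj : j = 0
    · subst hj
      have hi : i ≠ 0 := by rintro rfl; exact hd1 (by simp)
      rw [Fin.val_zero, pow_zero, mul_one] at hgc
      have hgz : Commute g L.z := by
        rcases z_pow_cases i hi with e | e <;> rw [e] at hgc
        · exact hgc
        · rw [map_inv] at hgc; simpa using hgc.inv_right
      obtain ⟨m, hm, hp, hq⟩ := hNz g hgN hgz
      exact ⟨m, hV₀ m ⟨hp, hq⟩, 1, one_mem _, by rw [mul_one, hm]⟩
    by_cases hi : i = 0
    · subst hi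
      rw [Fin.val_zero, pow_zero, one_mul] at hgc
      refine ⟨1, one_mem _, g, (memX g).2 ⟨hgN, ?_⟩, by simp⟩
      have hj' := vM_cases j hj
      rcases hj' with e | e <;> rw [e] at hgc
      · exact hgc
      · rw [map_inv] at hgc; simpa using hgc.inv_right
    -- an element whose centraliser has order eighteen
    set d := L.ι (zM ^ i.val * vM ^ j.val) with hd
    have h18 : Nat.card (Subgroup.centralizer ({d} : Set G)) = 18 := by
      have h1 : Nat.card (Subgroup.centralizer ({L.ι (zM * vM)} : Set G)) = 18 := by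
        rw [map_mul]; exact L.card18' (r := c234) (by decide) (by decide)
      have h2 : Nat.card (Subgroup.centralizer ({L.ι (zM * vM⁻¹)} : Set G)) = 18 := by
        have h := L.card18' (r := c234⁻¹) (by decide) (by decide)
        rwa [← map_mul, show zM * r5 c234⁻¹ (by decide) = zM * vM⁻¹ by decide +kernel] at h
      rcases vz_diag i j hi hj with (e | e) | (e | e) <;> rw [hd, e]
      · exact h1
      · rw [map_inv, card_cent_inv]; exact h1
      · exact h2
      · rw [map_inv, card_cent_inv]; exact h2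
    have hAC : A ≤ Subgroup.centralizer ({d} : Set G) := by
      intro y hy
      rw [Subgroup.mem_centralizer_singleton_iff]
      exact congrArg Subtype.val (hAc.is_comm.comm (⟨y, hy⟩ : A) ⟨d, ⟨_, ⟨i, j, rfl⟩, rfl⟩⟩)
    have hidx : (A.subgroupOf (Subgroup.centralizer ({d} : Set G))).index = 2 := by
      have h := (A.subgroupOf (Subgroup.centralizer ({d} : Set G))).card_mul_index
      rw [Nat.card_congr (Subgroup.subgroupOfEquivOfLe hAC).toEquiv, hA9, h18] at h
      omega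
    haveI : (A.subgroupOf (Subgroup.centralizer ({d} : Set G))).Normal := Subgroup.normal_of_index_eq_two hidx
    have hgA : g ∈ Subgroup.normalizer (A : Set G) :=
      (Subgroup.normal_subgroupOf_iff_le_normalizer hAC).1 this hgd
    obtain ⟨_, ⟨i', j', rfl⟩, hz'⟩ :=
      (Subgroup.mem_normalizer_iff.1 hgA L.z).1 ⟨zM, ⟨1, 0, by decide +kernel⟩, rfl⟩
    have hgzK : g * L.z * g⁻¹ ∈ K := mul_mem (mul_mem (hNK hgN) hzK) (inv_mem (hNK hgN))
    rw [← hz'] at hgzK
    have hj0 : j' = 0 := vz_kernel i' j' (congrArg (fun w : M35 => w.1.2)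
      (L.inj (by rw [map_mul, map_mul L.ι aM]; exact ((memK _).1 hgzK).1.eq) :
        (zM ^ i'.val * vM ^ j'.val) * aM = aM * (zM ^ i'.val * vM ^ j'.val)))
    subst hj0
    rw [Fin.val_zero, pow_zero, mul_one] at hz'
    have hd' : g * L.z * g⁻¹ = L.z ∨ g * L.z * g⁻¹ = L.z⁻¹ := by
      by_cases hi' : i' = 0
      · subst hi'
        rw [Fin.val_zero, pow_zero, map_one] at hz'
        exact absurd (conj_eq_one_iff.1 hz'.symm) L.z_ne_one
      rcases z_pow_cases i' hi' with e | e <;> rw [e] at hz'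
      · exact Or.inl hz'.symm
      · exact Or.inr (by rw [← hz', map_inv])
    obtain ⟨m, hm, hp, -⟩ := hKz g (hNK hgN) hd'
    have hgz : Commute g L.z := hm ▸ L.commute_z hp
    obtain ⟨m', hm', hp', hq'⟩ := hNz g hgN hgz
    have hgv : Commute g L.v := by
      have h0 : Commute g (L.ι (vM ^ j.val)) := by
        have := (hgz.pow_right i.val).inv_right.mul_right hgc
        rwa [← map_pow, hd, ← map_inv, ← map_mul, inv_mul_cancel_left] at this
      have hj' := vM_cases j hj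
      rcases hj' with e | e <;> rw [e] at h0
      · exact h0
      · rw [map_inv] at h0; simpa using h0.inv_right
    have hq1 : m'.1.2 = 1 := cent_c234 _ hq' (congrArg (fun w : M35 => w.1.2)
      (L.inj (by rw [map_mul, map_mul, ← hm']; exact hgv.eq) : m' * vM = vM * m'))
    refine ⟨1, one_mem _, 1, one_mem _, ?_⟩
    rw [hm', show m' = 1 from Subtype.ext (Prod.ext hp' hq1), map_one, mul_one]
  have hvA : L.v ∈ A := ⟨vM, ⟨0, 1, by decide +kernel⟩, rfl⟩
  have hzA : L.z ∈ A := ⟨zM, ⟨1, 0, by decide +kernel⟩, rfl⟩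
  have hvz : Commute L.v L.z := congrArg Subtype.val (hAc.is_comm.comm (⟨_, hvA⟩ : A) ⟨_, hzA⟩)
  have hfpf : ∀ x ∈ X, Commute x L.z → x = 1 := by
    intro x hx hc
    obtain ⟨m, hm, hp, hq⟩ := hNz x ((memX x).1 hx).1 hc
    have hq1 : m.1.2 = 1 := cent_c234 _ hq (congrArg (fun w : M35 => w.1.2)
      (L.inj (by rw [map_mul, map_mul, ← hm]; exact ((memX x).1 hx).2.eq) : m * vM = vM * m))
    rw [hm, show m = 1 from Subtype.ext (Prod.ext hp hq1), map_one]
  have hconj : ∀ x ∈ X, L.z * x * L.z⁻¹ ∈ X := by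
    intro x hx
    refine (memX _).2 ⟨hAN' _ hzA x ((memX x).1 hx).1, ?_⟩
    have h := ((memX x).1 hx).2.map (MulAut.conj L.z).toMonoidHom
    simp only [MulEquiv.coe_toMonoidHom, MulAut.conj_apply] at h
    rwa [hvz.symm.eq, mul_inv_cancel_right] at h
  -- transport into the centraliser of `z`
  obtain ⟨g, hg⟩ := L.conj_r (r := c234) (by decide) (by decide)
  have hg' : g * L.z * g⁻¹ = L.v := hg
  have hin : ∀ x, Commute x L.v → Commute (g⁻¹ * x * g) L.z := by
    intro x hx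
    have h := hx.map (MulAut.conj g⁻¹).toMonoidHom
    simp only [MulEquiv.coe_toMonoidHom, MulAut.conj_apply, inv_inv] at h
    rwa [← hg', show g⁻¹ * (g * L.z * g⁻¹) * g = L.z by group] at h
  obtain ⟨mz, hmz, hmzp, hmzq⟩ := L.mem_cz (hin L.z hvz.symm)
  have hmz3 : mz ^ 3 = 1 := L.inj (by
    rw [map_pow, hmz, map_one, show g⁻¹ * L.z * g = g⁻¹ * L.z * g⁻¹⁻¹ by group, conj_pow, L.z_pow]
    group)
  have hXimage : ∀ x ∈ X, ∃ m : M35, L.ι m = g⁻¹ * x * g ∧ m.1.1 = 1 ∧ sign m.1.2 = 1 ∧ m * m = 1 := by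
    intro x hx
    obtain ⟨m, hm, hp, hq⟩ := L.mem_cz (hin x ((memX x).1 hx).2)
    have hmn : m ^ n = 1 := L.inj (by
      rw [map_pow, hm, map_one, show g⁻¹ * x * g = g⁻¹ * x * g⁻¹⁻¹ by group, conj_pow, hNpow x ((memX x).1 hx).1]
      group)
    have hp1 : m.1.1 = 1 := orderOf_eq_one_iff.1 (Nat.eq_one_of_dvd_coprimes hn3
      (orderOf_dvd_of_pow_eq_one (congrArg (fun w : M35 => w.1.1) hmn))
      (orderOf_dvd_of_pow_eq_one (show m.1.1 ^ 3 = 1 by
        rcases even_three _ hp with e | e | e <;> rw [e] <;> decide)))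
    refine ⟨m, hm, hp1, hq, Subtype.ext (Prod.ext (by show m.1.1 * m.1.1 = 1; rw [hp1, mul_one]) ?_)⟩
    show m.1.2 * m.1.2 = 1
    by_cases hr : mz.1.2 = 1
    · -- then `z` commutes with `x`
      have hc : m * mz = mz * m := Subtype.ext (Prod.ext (by show m.1.1 * mz.1.1 = mz.1.1 * m.1.1; rw [hp1]; simp)
        (by show m.1.2 * mz.1.2 = mz.1.2 * m.1.2; rw [hr]; simp))
      have hxz : Commute x L.z := by
        have h : Commute (g⁻¹ * x * g) (g⁻¹ * L.z * g) := by
          have h' := congrArg L.ι hc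
          rw [map_mul, map_mul, hm, hmz] at h'
          exact h'
        calc x * L.z = g * ((g⁻¹ * x * g) * (g⁻¹ * L.z * g)) * g⁻¹ := by group
          _ = g * ((g⁻¹ * L.z * g) * (g⁻¹ * x * g)) * g⁻¹ := by rw [h.eq]
          _ = L.z * x := by group
      rw [hfpf x hx hxz] at hm
      rw [show m = 1 from L.inj (by rw [hm, map_one]; group)]
      simp
    -- the element commutes with its conjugate
    set N' := Subgroup.normalizer (X : Set G)
    have hzN' : L.z ∈ N' := normalises_of hconj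
    have hxN' : x ∈ N' := Subgroup.le_normalizer hx
    haveI : (X.subgroupOf N').Normal := Subgroup.normal_in_normalizer
    have hcomm := FpfThree.comm_orbit (N := X.subgroupOf N') (d := (⟨L.z, hzN'⟩ : N'))
      (Subtype.ext (by rw [SubmonoidClass.coe_pow]; exact L.z_pow))
      (fun w hw hwc => Subtype.ext (hfpf w.1 (Subgroup.mem_subgroupOf.1 hw)
        (show Commute w.1 L.z from (congrArg Subtype.val hwc.eq : L.z * w.1 = w.1 * L.z).symm)))
      (v := ⟨x, hxN'⟩) (Subgroup.mem_subgroupOf.2 hx)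
    have hcomm' : x * (L.z * x * L.z⁻¹) = L.z * x * L.z⁻¹ * x := congrArg Subtype.val hcomm.eq
    have hc : m * (mz * m * mz⁻¹) = mz * m * mz⁻¹ * m := L.inj (by
      simp only [map_mul, map_inv, hm, hmz]
      calc _ = g⁻¹ * (x * (L.z * x * L.z⁻¹)) * g := by group
        _ = g⁻¹ * (L.z * x * L.z⁻¹ * x) * g := by rw [hcomm']
        _ = _ := by group)
    rcases engel_five _ (congrArg (fun w : M35 => w.1.2) hmz3) hr _ hq
      (congrArg (fun w : M35 => w.1.2) hc) with h | h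
    · exact h
    · rw [show m.1.2 = 1 from orderOf_eq_one_iff.1 (Nat.eq_one_of_dvd_coprimes hn3
        (orderOf_dvd_of_pow_eq_one (congrArg (fun w : M35 => w.1.2) hmn)) (orderOf_dvd_of_pow_eq_one h)), one_mul]
  have hsq : ∀ x ∈ X, x * x = 1 := by
    intro x hx
    obtain ⟨m, hm, -, -, hm2⟩ := hXimage x hx
    have h : g⁻¹ * x * g * (g⁻¹ * x * g) = 1 := by rw [← hm, ← map_mul, hm2, map_one]
    calc x * x = g * (g⁻¹ * x * g * (g⁻¹ * x * g)) * g⁻¹ := by group
      _ = 1 := by rw [h]; group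
  haveI := Fact.mk Nat.prime_two
  obtain ⟨k, hk⟩ := IsPGroup.iff_card.1 (show IsPGroup 2 X from fun x => ⟨1, Subtype.ext (by
    rw [SubmonoidClass.coe_pow, pow_one, pow_two]; exact hsq x x.2)⟩)
  have hk2 : k ≤ 2 := by
    let j : alternatingGroup (Fin 5) →* G :=
      ((MulAut.conj g).toMonoidHom.comp L.ι).comp
        ({ toFun := fun q => el 1 q.1 (by rw [Equiv.Perm.mem_alternatingGroup.1 q.2, map_one])
           map_one' := rfl
           map_mul' := fun q q' => Subtype.ext (Prod.ext (by show (1 : Perm (Fin 3)) = 1 * 1; simp) rfl) } :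
          alternatingGroup (Fin 5) →* M35)
    have hle : X ≤ j.range := by
      intro x hx
      obtain ⟨m, hm, hp, hq, -⟩ := hXimage x hx
      refine ⟨⟨m.1.2, Equiv.Perm.mem_alternatingGroup.2 hq⟩, ?_⟩
      show g * L.ι (el 1 m.1.2 (by rw [hq, map_one])) * g⁻¹ = x
      rw [show el 1 m.1.2 (by rw [hq, map_one]) = m from Subtype.ext (Prod.ext hp.symm rfl), hm]
      group
    have h60 : Nat.card j.range ∣ 60 := by
      have h := Subgroup.card_range_dvd j
      rwa [Nat.card_eq_fintype_card (α := alternatingGroup (Fin 5)), show Fintype.card (alternatingGroup (Fin 5)) = 60 by decide +kernel] at h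
    have h2 : 2 ^ k ∣ 60 := hk ▸ (Subgroup.card_dvd_of_le hle).trans h60
    by_contra hk'
    have := (pow_dvd_pow 2 (show 3 ≤ k by omega)).trans h2
    norm_num at this
  have hk4 : k = 2 := by
    interval_cases k
    · -- the exclusion
      exfalso
      refine tiny_false (L := L) fun y h1 h2 => ?_
      obtain ⟨x, hx, i, rfl⟩ := hsplit y ((memK y).2 ⟨h1, h2⟩)
      obtain ⟨m, hm, x', hx', rfl⟩ := hNS hx
      have hx1 : x' = 1 := by
        rw [Subgroup.eq_bot_of_card_eq X (by rw [hk, pow_zero]), Subgroup.mem_bot] at hx'; exact hx'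
      have hmp : m.1.1 = 1 ∧ (m.1.2 = 1 ∨ m.1.2 = a5 ∨ m.1.2 = b5 ∨ m.1.2 = a5 * b5) := by
        rcases hm with rfl | rfl | rfl | rfl
        · exact ⟨rfl, Or.inl rfl⟩
        · exact ⟨rfl, Or.inr (Or.inl rfl)⟩
        · exact ⟨rfl, Or.inr (Or.inr (Or.inl rfl))⟩
        · exact ⟨rfl, Or.inr (Or.inr (Or.inr rfl))⟩
      refine ⟨m * zM ^ i, by rw [hx1, mul_one, map_mul, map_zpow], ?_, ?_⟩
      · show sign (m.1.1 * c3 ^ i) = 1
        rw [hmp.1, one_mul, map_zpow, sign_of_pow_three (show c3 ^ 3 = 1 by decide), one_zpow]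
      · have e : (m * zM ^ i).1.2 = m.1.2 := by
          show m.1.2 * (1 : Perm (Fin 5)) ^ i = m.1.2
          rw [one_zpow, mul_one]
        rw [e]; exact hmp.2
    · -- a group of order two is centralised
      exfalso
      obtain ⟨a, b, hab⟩ := Nat.card_eq_two_iff.1 (hk.trans (by norm_num) : Nat.card X = 2)
      have hne : ∃ x : X, x ≠ 1 := by
        by_contra h
        push Not at h
        exact hab.1 ((h a).trans (h b).symm)
      obtain ⟨x, hx⟩ := hne
      have hun : ∀ y : X, y ≠ 1 → y = x := by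
        intro y hy
        have h := hab.2
        have hmem : ∀ w : X, w = a ∨ w = b := fun w => by
          have : w ∈ ({a, b} : Set X) := h.symm ▸ Set.mem_univ w
          simpa using this
        rcases hmem 1 with h1 | h1 <;> rcases hmem y with h2 | h2 <;> rcases hmem x with h3 | h3 <;>
          subst h2 h3 <;> first | rfl | exact absurd h1.symm hy | exact absurd h1.symm hx
      have hz : (⟨L.z * x * L.z⁻¹, hconj x x.2⟩ : X) = x := hun _ fun e => hx (Subtype.ext
        (conj_eq_one_iff.1 (congrArg Subtype.val e)))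
      exact hx (Subtype.ext (hfpf x x.2 (mul_inv_eq_iff_eq_mul.1 (congrArg Subtype.val hz)).symm))
    · rfl
  subst hk4
  refine ⟨⟨X, hk.trans (by norm_num), hsq, ?_, hconj, hfpf, ?_, ?_⟩⟩
  · intro x hx m hp hq0
    obtain ⟨hN, hv⟩ := (memX x).1 hx
    obtain ⟨h1, h2⟩ := (memK x).1 (hNK hN)
    have hs : sign m.1.2 = 1 := by rw [← M35.sign_eq, hp, map_one]
    obtain ⟨i, j, l, e⟩ := alt_four_gen _ hs hq0
    have he : m = aM ^ i.val * bM ^ j.val * vM ^ l.val := Subtype.ext (Prod.ext (by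
      show m.1.1 = 1 ^ i.val * 1 ^ j.val * 1 ^ l.val
      simp [hp]) e)
    rw [he, map_mul, map_mul, map_pow, map_pow, map_pow]
    exact ((h1.pow_right _).mul_right (h2.pow_right _)).mul_right (hv.pow_right _)
  · intro y h1 h2 h3 h4
    exact (memX y).2 ⟨hNmem y ((memK y).2 ⟨h1, h2⟩) 2 (by norm_num) (by rw [pow_two, h4]), h3⟩
  · intro y h1 h2
    obtain ⟨x, hx, i, rfl⟩ := hsplit y ((memK y).2 ⟨h1, h2⟩)
    obtain ⟨m, hm, x', hx', rfl⟩ := hNS hx
    have hmp : m.1.1 = 1 ∧ (m.1.2 = 1 ∨ m.1.2 = a5 ∨ m.1.2 = b5 ∨ m.1.2 = a5 * b5) := by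
      rcases hm with rfl | rfl | rfl | rfl
      · exact ⟨rfl, Or.inl rfl⟩
      · exact ⟨rfl, Or.inr (Or.inl rfl)⟩
      · exact ⟨rfl, Or.inr (Or.inr (Or.inl rfl))⟩
      · exact ⟨rfl, Or.inr (Or.inr (Or.inr rfl))⟩
    refine ⟨m * zM ^ i, (L.z ^ i)⁻¹ * x' * L.z ^ i, ?_, by rw [map_mul, map_zpow]; group, ?_, ?_⟩
    · have hN' : L.z ^ i ∈ Subgroup.normalizer (X : Set G) := zpow_mem (normalises_of hconj) i
      exact (Subgroup.mem_normalizer_iff''.1 hN' x').1 hx'
    · show sign (m.1.1 * c3 ^ i) = 1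
      rw [hmp.1, one_mul, map_zpow, sign_of_pow_three (show c3 ^ 3 = 1 by decide), one_zpow]
    · have e : (m * zM ^ i).1.2 = m.1.2 := by
        show m.1.2 * (1 : Perm (Fin 5)) ^ i = m.1.2
        rw [one_zpow, mul_one]
      rw [e]; exact hmp.2

end Loc

end CfsgLib.A8ThreeLocal
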