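import Cfsg.Agent.Lib.A8ThreeLocal.CentA
import Cfsg.Agent.Lib.SelfCentThree.Main
import Cfsg.Agent.Lib.SLCard
import Cfsg.Agent.Lib.CoprimeGen

/-!
Recognition of the alternating group of degree eight from three-local data.
-/

set_option autoImplicit false
set_option maxRecDepth 8000

namespace CfsgLib.A8ThreeLocal

open Equiv Equiv.Perm

universe u

/-- `(0 4)(1 5)` as a pair of permutations supported on the invariant four-point set. -/
abbrev e8 : Perm (Fin 8) := swap 0 4 * swap 1 5

theorem four_s8 : sign e8 = 1 ∧ FixInvol e8 ∧ FixInvol ((emb tM).1) ∧ FixInvol ((emb tM).1 * e8) ∧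
    e8 * s8 = s8 * e8 ∧ (emb tM).1 * s8 = s8 * (emb tM).1 ∧ (emb tM).1 * e8 = e8 * (emb tM).1 ∧
    (emb tM).1 ≠ e8 := by
  show sign e8 = 1 ∧ FixInvol e8 ∧ FixInvol (emb8 tM.1) ∧ FixInvol (emb8 tM.1 * e8) ∧
    e8 * s8 = s8 * e8 ∧ emb8 tM.1 * s8 = s8 * emb8 tM.1 ∧ emb8 tM.1 * e8 = e8 * emb8 tM.1 ∧ emb8 tM.1 ≠ e8
  decide +kernel

/-- Two involutions which are not conjugate commute with a common involution. -/
theorem exists_common_invol {G : Type*} [Group G] [Finite G] {x y : G} (hx : x * x = 1) (hy : y * y = 1)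
    (hnc : ∀ g : G, g * x * g⁻¹ ≠ y) : ∃ c : G, c * c = 1 ∧ c ≠ 1 ∧ Commute c x ∧ Commute c y := by
  set w := x * y with hw
  have hxi : x⁻¹ = x := inv_eq_of_mul_eq_one_right hx
  have hyi : y⁻¹ = y := inv_eq_of_mul_eq_one_right hy
  have hwi : w⁻¹ = y * x := by rw [hw, mul_inv_rev, hxi, hyi]
  have hxw : ∀ k : ℕ, x * w ^ k * x⁻¹ = (w ^ k)⁻¹ := fun k => by
    rw [← conj_pow, ← inv_pow, hwi, hxi, hw]
    congr 1
    calc x * (x * y) * x = (x * x) * y * x := by group
      _ = y * x := by rw [hx, one_mul]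
  have hn := pow_orderOf_eq_one w
  rcases Nat.even_or_odd (orderOf w) with ⟨k, hk⟩ | ⟨k, hk⟩
  · have hk0 : 0 < k := by have := orderOf_pos w; omega
    refine ⟨w ^ k, ?_, ?_, ?_, ?_⟩
    · rw [← pow_add, ← hk, hn]
    · exact fun e => absurd (Nat.le_of_dvd hk0 (orderOf_dvd_of_pow_eq_one e)) (by omega)
    · have h := hxw k
      rw [show (w ^ k)⁻¹ = w ^ k from inv_eq_of_mul_eq_one_right (by rw [← pow_add, ← hk, hn])] at h
      exact (mul_inv_eq_iff_eq_mul.1 h).symm
    · have h := hxw k
      rw [show (w ^ k)⁻¹ = w ^ k from inv_eq_of_mul_eq_one_right (by rw [← pow_add, ← hk, hn])] at h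
      have hc : Commute (w ^ k) x := (mul_inv_eq_iff_eq_mul.1 h).symm
      have hy' : y = x * w := by rw [hw, ← mul_assoc, hx, one_mul]
      rw [hy']
      exact hc.mul_right ((Commute.refl w).pow_left k)
  · exfalso
    refine hnc (w ^ k) ?_
    have h := hxw k
    have h3 : w ^ k * x * (w ^ k)⁻¹ = x * ((w ^ k)⁻¹ * (w ^ k)⁻¹) := by
      calc w ^ k * x * (w ^ k)⁻¹ = x * (x⁻¹ * w ^ k * x) * (w ^ k)⁻¹ := by group
        _ = x * (w ^ k)⁻¹ * (w ^ k)⁻¹ := by rw [show x⁻¹ * w ^ k * x = (w ^ k)⁻¹ by rw [← h, hxi]]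
        _ = _ := by group
    rw [h3, ← mul_inv_rev, ← pow_add]
    have h4 : (w ^ (k + k))⁻¹ = w := inv_eq_of_mul_eq_one_left (by
      rw [← pow_succ', show k + k + 1 = orderOf w by omega, hn])
    rw [h4, hw, ← mul_assoc, hx, one_mul]

theorem card_psl27_dvd : Nat.card SelfCentThree.PSL27 ∣ 336 := by
  haveI : Fact (Nat.Prime 7) := ⟨by norm_num⟩
  have h := SLCard.card_units_mul_card_SL (F := ZMod 7) (n := 2) (by norm_num)
  rw [Matrix.card_GL_field, ZMod.card] at h
  have h2 : Nat.card (Matrix.SpecialLinearGroup (Fin 2) (ZMod 7)) = 336 := by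
    simp only [Fin.prod_univ_two, Fin.val_zero, Fin.val_one, pow_zero, pow_one, Nat.reducePow, Nat.reduceSub,
      Nat.reduceMul] at h
    omega
  rw [← h2]
  exact Subgroup.card_quotient_dvd_card _

variable {G : Type u} [Group G] [Finite G]

namespace Loc

variable {L : Loc G} (H : L.HData)

theorem HData.ctrl {x : alternatingGroup (Fin 8)} (hx : x * x = 1) (hf : FixInvol x.1) {g : G}
    (hg : ∃ w, H.φ w = g * H.φ x * g⁻¹) : g ∈ H.φ.range := by
  obtain ⟨w, hw⟩ := hg
  obtain ⟨k, hk⟩ := H.fix_conj hx hf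
  have hw2 : w * w = 1 := H.inj (by
    rw [map_mul, hw, map_one, show g * H.φ x * g⁻¹ * (g * H.φ x * g⁻¹) = g * (H.φ x * H.φ x) * g⁻¹ by group,
      ← map_mul, hx, map_one]
    group)
  have hwf : FixInvol w.1 := H.conj_fix hw2 (g * H.φ k) (by rw [hw, ← hk]; group)
  obtain ⟨k', hk'⟩ := H.fix_conj hw2 hwf
  have hc : Commute ((H.φ k')⁻¹ * g * H.φ k) L.a := by
    have h : g * (H.φ k * L.a * (H.φ k)⁻¹) * g⁻¹ = H.φ k' * L.a * (H.φ k')⁻¹ := by rw [hk, hk', hw]
    calc (H.φ k')⁻¹ * g * H.φ k * L.a = (H.φ k')⁻¹ * (g * (H.φ k * L.a * (H.φ k)⁻¹) * g⁻¹) * g * H.φ k := by group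
      _ = L.a * ((H.φ k')⁻¹ * g * H.φ k) := by rw [h]; group
  obtain ⟨y, hy⟩ := H.cent_a hc
  exact ⟨k' * y * k⁻¹, by rw [map_mul, map_mul, map_inv, hy]; group⟩

/-- A two-subgroup containing an involution of the first class lies in the subgroup. -/
theorem HData.two_le {x : alternatingGroup (Fin 8)} (hx : x * x = 1) (hf : FixInvol x.1) {P : Subgroup G}
    (hP : IsPGroup 2 P) (hxP : H.φ x ∈ P) : P ≤ H.φ.range := by
  haveI := Fact.mk Nat.prime_two
  by_contra hle
  have hlt : P ⊓ H.φ.range < P := lt_of_le_of_ne inf_le_left fun e => hle (e ▸ inf_le_right)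
  obtain ⟨g, hgN, hg⟩ := SetLike.exists_of_lt (SelfCentThree.normalizer_grows hP hlt)
  refine hg ⟨hgN.1, H.ctrl hx hf ?_⟩
  exact ((Subgroup.mem_normalizer_iff.1 hgN.2 _).1 ⟨hxP, ⟨x, rfl⟩⟩).2

theorem HData.cent_s (H : L.HData) {g₀ : G}
    (hg₀ : Commute g₀ (H.φ ⟨s8, Equiv.Perm.mem_alternatingGroup.2 s8_even⟩)) : g₀ ∈ H.φ.range := by
  classical
  haveI := Fact.mk Nat.prime_two
  set sA : alternatingGroup (Fin 8) := ⟨s8, Equiv.Perm.mem_alternatingGroup.2 s8_even⟩ with hsA
  set s := H.φ sA with hs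
  set X := Subgroup.centralizer ({s} : Set G) with hX
  have memX : ∀ g, g ∈ X ↔ Commute g s := fun g => Subgroup.mem_centralizer_singleton_iff
  suffices X ≤ H.φ.range from this ((memX _).2 hg₀)
  have hs8 : s8 * s8 = 1 := by decide +kernel
  have hs2 : s * s = 1 := by
    rw [hs, ← map_mul, show sA * sA = 1 from Subtype.ext hs8, map_one]
  have hs1 : s ≠ 1 := fun e => by
    have h : sA = 1 := H.inj (by rw [map_one]; exact e)
    exact absurd (congrArg Subtype.val h : s8 = 1) (by decide +kernel)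
  -- the four-group
  obtain ⟨he1, he2, ht2, hte2, hes, hts, hte, hne⟩ := four_s8
  set eA : alternatingGroup (Fin 8) := ⟨e8, Equiv.Perm.mem_alternatingGroup.2 he1⟩
  set tA := emb tM
  set e := H.φ eA with he
  set t := H.φ tA with ht
  have htt : t * t = 1 := by rw [ht, ← map_mul, show tA * tA = 1 from Subtype.ext ht2.1, map_one]
  have hee : e * e = 1 := by rw [he, ← map_mul, show eA * eA = 1 from Subtype.ext he2.1, map_one]
  have htec : Commute t e := Commute.map (Subtype.ext hte) H.φ
  have htX : t ∈ X := (memX _).2 (Commute.map (Subtype.ext hts) H.φ)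
  have heX : e ∈ X := (memX _).2 (Commute.map (Subtype.ext hes) H.φ)
  let A : Subgroup G :=
    { carrier := {g | g = 1 ∨ g = t ∨ g = e ∨ g = t * e}
      one_mem' := Or.inl rfl
      inv_mem' := by
        rintro g (rfl | rfl | rfl | rfl)
        · exact Or.inl inv_one
        · exact Or.inr (Or.inl (inv_eq_of_mul_eq_one_right htt))
        · exact Or.inr (Or.inr (Or.inl (inv_eq_of_mul_eq_one_right hee)))
        · refine Or.inr (Or.inr (Or.inr ?_))
          rw [mul_inv_rev, inv_eq_of_mul_eq_one_right htt, inv_eq_of_mul_eq_one_right hee, htec.eq]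
      mul_mem' := by
        have e1 : ∀ v, t * (t * v) = v := fun v => by rw [← mul_assoc, htt, one_mul]
        have e3 : ∀ v, e * (t * v) = t * (e * v) := fun v => by rw [← mul_assoc, ← htec.eq, mul_assoc]
        rintro g g' (rfl | rfl | rfl | rfl) (rfl | rfl | rfl | rfl) <;>
          simp [mul_assoc, e1, e3, htt, hee, ← htec.eq] }
  have hAX : A ≤ X := by
    rintro g (rfl | rfl | rfl | rfl)
    exacts [one_mem _, htX, heX, mul_mem htX heX]
  have hA2 : ∀ g ∈ A, g * g = 1 := by
    rintro g (rfl | rfl | rfl | rfl)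
    · exact one_mul 1
    · exact htt
    · exact hee
    · rw [mul_assoc, ← mul_assoc e, ← htec.eq, mul_assoc t e e, hee, mul_one, htt]
  haveI hAc : IsMulCommutative A := ⟨⟨fun x y => Subtype.ext (by
    show (x : G) * y = y * x
    have h := hA2 _ (mul_mem x.2 y.2)
    calc (x : G) * y = x * ((x : G) * y * (x * y)) * y := by rw [h, mul_one]
      _ = ((x : G) * x) * (y * x) * ((y : G) * y) := by group
      _ = y * x := by rw [hA2 _ x.2, hA2 _ y.2, one_mul, mul_one])⟩⟩
  have hAin : ∀ g ∈ A, g ≠ 1 → ∃ x : alternatingGroup (Fin 8), H.φ x = g ∧ x * x = 1 ∧ FixInvol x.1 := by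
    rintro g (rfl | rfl | rfl | rfl) hg
    · exact absurd rfl hg
    · exact ⟨tA, rfl, Subtype.ext ht2.1, ht2⟩
    · exact ⟨eA, rfl, Subtype.ext he2.1, he2⟩
    · exact ⟨tA * eA, by rw [map_mul], Subtype.ext hte2.1, hte2⟩
  have hAcent : ∀ g ∈ A, g ≠ 1 → Subgroup.centralizer ({g} : Set G) ≤ H.φ.range := by
    intro g hg hg1 c hc
    obtain ⟨x, rfl, hx2, hxf⟩ := hAin g hg hg1
    refine H.ctrl hx2 hxf ⟨x, ?_⟩
    rw [(Subgroup.mem_centralizer_singleton_iff.1 hc), mul_inv_cancel_right]
  have hA1 : t ≠ 1 := fun h => absurd (H.inj (h.trans (map_one H.φ).symm)) fun h' => ht2.2.1 (congrArg Subtype.val h')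
  have hte' : t ≠ e := fun h => hne (congrArg Subtype.val (H.inj h))
  have hAnc : ¬ IsCyclic A := by
    intro hcy
    obtain ⟨v, hv⟩ := IsCyclic.exists_generator (α := A)
    have hsub : ∀ w : A, w = 1 ∨ w = v := by
      intro w
      obtain ⟨k, hk⟩ := Subgroup.mem_zpowers_iff.1 (hv w)
      have h2 : v ^ (2 : ℤ) = 1 := by
        rw [show (2 : ℤ) = ((2 : ℕ) : ℤ) from rfl, zpow_natCast, pow_two]; exact Subtype.ext (hA2 _ v.2)
      rw [← Int.emod_add_mul_ediv k 2, zpow_add, zpow_mul, h2, one_zpow, mul_one] at hk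
      obtain h | h : k % 2 = 0 ∨ k % 2 = 1 := by omega
      · left; rw [← hk, h, zpow_zero]
      · right; rw [← hk, h, zpow_one]
    have htA : t ∈ A := Or.inr (Or.inl rfl)
    have heA : e ∈ A := Or.inr (Or.inr (Or.inl rfl))
    have he1' : e ≠ 1 := fun h => absurd (H.inj (h.trans (map_one H.φ).symm)) fun h' => he2.2.1 (congrArg Subtype.val h')
    rcases hsub ⟨t, htA⟩ with h | h
    · exact hA1 (congrArg Subtype.val h)
    rcases hsub ⟨e, heA⟩ with h' | h'
    · exact he1' (congrArg Subtype.val h')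
    · exact hte' (congrArg Subtype.val (h.trans h'.symm))
  -- the element of order three
  set yM : M35 := zM * r5 c123 (by decide) with hyM
  set y := L.ι yM with hy
  have hyA : y = H.φ (emb yM) := (H.agree _).symm
  have hy18 : Nat.card (Subgroup.centralizer ({y} : Set G)) = 18 := by
    rw [hy, hyM, map_mul]; exact L.card18' (r := c123) (by decide) (by decide)
  have hys : Commute y s := by
    rw [hyA, hs]
    refine (Commute.map ?_ H.φ).symm
    rw [hyM, y8_eq]
    exact Subtype.ext s8_y8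
  have hyX : y ∈ X := (memX _).2 hys
  have hy3 : y ^ 3 = 1 := by
    rw [hy, ← map_pow, show yM ^ 3 = 1 by decide +kernel, map_one]
  have hy1 : y ≠ 1 := fun h => absurd (L.inj (h.trans (map_one L.ι).symm)) (by decide +kernel)
  -- the quotient
  let sX : X := ⟨s, (memX _).2 (Commute.refl _)⟩
  let yX : X := ⟨y, hyX⟩
  set S := Subgroup.zpowers sX with hS
  have hSmem : ∀ x : X, x ∈ S → x = 1 ∨ x = sX := by
    intro x hx
    obtain ⟨k, rfl⟩ := Subgroup.mem_zpowers_iff.1 hx
    have h2 : sX ^ (2 : ℤ) = 1 := by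
      rw [show (2 : ℤ) = ((2 : ℕ) : ℤ) from rfl, zpow_natCast, pow_two]; exact Subtype.ext hs2
    rw [← Int.emod_add_mul_ediv k 2, zpow_add, zpow_mul, h2, one_zpow, mul_one]
    obtain h | h : k % 2 = 0 ∨ k % 2 = 1 := by omega
    · left; rw [h, zpow_zero]
    · right; rw [h, zpow_one]
  have hsC : ∀ x : X, Commute x sX := fun x => Subtype.ext ((memX x.1).1 x.2).eq
  haveI hSn : S.Normal := ⟨fun n hn g => by
    rcases hSmem n hn with rfl | rfl
    · rw [mul_one, mul_inv_cancel]; exact one_mem _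
    · rw [(hsC g).eq, mul_inv_cancel_right]; exact Subgroup.mem_zpowers _⟩
  have hscent : S ≤ Subgroup.center X := (Subgroup.zpowers_le).2 (Subgroup.mem_center_iff.2 fun g => (hsC g).eq)
  set π := QuotientGroup.mk' S with hπ
  have hsorder : orderOf s = 2 := orderOf_eq_prime (by rw [pow_two]; exact hs2) hs1
  have hyorder : orderOf y = 3 := by
    haveI := Fact.mk Nat.prime_three
    exact orderOf_eq_prime hy3 hy1
  have hsc3 : SelfCentThree.SC3 (π yX) := by
    refine ⟨?_, fun q hq => ?_⟩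
    · haveI := Fact.mk Nat.prime_three
      refine orderOf_eq_prime (by rw [← map_pow, show yX ^ 3 = 1 from Subtype.ext hy3, map_one]) fun h => ?_
      rw [hπ, QuotientGroup.mk'_apply, QuotientGroup.eq_one_iff] at h
      rcases hSmem _ h with h' | h'
      · exact hy1 (congrArg Subtype.val h')
      · have : y = s := congrArg Subtype.val h'
        rw [this, hsorder] at hyorder; omega
    obtain ⟨g, rfl⟩ := QuotientGroup.mk'_surjective S q
    have h : (yX * g)⁻¹ * (g * yX) ∈ S := by
      rw [← QuotientGroup.eq_one_iff, ← QuotientGroup.mk'_apply, map_mul, map_inv, map_mul _ yX, map_mul _ g,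
        hq.eq, inv_mul_cancel]
    have hgy : Commute (g : G) y := by
      rcases hSmem _ h with h' | h'
      · rw [inv_mul_eq_one] at h'
        exact (congrArg Subtype.val h').symm
      · exfalso
        rw [inv_mul_eq_iff_eq_mul] at h'
        have e1 : (g : G) * y = y * g * s := congrArg Subtype.val h'
        have e2 : (g : G) * y * (g : G)⁻¹ = y * s := by
          rw [e1, mul_assoc y, ((memX g.1).1 g.2).eq]; group
        have h3 : (y * s) ^ 3 = 1 := by rw [← e2, conj_pow, hy3]; group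
        rw [hys.mul_pow, hy3, one_mul, pow_three, hs2, mul_one] at h3
        exact hs1 h3
    set K := Subgroup.centralizer ({y} : Set G) ⊓ X with hK
    have hZ : Subgroup.zpowers (y * s) ≤ K := (Subgroup.zpowers_le).2
      ⟨Subgroup.mem_centralizer_singleton_iff.2 ((Commute.refl y).mul_left hys.symm).eq,
        (memX _).2 (hys.mul_left (Commute.refl s))⟩
    have h6 : Nat.card (Subgroup.zpowers (y * s)) = 6 := by
      rw [Nat.card_zpowers, hys.orderOf_mul_eq_mul_orderOf_of_coprime (by rw [hyorder, hsorder]; norm_num),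
        hyorder, hsorder]
    have hK18 : Nat.card K ∣ 18 := hy18 ▸ Subgroup.card_dvd_of_le inf_le_left
    have hK9 : ¬ 9 ∣ Nat.card K := fun h9 =>
      L.not_nine hs2 hs1 (h9.trans (Subgroup.card_dvd_of_le inf_le_right))
    have hKle : Nat.card K ≤ 6 := by
      have h6' := h6 ▸ Subgroup.card_dvd_of_le hZ
      have hle := Nat.le_of_dvd (by norm_num) hK18
      interval_cases hv : Nat.card K <;> omega
    have hgK : (g : G) ∈ Subgroup.zpowers (y * s) := by
      rw [Subgroup.eq_of_le_of_card_ge hZ (by rw [h6]; exact hKle)]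
      exact ⟨Subgroup.mem_centralizer_singleton_iff.2 hgy.eq, g.2⟩
    obtain ⟨k, hk⟩ := Subgroup.mem_zpowers_iff.1 hgK
    refine Subgroup.mem_zpowers_iff.2 ⟨k, ?_⟩
    have hg' : g = (yX * sX) ^ k := Subtype.ext (by rw [Subgroup.coe_zpow]; exact hk.symm)
    rw [hg', map_zpow, map_mul, show π sX = 1 from (QuotientGroup.eq_one_iff _).2 (Subgroup.mem_zpowers _), mul_one]
  -- two-subgroups of `X` containing the four-group
  have hAp : IsPGroup 2 (A.subgroupOf X) := fun x => ⟨1, Subtype.ext (Subtype.ext (by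
    rw [pow_one, SubmonoidClass.coe_pow, SubmonoidClass.coe_pow, pow_two]
    exact hA2 _ (Subgroup.mem_subgroupOf.1 x.2)))⟩
  obtain ⟨P, hAP⟩ := hAp.exists_le_sylow
  have hPle : (P : Subgroup X).map X.subtype ≤ H.φ.range :=
    H.two_le (x := tA) (Subtype.ext ht2.1) ht2 (P.2.map _) ⟨⟨t, htX⟩,
      hAP (Subgroup.mem_subgroupOf.2 (Or.inr (Or.inl rfl))), rfl⟩
  have hcardX : ∀ c : ℕ, Nat.card (X ⧸ S) = c → Nat.card X = 2 * c := by
    intro c hc
    rw [Subgroup.card_eq_card_quotient_mul_card_subgroup S, hc, Nat.card_zpowers]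
    rw [← Subgroup.orderOf_coe]
    show c * orderOf s = 2 * c
    rw [hsorder, mul_comm]
  have hP20160 : Nat.card P ∣ 20160 := by
    have h1 : Nat.card P = Nat.card ((P : Subgroup X).map X.subtype) :=
      (Subgroup.card_map_of_injective X.subtype_injective).symm
    rw [h1]
    refine (Subgroup.card_dvd_of_le hPle).trans ((Subgroup.card_range_dvd H.φ).trans ?_)
    rw [nat_card_alternatingGroup, Nat.card_fin]
    decide
  have h64 : 64 ∣ Nat.card X := by
    have hle : (Subgroup.centralizer ({sA} : Set (alternatingGroup (Fin 8)))).map H.φ ≤ X := by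
      rintro _ ⟨c, hc, rfl⟩
      exact (memX _).2 (Commute.map (Subgroup.mem_centralizer_singleton_iff.1 hc) H.φ)
    have h := Subgroup.card_dvd_of_le hle
    rw [Subgroup.card_map_of_injective H.inj] at h
    exact (cent_s8_card rfl).trans h
  rcases SelfCentThree.tri_of_sc3 _ (X ⧸ S) (π yX) rfl hsc3 with
    ⟨N, hN, hnil, hcop, hq⟩ | ⟨N, hN, hcomm, hel, heq⟩ | heq
  · haveI := hN
    set Np := N.comap π with hNp
    haveI hNpn : Np.Normal := hN.comap π
    haveI hNpnil : Group.IsNilpotent Np := by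
      let f : Np →* N := (π.comp Np.subtype).codRestrict N fun x => x.2
      refine Subgroup.isNilpotent_of_ker_le_center f fun x hx => ?_
      have hxS : (x : X) ∈ S := (QuotientGroup.eq_one_iff _).1 (congrArg Subtype.val hx)
      exact Subgroup.mem_center_iff.2 fun g => Subtype.ext (Subgroup.mem_center_iff.1 (hscent hxS) g.1)
    have hSNp : S ≤ Np := fun x hx => by
      rw [hNp, Subgroup.mem_comap, hπ, QuotientGroup.mk'_apply, (QuotientGroup.eq_one_iff x).2 hx]; exact one_mem _
    have hcardNp : Nat.card Np = 2 * Nat.card N := by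
      let f : Np →* N := (π.comp Np.subtype).codRestrict N fun x => x.2
      have hf : Function.Surjective f := by
        rintro ⟨q, hq'⟩
        obtain ⟨v, rfl⟩ := QuotientGroup.mk'_surjective S q
        exact ⟨⟨v, hq'⟩, rfl⟩
      have hk : f.ker = S.subgroupOf Np := by
        ext x
        rw [MonoidHom.mem_ker, Subgroup.mem_subgroupOf, Subtype.ext_iff]
        exact QuotientGroup.eq_one_iff _
      have h := f.ker.card_mul_index
      rw [Subgroup.index_ker, MonoidHom.range_eq_top.2 hf, Subgroup.card_top, hk,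
        Nat.card_congr (Subgroup.subgroupOfEquivOfLe hSNp).toEquiv, Nat.card_zpowers, ← Subgroup.orderOf_coe] at h
      rw [← h]
      show orderOf s * Nat.card N = 2 * Nat.card N
      rw [hsorder]
    have hNp3 : Nat.Coprime (Nat.card Np) 3 := by
      rw [hcardNp]; exact Nat.Coprime.mul_left (by norm_num) hcop
    have hNp2 : IsPGroup 2 Np := by
      refine IsPGroup.of_card (n := (Nat.card Np).primeFactorsList.length) ?_
      refine Nat.eq_prime_pow_of_unique_prime_dvd Nat.card_pos.ne' fun {q} hqp hqd => ?_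
      by_contra hq2
      haveI := Fact.mk hqp
      obtain ⟨Q⟩ : Nonempty (Sylow q Np) := inferInstance
      haveI : (Q : Subgroup Np).Normal := Sylow.normal_of_normalizerCondition
        Group.normalizerCondition_of_isNilpotent Q
      haveI : (Q : Subgroup Np).Characteristic := Sylow.characteristic_of_normal Q inferInstance
      set Q' := ((Q : Subgroup Np).map Np.subtype).map X.subtype with hQ'
      have hQX : A ≤ Subgroup.normalizer (Q' : Set G) := by
        intro a ha
        refine Loc.normalises_of fun v hv => ?_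
        obtain ⟨w, hw, rfl⟩ := hv
        refine ⟨⟨a, hAX ha⟩ * w * ⟨a, hAX ha⟩⁻¹, ?_, rfl⟩
        exact (inferInstance : ((Q : Subgroup Np).map Np.subtype).Normal).conj_mem w hw _
      have hQcard : Nat.card Q' = Nat.card Q := by
        rw [hQ', Subgroup.card_map_of_injective X.subtype_injective,
          Subgroup.card_map_of_injective Np.subtype_injective]
      obtain ⟨m, hm⟩ := IsPGroup.iff_card.1 Q.2
      have hQcop : (Nat.card A).Coprime (Nat.card Q') := by
        rw [hQcard, hm]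
        obtain ⟨l, hl⟩ := IsPGroup.iff_card.1 (show IsPGroup 2 A from fun x => ⟨1, Subtype.ext (by
          rw [SubmonoidClass.coe_pow, pow_one, pow_two]; exact hA2 _ x.2)⟩)
        rw [hl]
        exact Nat.Coprime.pow _ _ ((Nat.coprime_primes Nat.prime_two hqp).2 (Ne.symm hq2))
      have hQH : Q' ≤ H.φ.range := by
        rw [← coprime_generated_by_centralizers hAnc hQX hQcop]
        exact iSup₂_le fun v hv => inf_le_right.trans (hAcent v hv.1 hv.2)
      obtain ⟨w, hw⟩ := exists_prime_orderOf_dvd_card' q (hQcard ▸ Q.dvd_card_of_dvd_card hqd)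
      obtain ⟨x, hx⟩ := hQH w.2
      have hwX : (w : G) ∈ X := by
        obtain ⟨v, -, hv⟩ := w.2
        rw [← hv]; exact v.2
      have hxq : x ^ q = 1 := H.inj (by
        rw [map_pow, hx, map_one, ← SubmonoidClass.coe_pow, ← hw, pow_orderOf_eq_one]; rfl)
      have hxs : x.1 * s8 = s8 * x.1 := by
        have h : x * sA = sA * x := H.inj (by rw [map_mul, map_mul, hx]; exact ((memX _).1 hwX).eq)
        exact congrArg Subtype.val h
      have h5 : 5 ≤ q := by
        have h3 : q ≠ 3 := by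
          rintro rfl
          exact (Nat.prime_three.coprime_iff_not_dvd.1 hNp3.symm) hqd
        have h2 := hqp.two_le
        have h4 : q ≠ 4 := fun h => by rw [h] at hqp; norm_num at hqp
        omega
      have hx1 := no_large_prime hqp h5 (by rw [← SubmonoidClass.coe_pow, hxq]; rfl) hxs
      have : orderOf w = 1 := by
        rw [orderOf_eq_one_iff]
        exact Subtype.ext (by rw [← hx, show x = 1 from Subtype.ext hx1, map_one]; rfl)
      rw [hw] at this
      exact hqp.one_lt.ne' this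
    obtain ⟨c, hc⟩ := IsPGroup.iff_card.1 hNp2
    have hidx : Nat.card X = 2 ^ c * 3 ∨ Nat.card X = 2 ^ (c + 1) * 3 := by
      have h := hcardX _ (Subgroup.card_eq_card_quotient_mul_card_subgroup N)
      rw [hc] at hcardNp
      rcases hq with h' | he'
      · left; rw [h, h', hcardNp]; ring
      · right
        obtain ⟨e'⟩ := he'
        rw [h, Nat.card_congr e'.toEquiv, Nat.card_perm, Nat.card_fin, pow_succ, hcardNp,
          show Nat.factorial 3 = 6 from rfl]
        ring
    set M := H.φ.range.subgroupOf X with hM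
    suffices M = ⊤ from Subgroup.subgroupOf_eq_top.1 this
    have hPM : (P : Subgroup X) ≤ M := fun x hx => Subgroup.mem_subgroupOf.2 (hPle ⟨x, hx, rfl⟩)
    have hyM' : yX ∈ M := Subgroup.mem_subgroupOf.2 ⟨emb yM, hyA.symm⟩
    refine Subgroup.eq_top_of_card_eq _ (Nat.dvd_antisymm (Subgroup.card_subgroup_dvd_card _) ?_)
    have h1 : Nat.card P ∣ Nat.card M := Subgroup.card_dvd_of_le hPM
    have h2 : 3 ∣ Nat.card M := by
      have := Subgroup.orderOf_dvd_natCard M hyM'
      rwa [← Subgroup.orderOf_coe, show ((yX : X) : G) = y from rfl, hyorder] at this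
    rw [Sylow.card_eq_multiplicity] at h1
    have h3 : ∀ m : ℕ, Nat.card X = 2 ^ m * 3 → Nat.card X ∣ Nat.card M := by
      intro m hm
      have hf : (Nat.card X).factorization 2 = m := by
        rw [hm, Nat.factorization_mul (by positivity) (by norm_num), Finsupp.add_apply,
          Nat.Prime.factorization_pow Nat.prime_two, Finsupp.single_eq_same,
          Nat.factorization_eq_zero_of_not_dvd (by norm_num : ¬ 2 ∣ 3)]
        rfl
      rw [hf] at h1
      rw [hm]
      exact (Nat.Coprime.pow_left m (by norm_num : Nat.Coprime 2 3)).mul_dvd_of_dvd_of_dvd h1 h2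
    rcases hidx with h | h
    exacts [h3 _ h, h3 _ h]
  · exfalso
    obtain ⟨eq⟩ := heq
    haveI := hN
    obtain ⟨m, hm⟩ := IsPGroup.iff_card.1 (show IsPGroup 2 N from fun x => ⟨1, Subtype.ext (by
      rw [SubmonoidClass.coe_pow, pow_one]; exact hel _ x.2)⟩)
    have hX2 : Nat.card X = 2 ^ (m + 3) * 15 := by
      rw [hcardX _ (Subgroup.card_eq_card_quotient_mul_card_subgroup N), Nat.card_congr eq.toEquiv,
        nat_card_alternatingGroup, Nat.card_fin, hm, show Nat.factorial 5 = 120 from rfl, pow_add]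
      ring
    have hm3 : 3 ≤ m := by
      have h1 : 2 ^ 6 ∣ 2 ^ (m + 3) * 15 := hX2 ▸ h64
      have h2 := Nat.Coprime.dvd_of_dvd_mul_right ((Nat.Coprime.pow_left 6 (by norm_num : Nat.Coprime 2 15))) h1
      have := Nat.pow_dvd_pow_iff_le_right (by norm_num : 1 < 2) |>.1 h2
      omega
    have hm3' : m ≤ 3 := by
      have hP : Nat.card P = 2 ^ (m + 3) := by
        rw [Sylow.card_eq_multiplicity, hX2, Nat.factorization_mul (by positivity) (by norm_num), Finsupp.add_apply,
          Nat.Prime.factorization_pow Nat.prime_two, Finsupp.single_eq_same,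
          Nat.factorization_eq_zero_of_not_dvd (by norm_num : ¬ 2 ∣ 15), add_zero]
      rw [hP] at hP20160
      by_contra hm'
      have := (pow_dvd_pow 2 (show 7 ≤ m + 3 by omega)).trans hP20160
      norm_num at this
    have hm' : m = 3 := by omega
    subst hm'
    -- a fixed-point-free element of order three
    haveI := Fact.mk Nat.prime_three
    let f : Function.End N := fun n => ⟨π yX * n.1 * (π yX)⁻¹, hN.conj_mem _ n.2 _⟩
    have hf : f ^ 3 ^ 1 = 1 := by
      funext n
      refine Subtype.ext ?_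
      show π yX * (π yX * (π yX * n.1 * (π yX)⁻¹) * (π yX)⁻¹) * (π yX)⁻¹ = n.1
      have h3 : π yX ^ 3 = 1 := by rw [← map_pow, show yX ^ 3 = 1 from Subtype.ext hy3, map_one]
      calc π yX * (π yX * (π yX * n.1 * (π yX)⁻¹) * (π yX)⁻¹) * (π yX)⁻¹ = π yX ^ 3 * n.1 * (π yX ^ 3)⁻¹ := by
            rw [pow_three]; group
        _ = n.1 := by rw [h3]; group
    have hsub : ∀ a b : Function.fixedPoints f, a = b := by
      have key : ∀ n : Function.fixedPoints f, n.1.1 = 1 := by
        intro n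
        have hn : π yX * n.1.1 * (π yX)⁻¹ = n.1.1 := congrArg Subtype.val n.2
        obtain ⟨k, hk⟩ := Subgroup.mem_zpowers_iff.1 (hsc3.cent _ (mul_inv_eq_iff_eq_mul.1 hn))
        have h3 : orderOf n.1.1 ∣ 3 := by
          rw [← hk, ← hsc3.ord]; exact orderOf_dvd_of_mem_zpowers (zpow_mem (Subgroup.mem_zpowers _) k)
        have h2 : orderOf n.1.1 ∣ 2 := orderOf_dvd_of_pow_eq_one (hel _ n.1.2)
        exact orderOf_eq_one_iff.1 (Nat.eq_one_of_dvd_coprimes (by norm_num : Nat.Coprime 3 2) h3 h2)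
      exact fun a b => Subtype.ext (Subtype.ext ((key a).trans (key b).symm))
    haveI := Fintype.ofFinite N
    have hmod := Equiv.Perm.card_fixedPoints_modEq hf
    have h0 : Nonempty (Function.fixedPoints f) := ⟨⟨1, Subtype.ext (by show π yX * 1 * (π yX)⁻¹ = 1; group)⟩⟩
    rw [Fintype.card_eq_one_iff.2 ⟨h0.some, fun b => hsub b _⟩, ← Nat.card_eq_fintype_card, hm] at hmod
    exact absurd hmod (by decide)
  · exfalso
    obtain ⟨eq⟩ := heq
    have h := hcardX _ (Nat.card_congr eq.toEquiv)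
    have : 64 ∣ 2 * 336 := (h ▸ h64).trans (Nat.mul_dvd_mul_left 2 card_psl27_dvd)
    norm_num at this

theorem HData.range_eq_top (H : L.HData) : H.φ.range = ⊤ := by
  rw [eq_top_iff]
  intro g _
  set sA : alternatingGroup (Fin 8) := ⟨s8, Equiv.Perm.mem_alternatingGroup.2 s8_even⟩ with hsA
  have hs2 : sA * sA = 1 := Subtype.ext (by show s8 * s8 = 1; decide +kernel)
  have ha2 : emb aM * emb aM = 1 := by rw [← map_mul, show aM * aM = 1 by decide +kernel, map_one]
  have haf : FixInvol (emb aM).1 := by rw [emb_aM]; exact a8_fixInvol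
  have hga : g * L.a * g⁻¹ * (g * L.a * g⁻¹) = 1 := by
    rw [show g * L.a * g⁻¹ * (g * L.a * g⁻¹) = g * (L.a * L.a) * g⁻¹ by group, L.a_sq]; group
  obtain ⟨c, hc2, hc1, hca, hcs⟩ := exists_common_invol hga (by rw [← map_mul, hs2, map_one] : H.φ sA * H.φ sA = 1)
    fun k e => by
      have h := H.conj_fix hs2 (k * g) (by rw [← e]; group)
      obtain ⟨i, hi⟩ := h.2.2
      exact (by decide +kernel : ∀ j, s8 j ≠ j) i hi
  obtain ⟨x, rfl⟩ := H.cent_s hcs
  have hx2 : x * x = 1 := H.inj (by rw [map_mul, hc2, map_one])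
  have hx1 : x ≠ 1 := fun e => hc1 (by rw [e, map_one])
  have hmem : g * L.a * g⁻¹ ∈ H.φ.range := by
    rcases invol_cases x hx2 hx1 with ⟨hf, -⟩ | ⟨k, hk⟩
    · exact H.ctrl hx2 hf ⟨x, by rw [hca.symm.eq, mul_inv_cancel_right]⟩
    · have hxk : x = k * sA * k⁻¹ := Subtype.ext hk.symm
      have hcc : Commute ((H.φ k)⁻¹ * (g * L.a * g⁻¹) * H.φ k) (H.φ sA) := by
        have h := hca.symm.map (MulAut.conj (H.φ k)⁻¹).toMonoidHom
        simp only [MulEquiv.coe_toMonoidHom, MulAut.conj_apply, inv_inv] at h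
        rwa [hxk, map_mul, map_mul, map_inv,
          show (H.φ k)⁻¹ * (H.φ k * H.φ sA * (H.φ k)⁻¹) * H.φ k = H.φ sA by group] at h
      obtain ⟨w, hw⟩ := H.cent_s hcc
      exact ⟨k * w * k⁻¹, by rw [map_mul, map_mul, map_inv, hw]; group⟩
  obtain ⟨w, hw⟩ := hmem
  exact H.ctrl ha2 haf ⟨w, by rw [emb_a H, hw]⟩

theorem nonempty_equiv (L : Loc G) : Nonempty (G ≃* alternatingGroup (Fin 8)) := by
  obtain ⟨H⟩ := L.exists_hdata
  exact ⟨(MulEquiv.ofBijective H.φ ⟨H.inj, MonoidHom.range_eq_top.1 H.range_eq_top⟩).symm⟩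

end Loc

end CfsgLib.A8ThreeLocal
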