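import Cfsg.Agent.Lib.A8ThreeLocal.Small

/-!
The local data at the prime three, in coordinates.
-/

set_option autoImplicit false

namespace CfsgLib.A8ThreeLocal

open Equiv Equiv.Perm

universe u

/-- The three-local data, in coordinates. -/
structure Loc (G : Type u) [Group G] where
  /-- the identification of the normalizer of the subgroup of the distinguished element of order three -/
  ι : M35 →* G
  /-- it is injective -/
  inj : Function.Injective ι
  /-- it covers that normalizer -/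
  cover : ∀ g : G, g * ι zM * g⁻¹ = ι zM ∨ g * ι zM * g⁻¹ = (ι zM)⁻¹ → ∃ m, ι m = g
  /-- the Sylow three-subgroup -/
  D : Subgroup G
  /-- its elements -/
  memD : ∀ g : G, g ∈ D ↔ ∃ i j : Fin 3, g = ι (zM ^ i.val * uM ^ j.val)
  /-- its order -/
  cardD : Nat.card D = 9
  /-- it is a Sylow subgroup -/
  notdvd : ¬ 27 ∣ Nat.card G
  /-- it is self-centralizing -/
  cd : Subgroup.centralizer (D : Set G) = D
  /-- the order of its normalizer -/
  cardND : Nat.card (Subgroup.normalizer (D : Set G)) = 72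
  /-- the second element is conjugate to the first -/
  conjU : ∃ g : G, g * ι zM * g⁻¹ = ι uM
  /-- the product has centralizer of order eighteen -/
  card18 : Nat.card (Subgroup.centralizer ({ι zM * ι uM} : Set G)) = 18
  /-- the centralizer of the first element -/
  card180 : Nat.card (Subgroup.centralizer ({ι zM} : Set G)) = 180

variable {G : Type u} [Group G]

theorem mem_normalizer_zpowers {x g : G} (h : g * x * g⁻¹ = x ∨ g * x * g⁻¹ = x⁻¹) :
    g ∈ Subgroup.normalizer (Subgroup.zpowers x : Set G) := by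
  rw [Subgroup.mem_normalizer_iff]
  intro w
  have key : ∀ k : ℤ, g * x ^ k * g⁻¹ ∈ Subgroup.zpowers x := fun k => by
    rw [← conj_zpow]
    refine Subgroup.zpow_mem _ ?_ k
    rcases h with e | e <;> rw [e]
    exacts [Subgroup.mem_zpowers x, inv_mem (Subgroup.mem_zpowers x)]
  constructor
  · rintro hw
    obtain ⟨k, rfl⟩ := Subgroup.mem_zpowers_iff.1 hw
    exact key k
  · intro hw
    obtain ⟨k, hk⟩ := Subgroup.mem_zpowers_iff.1 hw
    rcases h with e | e
    · refine Subgroup.mem_zpowers_iff.2 ⟨k, mul_left_cancel (a := g) (mul_right_cancel (b := g⁻¹) ?_)⟩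
      rw [← hk, ← conj_zpow, e]
    · refine Subgroup.mem_zpowers_iff.2 ⟨-k, mul_left_cancel (a := g) (mul_right_cancel (b := g⁻¹) ?_)⟩
      rw [← hk, ← conj_zpow, e, inv_zpow, ← zpow_neg, neg_neg]

theorem card_cent_conj (g x : G) :
    Nat.card (Subgroup.centralizer ({g * x * g⁻¹} : Set G)) = Nat.card (Subgroup.centralizer ({x} : Set G)) := by
  have h : Subgroup.centralizer ({g * x * g⁻¹} : Set G) =
      (Subgroup.centralizer ({x} : Set G)).map (MulAut.conj g).toMonoidHom := by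
    ext w
    rw [Subgroup.mem_map_equiv, MulAut.conj_symm_apply, Subgroup.mem_centralizer_singleton_iff,
      Subgroup.mem_centralizer_singleton_iff]
    constructor
    · intro h
      have := congrArg (fun t => g⁻¹ * t * g) h
      simpa [mul_assoc] using this
    · intro h
      have := congrArg (fun t => g * t * g⁻¹) h
      simpa [mul_assoc] using this
  rw [h, Subgroup.card_map_of_injective (MulEquiv.injective _)]

theorem card_cent_inv (x : G) :
    Nat.card (Subgroup.centralizer ({x⁻¹} : Set G)) = Nat.card (Subgroup.centralizer ({x} : Set G)) := by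
  have h : Subgroup.centralizer ({x⁻¹} : Set G) = Subgroup.centralizer ({x} : Set G) := by
    ext w
    rw [Subgroup.mem_centralizer_singleton_iff, Subgroup.mem_centralizer_singleton_iff]
    exact ⟨fun h => by simpa using (Commute.inv_right (show Commute w x⁻¹ from h)).eq,
      fun h => (Commute.inv_right (show Commute w x from h)).eq⟩
  rw [h]

theorem conj_pow_three {x y h : G} (hx : h * x * h⁻¹ = x * y) (hy : h * y * h⁻¹ = y) (h3 : y ^ 3 = 1) :
    h ^ 3 * x * (h ^ 3)⁻¹ = x := by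
  set f := MulAut.conj h
  have fx : f x = x * y := hx
  have fy : f y = y := hy
  have e : h ^ 3 * x * (h ^ 3)⁻¹ = f (f (f x)) := by
    show _ = h * (h * (h * x * h⁻¹) * h⁻¹) * h⁻¹
    rw [pow_three]; group
  rw [e, fx, map_mul, fx, fy, map_mul, map_mul, fx, fy, mul_assoc, mul_assoc, ← pow_three, h3, mul_one]

set_option synthInstance.maxSize 1024 in
theorem nine_cases : ∀ i j : Fin 3, j ≠ 0 →
    (i = 0 ∧ (zM ^ i.val * uM ^ j.val = uM ∨ zM ^ i.val * uM ^ j.val = uM⁻¹)) ∨
    ((zM ^ i.val * uM ^ j.val = zM * uM ∨ zM ^ i.val * uM ^ j.val = zM⁻¹ * uM) ∨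
      (zM ^ i.val * uM ^ j.val = zM * uM⁻¹ ∨ zM ^ i.val * uM ^ j.val = zM⁻¹ * uM⁻¹)) := by decide +kernel

theorem nine_zero : ∀ i : Fin 3, zM ^ i.val * uM ^ (0 : Fin 3).val = 1 ∨
    zM ^ i.val * uM ^ (0 : Fin 3).val = zM ∨ zM ^ i.val * uM ^ (0 : Fin 3).val = zM⁻¹ := by decide +kernel

theorem nine_inj : ∀ x y : Fin 3 × Fin 3, zM ^ x.1.val * uM ^ x.2.val = zM ^ y.1.val * uM ^ y.2.val → x = y := by
  decide +kernel

theorem zM_ne : zM ≠ zM⁻¹ ∧ uM ≠ 1 ∧ zM * uM ≠ zM ∧ zM * uM⁻¹ ≠ zM := by decide +kernel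

theorem aM_spec : aM * zM * aM⁻¹ = zM ∧ aM * uM * aM⁻¹ = uM⁻¹ := by decide +kernel

theorem aM_conj : ∀ i j : Fin 3, aM * (zM ^ i.val * uM ^ j.val) * aM⁻¹ = zM ^ i.val * uM ^ (-j).val := by decide +kernel

theorem tM_conj : ∀ i j : Fin 3, tM * (zM ^ i.val * uM ^ j.val) * tM⁻¹ = zM ^ (-i).val * uM ^ j.val := by decide +kernel

theorem pow_c034_ne : ∀ j : Fin 3, j ≠ 0 → (1 : Perm (Fin 5)) ≠ c034 ^ j.val := by decide +kernel

theorem tM_spec : tM * zM * tM⁻¹ = zM⁻¹ ∧ tM * uM * tM⁻¹ = uM := by decide +kernel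

theorem zu_pow : zM ^ 3 = 1 ∧ uM ^ 3 = 1 ∧ zM * uM = uM * zM := by decide +kernel

theorem exists_adjust : ∀ p : Perm (Fin 3), p ^ 3 = 1 → p ≠ 1 → ∃ n : M35, n.1.1 * c3 * n.1.1⁻¹ = p := by
  intro p hp hp1
  rcases order_three_cases p hp with e | e | e
  · exact absurd e hp1
  · exact ⟨1, by simp [e]⟩
  · exact ⟨tM, by rw [e]; decide +kernel⟩

theorem count_bound {S : Set M35}
    (hS : ∀ m ∈ S, m.1.2 * c034 * m.1.2⁻¹ = c034 ∨ m.1.2 * c034 * m.1.2⁻¹ = c034⁻¹) : Nat.card S ≤ 36 := by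
  let f : S → Fin 3 × {q : Perm (Fin 5) // q * c034 * q⁻¹ = c034 ∨ q * c034 * q⁻¹ = c034⁻¹} :=
    fun m => (m.1.1.1 0, ⟨m.1.1.2, hS m.1 m.2⟩)
  have hf : Function.Injective f := by
    intro m n e
    have e1 : m.1.1.1 0 = n.1.1.1 0 := congrArg Prod.fst e
    have e2 : m.1.1.2 = n.1.1.2 := congrArg (fun t => t.2.1) e
    refine Subtype.ext (Subtype.ext (Prod.ext (three_det _ _ ?_ e1) e2))
    rw [M35.sign_eq, M35.sign_eq, e2]
  have := Nat.card_le_card_of_injective f hf
  rwa [Nat.card_prod, Nat.card_eq_fintype_card (α := {q : Perm (Fin 5) // _}), norm_c034_card, Nat.card_fin] at this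

theorem exists_ι {z : G} (eL : Subgroup.normalizer (Subgroup.zpowers z : Set G) ≃* M35) (hz1 : z ≠ 1)
    (hz3 : z ^ 3 = 1) : ∃ ι : M35 →* G, Function.Injective ι ∧ ι zM = z ∧
      ∀ g : G, g ∈ Subgroup.normalizer (Subgroup.zpowers z : Set G) → ∃ m, ι m = g := by
  have hzN : z ∈ Subgroup.normalizer (Subgroup.zpowers z : Set G) := mem_normalizer_zpowers (Or.inl (by group))
  set m₀ := eL ⟨z, hzN⟩ with hm₀
  have h3 : m₀ ^ 3 = 1 := by rw [hm₀, ← map_pow, show (⟨z, hzN⟩ : Subgroup.normalizer (Subgroup.zpowers z : Set G)) ^ 3 = 1 from Subtype.ext hz3, map_one]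
  have h1 : m₀ ≠ 1 := fun e => hz1 (congrArg Subtype.val ((map_eq_one_iff eL eL.injective).1 e))
  have hnorm : ∀ n : M35, n * m₀ * n⁻¹ = m₀ ∨ n * m₀ * n⁻¹ = m₀⁻¹ := by
    intro n
    have hw : ((eL.symm n : Subgroup.normalizer (Subgroup.zpowers z : Set G)) : G) * z *
        ((eL.symm n : Subgroup.normalizer (Subgroup.zpowers z : Set G)) : G)⁻¹ ∈ Subgroup.zpowers z :=
      (Subgroup.mem_normalizer_iff.1 (eL.symm n).2 z).1 (Subgroup.mem_zpowers z)
    obtain ⟨k, hk⟩ := Subgroup.mem_zpowers_iff.1 hw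
    have hc : z ^ (k % 3) = z ^ k := by
      conv_rhs => rw [← Int.emod_add_mul_ediv k 3, zpow_add, zpow_mul,
        show z ^ (3 : ℤ) = 1 from by rw [show (3 : ℤ) = ((3 : ℕ) : ℤ) from rfl, zpow_natCast, hz3],
        one_zpow, mul_one]
    rw [← hc] at hk
    have hex : eL (eL.symm n * ⟨z, hzN⟩ * (eL.symm n)⁻¹) = n * m₀ * n⁻¹ := by
      rw [map_mul, map_mul, map_inv, MulEquiv.apply_symm_apply]
    have hne : n * m₀ * n⁻¹ ≠ 1 := fun e => h1 (conj_eq_one_iff.1 e)
    obtain h | h | h : k % 3 = 0 ∨ k % 3 = 1 ∨ k % 3 = 2 := by omega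
    · refine absurd (hex ▸ ?_) hne
      rw [show eL.symm n * ⟨z, hzN⟩ * (eL.symm n)⁻¹ = 1 from Subtype.ext (by rw [h, zpow_zero] at hk; exact hk.symm),
        map_one]
    · left
      rw [← hex, show eL.symm n * ⟨z, hzN⟩ * (eL.symm n)⁻¹ = ⟨z, hzN⟩ from
        Subtype.ext (by rw [h, zpow_one] at hk; exact hk.symm)]
    · right
      rw [← hex, hm₀, show eL.symm n * ⟨z, hzN⟩ * (eL.symm n)⁻¹ = ⟨z, hzN⟩⁻¹ from Subtype.ext (by
        rw [h] at hk
        rw [Subgroup.coe_inv]
        refine hk.symm.trans ?_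
        rw [eq_inv_iff_mul_eq_one, show (2 : ℤ) = ((2 : ℕ) : ℤ) from rfl, zpow_natCast, ← pow_succ, hz3]), map_inv]
  have hq : m₀.1.2 = 1 := by
    have h3' : m₀.1.2 ^ 3 = 1 := congrArg (fun m : M35 => m.1.2) h3
    refine center_five _ h3' ?_ ?_
    · rcases hnorm (el 1 c123) with e | e
      · exact Or.inl (congrArg (fun m : M35 => m.1.2) e)
      · exact Or.inr (congrArg (fun m : M35 => m.1.2) e)
    · rcases hnorm (el 1 c034) with e | e
      · exact Or.inl (congrArg (fun m : M35 => m.1.2) e)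
      · exact Or.inr (congrArg (fun m : M35 => m.1.2) e)
  have hp : m₀.1.1 ≠ 1 := fun e => h1 (Subtype.ext (Prod.ext e hq))
  obtain ⟨n, hn⟩ := exists_adjust _ (congrArg (fun m : M35 => m.1.1) h3) hp
  have hn' : n * zM * n⁻¹ = m₀ := Subtype.ext (Prod.ext hn (by
    show n.1.2 * 1 * n.1.2⁻¹ = m₀.1.2
    rw [hq, mul_one, mul_inv_cancel]))
  refine ⟨((Subgroup.normalizer (Subgroup.zpowers z : Set G)).subtype.comp eL.symm.toMonoidHom).comp
    (MulAut.conj n).toMonoidHom, ?_, ?_, ?_⟩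
  · exact (Subtype.val_injective.comp eL.symm.injective).comp (MulAut.conj n).injective
  · show ((eL.symm (n * zM * n⁻¹) : _) : G) = z
    rw [hn', hm₀, MulEquiv.symm_apply_apply]
  · intro g hg
    refine ⟨n⁻¹ * eL ⟨g, hg⟩ * n, ?_⟩
    show ((eL.symm (n * (n⁻¹ * eL ⟨g, hg⟩ * n) * n⁻¹) : _) : G) = g
    rw [show n * (n⁻¹ * eL ⟨g, hg⟩ * n) * n⁻¹ = eL ⟨g, hg⟩ by group, MulEquiv.symm_apply_apply]

variable [Finite G]

/-- The hypotheses give the local data. -/
theorem exists_loc {D : Subgroup G} {y z : G} (hyD : y ∈ D) (hzD : z ∈ D) (hcomm : IsMulCommutative D)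
    (hcard : Nat.card D = 9) (hexp : ∀ a ∈ D, a ^ 3 = 1) (hC : Subgroup.centralizer (D : Set G) = D)
    (hND : Nat.card (Subgroup.normalizer (D : Set G)) = 72) (hnd : ¬ 27 ∣ Nat.card G)
    (hycard : Nat.card (Subgroup.centralizer ({y} : Set G)) = 18)
    (hzcard : Nat.card (Subgroup.centralizer ({z} : Set G)) = 180)
    (eL : Subgroup.normalizer (Subgroup.zpowers z : Set G) ≃* M35) : Nonempty (Loc G) := by
  have hbig : 180 ≤ Nat.card G := hzcard ▸ Subgroup.card_le_card_group _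
  have htop : Nat.card (Subgroup.centralizer ({(1 : G)} : Set G)) = Nat.card G := by
    rw [show Subgroup.centralizer ({(1 : G)} : Set G) = ⊤ from
      eq_top_iff.2 fun w _ => Subgroup.mem_centralizer_singleton_iff.2 (by simp), Subgroup.card_top]
  have hz1 : z ≠ 1 := by
    intro e
    obtain ⟨w, hwD, hw⟩ : ∃ w ∈ D, w ≠ 1 := by
      by_contra h
      push Not at h
      have : D = ⊥ := (Subgroup.eq_bot_iff_forall D).2 h
      rw [this, Subgroup.card_bot] at hcard
      norm_num at hcard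
    have hwC : ∀ g : G, g ∈ Subgroup.normalizer (Subgroup.zpowers z : Set G) := fun g =>
      mem_normalizer_zpowers (Or.inl (by rw [e]; group))
    have h1 : Nat.card (Subgroup.centralizer ({z} : Set G)) = Nat.card G := by rw [e, htop]
    have h2 : Nat.card (Subgroup.normalizer (Subgroup.zpowers z : Set G)) = Nat.card G := by
      rw [show Subgroup.normalizer (Subgroup.zpowers z : Set G) = ⊤ from eq_top_iff.2 fun g _ => hwC g,
        Subgroup.card_top]
    have h3 : Nat.card M35 = 180 := by rw [← Nat.card_congr eL.toEquiv, h2, ← h1, hzcard]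
    have h4 : Nat.card M35 = 360 := by
      have hr : sgn35.range = ⊤ := MonoidHom.range_eq_top.2 fun e => by
        rcases Int.units_eq_one_or e with rfl | rfl
        · exact ⟨1, map_one _⟩
        · exact ⟨(swap 0 1, 1), by decide +kernel⟩
      have h := M35.card_mul_index
      rw [Subgroup.index_ker, hr, Subgroup.card_top, Nat.card_prod, Nat.card_perm, Nat.card_perm, Nat.card_fin,
        Nat.card_fin, Nat.card_eq_fintype_card (α := ℤˣ), Fintype.card_units_int] at h
      rw [show Nat.factorial 3 = 6 from rfl, show Nat.factorial 5 = 120 from rfl] at h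
      omega
    omega
  obtain ⟨ι₀, hinj₀, hz₀, hcov₀⟩ := exists_ι eL hz1 (hexp z hzD)
  -- an element of the second factor in `D`
  obtain ⟨d, hdD, hd⟩ : ∃ d ∈ D, d ∉ Subgroup.zpowers z := by
    by_contra h
    push Not at h
    have h1 := Subgroup.card_dvd_of_le (show D ≤ Subgroup.zpowers z from h)
    rw [hcard, Nat.card_zpowers] at h1
    have := Nat.le_of_dvd (orderOf_pos z) h1
    have := orderOf_le_of_pow_eq_one (by norm_num) (hexp z hzD)
    omega
  have hdz : Commute d z :=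
    congrArg Subtype.val (hcomm.is_comm.comm (⟨d, hdD⟩ : D) (⟨z, hzD⟩ : D))
  obtain ⟨m, rfl⟩ := hcov₀ d (mem_normalizer_zpowers (Or.inl (by rw [hdz.eq]; group)))
  have hm3 : m ^ 3 = 1 := hinj₀ (by rw [map_pow, hexp _ hdD, map_one])
  have hmc : m.1.1 * c3 = c3 * m.1.1 := congrArg (fun w : M35 => w.1.1) (hinj₀ (by
    rw [map_mul, map_mul, hz₀]; exact hdz.eq) : m * zM = zM * m)
  have hr3 : m.1.2 ^ 3 = 1 := congrArg (fun w : M35 => w.1.2) hm3
  have hr1 : m.1.2 ≠ 1 := by
    intro e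
    refine hd ?_
    have hm : m = 1 ∨ m = zM ∨ m = zM⁻¹ := by
      rcases (cent_c3 _ hmc).2 with e' | e' | e'
      · exact Or.inl (Subtype.ext (Prod.ext e' e))
      · exact Or.inr (Or.inl (Subtype.ext (Prod.ext e' e)))
      · exact Or.inr (Or.inr (Subtype.ext (Prod.ext e' (e.trans inv_one.symm))))
    rcases hm with e' | e' | e' <;> subst e'
    · rw [map_one]; exact one_mem _
    · rw [hz₀]; exact Subgroup.mem_zpowers z
    · rw [map_inv, hz₀]; exact inv_mem (Subgroup.mem_zpowers z)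
  obtain ⟨h, hhs, hh⟩ := three_conj _ hr3 hr1
  set n : M35 := el 1 h (by rw [hhs, map_one]) with hn
  set ι : M35 →* G := ι₀.comp (MulAut.conj n).toMonoidHom with hι
  have hinj : Function.Injective ι := hinj₀.comp (MulAut.conj n).injective
  have hzι : ι zM = z := by
    rw [← hz₀]
    show ι₀ (n * zM * n⁻¹) = ι₀ zM
    exact congrArg ι₀ (Subtype.ext (Prod.ext (by show 1 * c3 * 1⁻¹ = c3; simp)
      (by show h * 1 * h⁻¹ = 1; simp)))
  have hmι : ∃ i : Fin 3, ι (zM ^ i.val * uM) = ι₀ m := by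
    have hconj : ∀ i : Fin 3, n * (zM ^ i.val * uM) * n⁻¹ = m ↔ (c3 ^ i.val = m.1.1) := fun i => by
      constructor
      · intro e
        have := congrArg (fun w : M35 => w.1.1) e
        simpa [n, el, zM, uM] using this
      · intro e
        refine Subtype.ext (Prod.ext ?_ ?_)
        · simpa [n, el, zM, uM] using e
        · show h * (1 ^ i.val * c034) * h⁻¹ = m.1.2
          rw [one_pow, one_mul, mul_inv_eq_iff_eq_mul]
          exact hh
    rcases (cent_c3 _ hmc).2 with e | e | e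
    · exact ⟨0, congrArg ι₀ ((hconj 0).2 (by rw [e]; rfl))⟩
    · exact ⟨1, congrArg ι₀ ((hconj 1).2 (by rw [e]; rfl))⟩
    · exact ⟨2, congrArg ι₀ ((hconj 2).2 (by rw [e]; decide))⟩
  have huD : ι uM ∈ D := by
    obtain ⟨i, hi⟩ := hmι
    rw [map_mul, map_pow, hzι] at hi
    have : ι uM = (z ^ i.val)⁻¹ * ι₀ m := by rw [← hi]; group
    rw [this]
    exact mul_mem (inv_mem (pow_mem hzD _)) hdD
  have hgen : ∀ i j : Fin 3, ι (zM ^ i.val * uM ^ j.val) ∈ D := fun i j => by
    rw [map_mul, map_pow, map_pow, hzι]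
    exact mul_mem (pow_mem hzD _) (pow_mem huD _)
  have hmem : ∀ g : G, g ∈ D ↔ ∃ i j : Fin 3, g = ι (zM ^ i.val * uM ^ j.val) := by
    let f : Fin 3 × Fin 3 → D := fun x => ⟨_, hgen x.1 x.2⟩
    have hf : Function.Bijective f := (Nat.bijective_iff_injective_and_card f).2
      ⟨fun x y e => nine_inj x y (hinj (congrArg Subtype.val e)), by
        rw [hcard, Nat.card_prod, Nat.card_fin]⟩
    refine fun g => ⟨fun hg => ?_, ?_⟩
    · obtain ⟨x, hx⟩ := hf.2 ⟨g, hg⟩
      exact ⟨x.1, x.2, (congrArg Subtype.val hx).symm⟩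
    · rintro ⟨i, j, rfl⟩; exact hgen i j
  have hcov : ∀ g : G, g * ι zM * g⁻¹ = ι zM ∨ g * ι zM * g⁻¹ = (ι zM)⁻¹ → ∃ w, ι w = g := by
    intro g hg
    obtain ⟨w, rfl⟩ := hcov₀ g (mem_normalizer_zpowers (by rwa [hzι] at hg))
    exact ⟨n⁻¹ * w * n, congrArg ι₀ (by show n * (n⁻¹ * w * n) * n⁻¹ = w; group)⟩
  subst hzι
  -- some element of the normalizer moves the line of `z`
  obtain ⟨g, hgN, hg⟩ : ∃ g ∈ Subgroup.normalizer (D : Set G),
      ¬ (g * ι zM * g⁻¹ = ι zM ∨ g * ι zM * g⁻¹ = (ι zM)⁻¹) := by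
    by_contra hcon
    push Not at hcon
    have hsub : Nat.card (Subgroup.normalizer (D : Set G)) ≤
        Nat.card {w : M35 | w.1.2 * c034 * w.1.2⁻¹ = c034 ∨ w.1.2 * c034 * w.1.2⁻¹ = c034⁻¹} := by
      let S := {w : M35 | w.1.2 * c034 * w.1.2⁻¹ = c034 ∨ w.1.2 * c034 * w.1.2⁻¹ = c034⁻¹}
      have hex : ∀ x : Subgroup.normalizer (D : Set G), ∃ w : S, ι w.1 = x.1 := by
        intro x
        obtain ⟨w, hw⟩ := hcov x.1 (by
          by_cases e : x.1 * ι zM * x.1⁻¹ = ι zM
          · exact Or.inl e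
          · exact Or.inr ((hcon x.1 x.2).resolve_left e))
        have hxu : x.1 * ι uM * x.1⁻¹ ∈ D := (Subgroup.mem_normalizer_iff.1 x.2 _).1 huD
        obtain ⟨i, j, hij⟩ := (hmem _).1 hxu
        rw [← hw, ← map_inv, ← map_mul, ← map_mul] at hij
        have e2 : w.1.2 * c034 * w.1.2⁻¹ = (1 : Perm (Fin 5)) ^ i.val * c034 ^ j.val :=
          congrArg (fun t : M35 => t.1.2) (hinj hij)
        refine ⟨⟨w, ?_⟩, hw⟩
        rw [one_pow, one_mul] at e2
        fin_cases j
        · exact absurd e2 (by simp [conj_eq_one_iff]; decide)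
        · exact Or.inl (e2.trans (pow_one _))
        · exact Or.inr (e2.trans (by decide))
      choose F hF using hex
      exact Nat.card_le_card_of_injective F fun x x' e => Subtype.ext (by rw [← hF x, ← hF x', e])
    have := count_bound (S := {w : M35 | w.1.2 * c034 * w.1.2⁻¹ = c034 ∨ w.1.2 * c034 * w.1.2⁻¹ = c034⁻¹})
      fun _ h => h
    omega
  have hwD : g * ι zM * g⁻¹ ∈ D := (Subgroup.mem_normalizer_iff.1 hgN _).1 hzD
  obtain ⟨i, j, hij⟩ := (hmem _).1 hwD
  have hj : j ≠ 0 := by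
    intro e
    subst e
    rcases nine_zero i with e | e | e
    · rw [e, map_one, conj_eq_one_iff] at hij; exact hz1 hij
    · rw [e] at hij; exact hg (Or.inl hij)
    · rw [e, map_inv] at hij; exact hg (Or.inr hij)
  have hn_zu : ι aM * ι (zM * uM) * (ι aM)⁻¹ = ι (zM * uM⁻¹) ∧
      ι aM * ι (zM⁻¹ * uM) * (ι aM)⁻¹ = ι (zM⁻¹ * uM⁻¹) ∧ ι tM * ι (zM * uM) * (ι tM)⁻¹ = ι (zM⁻¹ * uM) := by
    simp only [← map_inv, ← map_mul]
    exact ⟨congrArg ι (by decide +kernel), congrArg ι (by decide +kernel), congrArg ι (by decide +kernel)⟩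
  have hdiag : ∀ e : Fin 3 × Fin 3, e.1 ≠ 0 → e.2 ≠ 0 →
      Nat.card (Subgroup.centralizer ({ι (zM ^ e.1.val * uM ^ e.2.val)} : Set G)) =
        Nat.card (Subgroup.centralizer ({ι (zM * uM)} : Set G)) := by
    intro e he1 he2
    have hv : ∀ w, w = zM * uM ∨ w = zM⁻¹ * uM ∨ w = zM * uM⁻¹ ∨ w = zM⁻¹ * uM⁻¹ →
        Nat.card (Subgroup.centralizer ({ι w} : Set G)) = Nat.card (Subgroup.centralizer ({ι (zM * uM)} : Set G)) := by
      rintro w (rfl | rfl | rfl | rfl)
      · rfl
      · rw [← hn_zu.2.2, card_cent_conj]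
      · rw [← hn_zu.1, card_cent_conj]
      · rw [← hn_zu.2.1, card_cent_conj, ← hn_zu.2.2, card_cent_conj]
    rcases nine_cases e.1 e.2 he2 with ⟨h0, -⟩ | (h | h) | (h | h)
    · exact absurd h0 he1
    · exact hv _ (Or.inl h)
    · exact hv _ (Or.inr (Or.inl h))
    · exact hv _ (Or.inr (Or.inr (Or.inl h)))
    · exact hv _ (Or.inr (Or.inr (Or.inr h)))
  -- the position of `y`
  obtain ⟨k, l, hy⟩ := (hmem y).1 hyD
  have hl : l ≠ 0 := by
    intro e
    subst e
    rcases nine_zero k with e | e | e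
    · rw [e, map_one] at hy; rw [hy, htop] at hycard; omega
    · rw [e] at hy; rw [hy, hzcard] at hycard; omega
    · rw [e, map_inv] at hy; rw [hy, card_cent_inv, hzcard] at hycard; omega
  have hiZ : i = 0 := by
    by_contra hi0
    have hzu : Nat.card (Subgroup.centralizer ({ι (zM * uM)} : Set G)) = 180 := by
      rw [← hdiag (i, j) hi0 hj, ← hij, card_cent_conj, hzcard]
    have hk : k = 0 := by
      by_contra hk
      rw [hy, hdiag (k, l) hk hl, hzu] at hycard; omega
    have hu18 : Nat.card (Subgroup.centralizer ({ι uM} : Set G)) = 18 := by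
      rcases nine_cases k l hl with ⟨-, e | e⟩ | (e | e) | (e | e)
      · rwa [hy, e] at hycard
      · rwa [hy, e, map_inv, card_cent_inv] at hycard
      all_goals
        exfalso
        subst hk
        have := congrArg (fun t : M35 => t.1.1) e
        simp [zM, uM, el] at this
        revert this; decide
    have huD' : g * ι uM * g⁻¹ ∈ D := (Subgroup.mem_normalizer_iff.1 hgN _).1 huD
    obtain ⟨i', j', hij'⟩ := (hmem _).1 huD'
    have hgu : g * ι uM * g⁻¹ = ι uM ∨ g * ι uM * g⁻¹ = (ι uM)⁻¹ := by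
      have hc : Nat.card (Subgroup.centralizer ({ι (zM ^ i'.val * uM ^ j'.val)} : Set G)) = 18 := by
        rw [← hij', card_cent_conj, hu18]
      by_cases hj' : j' = 0
      · subst hj'
        rcases nine_zero i' with e | e | e
        · rw [e, map_one, htop] at hc; omega
        · rw [e, hzcard] at hc; omega
        · rw [e, map_inv, card_cent_inv, hzcard] at hc; omega
      by_cases hi' : i' = 0
      · rcases nine_cases i' j' hj' with ⟨-, e | e⟩ | hrest
        · exact Or.inl (by rw [hij', e])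
        · exact Or.inr (by rw [hij', e, map_inv])
        · exfalso
          subst hi'
          rcases hrest with (e | e) | (e | e) <;>
            · have := congrArg (fun t : M35 => t.1.1) e
              simp [zM, uM, el] at this
              revert this; decide
      · rw [hdiag (i', j') hi' hj', hzu] at hc; omega
    -- make `g` fix `u` and `z` modulo `u`
    obtain ⟨g₁, hg₁N, hg₁u, hg₁z⟩ : ∃ g₁ ∈ Subgroup.normalizer (D : Set G), g₁ * ι uM * g₁⁻¹ = ι uM ∧
        ∃ j₁ : Fin 3, j₁ ≠ 0 ∧ g₁ * ι zM * g₁⁻¹ = ι (zM ^ i.val * uM ^ j₁.val) := by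
      rcases hgu with e | e
      · exact ⟨g, hgN, e, j, hj, hij⟩
      · refine ⟨ι aM * g, mul_mem ?_ hgN, ?_, -j, neg_ne_zero.2 hj, ?_⟩
        · rw [Subgroup.mem_normalizer_iff]
          have hA : ∀ x ∈ D, ι aM * x * (ι aM)⁻¹ ∈ D := by
            intro x hx
            obtain ⟨i₂, j₂, rfl⟩ := (hmem x).1 hx
            refine (hmem _).2 ⟨i₂, -j₂, ?_⟩
            rw [← map_inv, ← map_mul, ← map_mul]
            exact congrArg ι (aM_conj i₂ j₂)
          refine fun x => ⟨hA x, fun hx => ?_⟩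
          have := hA _ (hA _ (hA _ hx))
          have ha2 : ι aM * ι aM = 1 := by rw [← map_mul, ← map_one ι]; exact congrArg ι (by decide +kernel)
          have hai : (ι aM)⁻¹ = ι aM := inv_eq_of_mul_eq_one_right ha2
          simp only [hai, mul_assoc] at this
          simp only [ha2, mul_one, ← mul_assoc, one_mul] at this
          exact this
        · calc ι aM * g * ι uM * (ι aM * g)⁻¹ = ι aM * (g * ι uM * g⁻¹) * (ι aM)⁻¹ := by group
            _ = ι (aM * uM⁻¹ * aM⁻¹) := by rw [e, map_mul, map_mul, map_inv, map_inv]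
            _ = ι uM := congrArg ι (by decide +kernel)
        · calc ι aM * g * ι zM * (ι aM * g)⁻¹ = ι aM * (g * ι zM * g⁻¹) * (ι aM)⁻¹ := by group
            _ = ι (aM * (zM ^ i.val * uM ^ j.val) * aM⁻¹) := by simp only [hij, map_mul, map_inv]
            _ = _ := congrArg ι (aM_conj i j)
    obtain ⟨j₁, hj₁, hg₁z⟩ := hg₁z
    obtain ⟨g₂, hg₂N, hg₂u, hg₂z⟩ : ∃ g₂ ∈ Subgroup.normalizer (D : Set G), g₂ * ι uM * g₂⁻¹ = ι uM ∧
        g₂ * ι zM * g₂⁻¹ = ι zM * ι (uM ^ j₁.val) := by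
      by_cases h1 : i = 1
      · refine ⟨g₁, hg₁N, hg₁u, ?_⟩
        subst h1
        rw [hg₁z, map_mul, Fin.val_one, pow_one]
      · refine ⟨ι tM * g₁, mul_mem ?_ hg₁N, ?_, ?_⟩
        · rw [Subgroup.mem_normalizer_iff]
          have hA : ∀ x ∈ D, ι tM * x * (ι tM)⁻¹ ∈ D := by
            intro x hx
            obtain ⟨i₂, j₂, rfl⟩ := (hmem x).1 hx
            refine (hmem _).2 ⟨-i₂, j₂, ?_⟩
            rw [← map_inv, ← map_mul, ← map_mul]
            exact congrArg ι (tM_conj i₂ j₂)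
          refine fun x => ⟨hA x, fun hx => ?_⟩
          have := hA _ (hA _ (hA _ hx))
          have ha2 : ι tM * ι tM = 1 := by rw [← map_mul, ← map_one ι]; exact congrArg ι (by decide +kernel)
          have hai : (ι tM)⁻¹ = ι tM := inv_eq_of_mul_eq_one_right ha2
          simp only [hai, mul_assoc] at this
          simp only [ha2, mul_one, ← mul_assoc, one_mul] at this
          exact this
        · calc ι tM * g₁ * ι uM * (ι tM * g₁)⁻¹ = ι tM * (g₁ * ι uM * g₁⁻¹) * (ι tM)⁻¹ := by group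
            _ = ι (tM * uM * tM⁻¹) := by rw [hg₁u, map_mul, map_mul, map_inv]
            _ = ι uM := congrArg ι tM_spec.2
        · calc ι tM * g₁ * ι zM * (ι tM * g₁)⁻¹ = ι tM * (g₁ * ι zM * g₁⁻¹) * (ι tM)⁻¹ := by group
            _ = ι (tM * (zM ^ i.val * uM ^ j₁.val) * tM⁻¹) := by simp only [hg₁z, map_mul, map_inv]
            _ = ι (zM * uM ^ j₁.val) := congrArg ι (by
                have h2 : -i = 1 := by revert h1 hi0; clear * - ; revert i; decide
                rw [tM_conj, h2, Fin.val_one, pow_one])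
            _ = _ := map_mul _ _ _
    have hy3 : ι (uM ^ j₁.val) ^ 3 = 1 := by
      rw [← map_pow, ← pow_mul, mul_comm, pow_mul, zu_pow.2.1, one_pow, map_one]
    have huj : g₂ * ι (uM ^ j₁.val) * g₂⁻¹ = ι (uM ^ j₁.val) := by
      rw [map_pow, ← conj_pow, hg₂u]
    have e1 := conj_pow_three hg₂z huj hy3
    have e2 : g₂ ^ 3 * ι uM * (g₂ ^ 3)⁻¹ = ι uM := by
      have hc : Commute g₂ (ι uM) := mul_inv_eq_iff_eq_mul.1 hg₂u
      rw [(hc.pow_left 3).eq, mul_inv_cancel_right]
    have h3D : g₂ ^ 3 ∈ D := by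
      rw [← hC, Subgroup.mem_centralizer_iff]
      intro x hx
      obtain ⟨i₂, j₂, rfl⟩ := (hmem x).1 hx
      rw [map_mul, map_pow, map_pow]
      exact (Commute.mul_left (Commute.pow_left (mul_inv_eq_iff_eq_mul.1 e1).symm _)
        (Commute.pow_left (mul_inv_eq_iff_eq_mul.1 e2).symm _))
    have h8D : g₂ ^ 8 ∈ D := by
      haveI : (D.subgroupOf (Subgroup.normalizer (D : Set G))).Normal := Subgroup.normal_in_normalizer
      have hq : Nat.card (Subgroup.normalizer (D : Set G) ⧸ D.subgroupOf (Subgroup.normalizer (D : Set G))) = 8 := by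
        have h := Subgroup.card_eq_card_quotient_mul_card_subgroup (D.subgroupOf (Subgroup.normalizer (D : Set G)))
        rw [hND, Nat.card_congr (Subgroup.subgroupOfEquivOfLe Subgroup.le_normalizer).toEquiv, hcard] at h
        omega
      have h := pow_card_eq_one' (x := (QuotientGroup.mk ⟨g₂, hg₂N⟩ :
        Subgroup.normalizer (D : Set G) ⧸ D.subgroupOf (Subgroup.normalizer (D : Set G))))
      rw [hq, ← QuotientGroup.mk_pow, QuotientGroup.eq_one_iff] at h
      exact h
    have hg₂D : g₂ ∈ D := by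
      have : g₂ = (g₂ ^ 3) ^ 3 * (g₂ ^ 8)⁻¹ := by group
      rw [this]; exact mul_mem (pow_mem h3D _) (inv_mem h8D)
    have hfix : g₂ * ι zM * g₂⁻¹ = ι zM := by
      rw [show g₂ * ι zM = ι zM * g₂ from
        congrArg Subtype.val (hcomm.is_comm.comm (⟨g₂, hg₂D⟩ : D) (⟨ι zM, hzD⟩ : D)), mul_inv_cancel_right]
    rw [hfix, ← map_mul] at hg₂z
    have e3 : (1 : Perm (Fin 5)) = 1 * c034 ^ j₁.val := congrArg (fun t : M35 => t.1.2) (hinj hg₂z)
    rw [one_mul] at e3
    exact pow_c034_ne j₁ hj₁ e3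
  subst hiZ
  have hconjU : ∃ g' : G, g' * ι zM * g'⁻¹ = ι uM := by
    rcases nine_cases 0 j hj with ⟨-, e | e⟩ | (e | e) | (e | e)
    · exact ⟨g, by rw [hij, e]⟩
    · refine ⟨ι aM * g, ?_⟩
      calc ι aM * g * ι zM * (ι aM * g)⁻¹ = ι aM * (g * ι zM * g⁻¹) * (ι aM)⁻¹ := by group
        _ = ι (aM * uM⁻¹ * aM⁻¹) := by rw [hij, e, map_mul, map_mul, map_inv, map_inv]
        _ = ι uM := congrArg ι (by decide +kernel)
    all_goals
      exfalso
      have := congrArg (fun t : M35 => t.1.1) e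
      simp [zM, uM, el] at this
      revert this; decide
  have h18 : Nat.card (Subgroup.centralizer ({ι zM * ι uM} : Set G)) = 18 := by
    rw [← map_mul]
    by_cases hk : k = 0
    · exfalso
      obtain ⟨g', hg'⟩ := hconjU
      rcases nine_cases k l hl with ⟨-, e | e⟩ | (e | e) | (e | e)
      · rw [hy, e, ← hg', card_cent_conj, hzcard] at hycard; omega
      · rw [hy, e, map_inv, card_cent_inv, ← hg', card_cent_conj, hzcard] at hycard; omega
      all_goals
        subst hk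
        have := congrArg (fun t : M35 => t.1.1) e
        simp [zM, uM, el] at this
        revert this; decide
    · rw [← hdiag (k, l) hk hl, ← hy]; exact hycard
  exact ⟨⟨ι, hinj, hcov, D, hmem, hcard, hnd, hC, hND, hconjU, h18, hzcard⟩⟩

end CfsgLib.A8ThreeLocal
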