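import Mathlib

/-!
Finite checks in the symmetric groups of degrees three and five, and in their sign-matched product.
-/

set_option autoImplicit false
set_option maxRecDepth 8000

namespace CfsgLib.A8ThreeLocal

open Equiv Equiv.Perm

/-- The product of the signs. -/
abbrev sgn35 : Perm (Fin 3) × Perm (Fin 5) →* ℤˣ :=
  ((Equiv.Perm.sign).comp (MonoidHom.fst (Perm (Fin 3)) (Perm (Fin 5)))) *
    ((Equiv.Perm.sign).comp (MonoidHom.snd (Perm (Fin 3)) (Perm (Fin 5))))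

/-- The pairs of permutations whose signs agree. -/
abbrev M35 : Subgroup (Perm (Fin 3) × Perm (Fin 5)) := sgn35.ker

theorem mem_M35 {m : Perm (Fin 3) × Perm (Fin 5)} : m ∈ M35 ↔ sign m.1 * sign m.2 = 1 := Iff.rfl

theorem mem_M35' {m : Perm (Fin 3) × Perm (Fin 5)} : m ∈ M35 ↔ sign m.1 = sign m.2 := by
  rw [mem_M35]
  rcases Int.units_eq_one_or (sign m.1) with h | h <;> rcases Int.units_eq_one_or (sign m.2) with h' | h' <;>
    simp [h, h']

theorem M35.sign_eq (m : M35) : sign m.1.1 = sign m.1.2 := mem_M35'.1 m.2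

/-- An element of the sign-matched product. -/
def el (p : Perm (Fin 3)) (q : Perm (Fin 5)) (h : sign p = sign q := by decide) : M35 :=
  ⟨(p, q), mem_M35'.2 h⟩

/-- `(0 1 2)` -/
abbrev c3 : Perm (Fin 3) := swap 0 2 * swap 0 1
/-- `(0 3 4)` -/
abbrev c034 : Perm (Fin 5) := swap 0 4 * swap 0 3
/-- `(2 3 4)` -/
abbrev c234 : Perm (Fin 5) := swap 2 4 * swap 2 3
/-- `(1 2 3)` -/
abbrev c123 : Perm (Fin 5) := swap 1 3 * swap 1 2
/-- `(1 2)(3 4)` -/
abbrev a5 : Perm (Fin 5) := swap 1 2 * swap 3 4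
/-- `(1 3)(2 4)` -/
abbrev b5 : Perm (Fin 5) := swap 1 3 * swap 2 4

/-- `((0 1 2), 1)` -/
def zM : M35 := el c3 1
/-- `(1, (0 3 4))` -/
def uM : M35 := el 1 c034
/-- `(1, (1 2)(3 4))` -/
def aM : M35 := el 1 a5
/-- `(1, (1 3)(2 4))` -/
def bM : M35 := el 1 b5
/-- `((0 1), (1 2))` -/
def tM : M35 := el (swap 0 1) (swap 1 2)
/-- `((0 1), (i i+1))` -/
def gM (k : Fin 4) : M35 := el (swap 0 1) (swap k.castSucc k.succ) (by revert k; decide)

theorem cent_c3 : ∀ p : Perm (Fin 3), p * c3 = c3 * p → sign p = 1 ∧ (p = 1 ∨ p = c3 ∨ p = c3⁻¹) := by decide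

theorem even_three : ∀ p : Perm (Fin 3), sign p = 1 → (p = 1 ∨ p = c3 ∨ p = c3⁻¹) := by decide

theorem odd_three : ∀ p : Perm (Fin 3), sign p = -1 → p * c3 * p⁻¹ = c3⁻¹ := by decide

theorem norm_c3 : ∀ p : Perm (Fin 3), p * c3 * p⁻¹ = c3 ∨ p * c3 * p⁻¹ = c3⁻¹ := by decide

theorem even_three_invol : ∀ p : Perm (Fin 3), sign p = 1 → p * p = 1 → p = 1 := by decide

theorem three_det : ∀ p p' : Perm (Fin 3), sign p = sign p' → p 0 = p' 0 → p = p' := by decide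

theorem order_three_cases : ∀ p : Perm (Fin 3), p ^ 3 = 1 → p = 1 ∨ p = c3 ∨ p = c3⁻¹ := by decide

theorem center_five : ∀ q : Perm (Fin 5), q ^ 3 = 1 →
    (c123 * q * c123⁻¹ = q ∨ c123 * q * c123⁻¹ = q⁻¹) →
    (c034 * q * c034⁻¹ = q ∨ c034 * q * c034⁻¹ = q⁻¹) → q = 1 := by decide +kernel

theorem three_conj : ∀ r : Perm (Fin 5), r ^ 3 = 1 → r ≠ 1 →
    ∃ h : Perm (Fin 5), sign h = 1 ∧ h * c034 = r * h := by decide +kernel

theorem invol_conj : ∀ q : Perm (Fin 5), sign q = 1 → q * q = 1 → q ≠ 1 →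
    ∃ h : Perm (Fin 5), sign h = 1 ∧ h * a5 = q * h := by decide +kernel

theorem norm_c034_card :
    Fintype.card {q : Perm (Fin 5) // q * c034 * q⁻¹ = c034 ∨ q * c034 * q⁻¹ = c034⁻¹} = 12 := by decide +kernel

theorem cent_four : ∀ q : Perm (Fin 5), q * a5 = a5 * q → q * b5 = b5 * q →
    q = 1 ∨ q = a5 ∨ q = b5 ∨ q = a5 * b5 := by decide +kernel

theorem alt_four_gen : ∀ q : Perm (Fin 5), sign q = 1 → q 0 = 0 →
    ∃ i j : Fin 2, ∃ k : Fin 3, q = a5 ^ i.val * b5 ^ j.val * c234 ^ k.val := by decide +kernel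

theorem engel_five : ∀ r : Perm (Fin 5), r ^ 3 = 1 → r ≠ 1 → ∀ q : Perm (Fin 5), sign q = 1 →
    q * (r * q * r⁻¹) = r * q * r⁻¹ * q → q * q = 1 ∨ q ^ 3 = 1 := by decide +kernel

set_option synthInstance.maxSize 1024 in
theorem braid_aux : ∀ τ : Perm (Fin 5), sign τ = -1 → τ * τ = 1 → τ * c034 * τ⁻¹ = c034⁻¹ →
    ∀ w : Perm (Fin 5), sign w = 1 → w * w = 1 → w ≠ 1 → τ * w = w * τ → (c034 * w) ^ 3 = 1 →
    ∀ a : Perm (Fin 5), sign a = 1 → a * a = 1 → a * τ = τ * a → a * c034 * a⁻¹ = c034⁻¹ → (w * a) ^ 3 = 1 := by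
  decide +kernel

theorem braid_five {τ w a r : Perm (Fin 5)} (hr : r ^ 3 = 1) (hr1 : r ≠ 1) (hτs : sign τ = -1) (hτ : τ * τ = 1)
    (hτr : τ * r * τ⁻¹ = r⁻¹) (hws : sign w = 1) (hw : w * w = 1) (hw1 : w ≠ 1) (hτw : τ * w = w * τ)
    (hrw : (r * w) ^ 3 = 1) (has : sign a = 1) (ha : a * a = 1) (haτ : a * τ = τ * a) (har : a * r * a⁻¹ = r⁻¹) :
    (w * a) ^ 3 = 1 := by
  obtain ⟨h, -, hh⟩ := three_conj r hr hr1
  set f := MulAut.conj h⁻¹ with hf
  have hfr : f r = c034 := by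
    rw [hf, MulAut.conj_apply, inv_inv, mul_assoc h⁻¹, ← hh, inv_mul_cancel_left]
  have hs : ∀ x, sign (f x) = sign x := fun x => by rw [hf, MulAut.conj_apply]; simp [map_mul, mul_comm, ← mul_assoc]
  have := braid_aux (f τ) (by rw [hs, hτs]) (by rw [← map_mul, hτ, map_one])
    (by rw [← hfr, ← map_inv, ← map_inv, ← map_mul, ← map_mul, hτr]) (f w) (by rw [hs, hws])
    (by rw [← map_mul, hw, map_one]) (fun e => hw1 ((map_eq_one_iff f f.injective).1 e)) (by rw [← map_mul, ← map_mul, hτw])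
    (by rw [← hfr, ← map_mul, ← map_pow, hrw, map_one]) (f a) (by rw [hs, has]) (by rw [← map_mul, ha, map_one])
    (by rw [← map_mul, ← map_mul, haτ]) (by rw [← hfr, ← map_inv, ← map_inv, ← map_mul, ← map_mul, har])
  rw [← map_mul, ← map_pow] at this
  exact (map_eq_one_iff f f.injective).1 this

end CfsgLib.A8ThreeLocal
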